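import Mathlib
import Cfsg.Agent.OddHalf.D5.TForm
import Cfsg.Agent.OddHalf.D5.Defs

-- merged: Cfsg.Agent.OddHalf.D5.CTPerm
section

/-!
# ODD D5, clean case: permutations (helper522)
-/

set_option autoImplicit false

namespace Cfsg.Agent.OddHalf.D5.CleanTwo

open Equiv Equiv.Perm

variable {Ω : Type*} [Fintype Ω] [DecidableEq Ω]

theorem cycleType_of_sq {σ : Perm Ω} (h : σ * σ = 1) :
    σ.cycleType = Multiset.replicate (Multiset.card σ.cycleType) 2 := by
  rw [Multiset.eq_replicate]
  refine ⟨rfl, fun n hn => ?_⟩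
  have h1 : n ∣ 2 := (dvd_of_mem_cycleType hn).trans (orderOf_dvd_of_pow_eq_one (by rw [pow_two, h]))
  have h2 := two_le_of_mem_cycleType hn
  exact le_antisymm (Nat.le_of_dvd (by norm_num) h1) h2

theorem card_support_of_sq {σ : Perm Ω} (h : σ * σ = 1) :
    σ.support.card = 2 * Multiset.card σ.cycleType := by
  have h1 := σ.sum_cycleType
  rw [← h1]
  conv_lhs => rw [cycleType_of_sq h]
  rw [Multiset.sum_replicate, smul_eq_mul, mul_comm]

theorem sign_of_sq {σ : Perm Ω} (h : σ * σ = 1) :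
    Perm.sign σ = (-1) ^ (σ.support.card / 2) := by
  rw [sign_of_cycleType, ← sum_cycleType]
  conv_lhs => rw [cycleType_of_sq h]
  conv_rhs => rw [cycleType_of_sq h]
  rw [Multiset.sum_replicate, Multiset.card_replicate, smul_eq_mul]
  set n := Multiset.card σ.cycleType
  rw [Nat.mul_div_cancel _ (by norm_num : 0 < 2), pow_add, pow_mul, pow_right_comm]
  rcases Int.units_eq_one_or ((-1 : ℤˣ) ^ n) with h | h <;> simp [h]

theorem four_dvd {σ : Perm Ω} (h : σ * σ = 1) (hs : Perm.sign σ = 1) : 4 ∣ σ.support.card := by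
  have h1 := sign_of_sq h
  rw [hs] at h1
  have h2 := card_support_of_sq h
  set n := Multiset.card σ.cycleType
  rw [h2, Nat.mul_div_cancel_left _ (by norm_num : 0 < 2)] at h1
  have h3 : Even n := by
    by_contra hne
    rw [Nat.not_even_iff_odd] at hne
    rw [hne.neg_one_pow] at h1
    exact absurd h1 (by decide)
  obtain ⟨m, hm⟩ := h3
  exact ⟨m, by rw [h2, hm]; ring⟩

theorem isConj_of_card {σ τ : Perm Ω} (hσ : σ * σ = 1) (hτ : τ * τ = 1)
    (h : σ.support.card = τ.support.card) : IsConj σ τ := by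
  rw [isConj_iff_cycleType_eq, cycleType_of_sq hσ, cycleType_of_sq hτ]
  rw [card_support_of_sq hσ, card_support_of_sq hτ] at h
  rw [Nat.eq_of_mul_eq_mul_left (by norm_num) h]

/-- Even involutions with the same number of moved points are conjugate in the alternating group. -/
theorem conj_alt {a b : alternatingGroup Ω} (ha : a * a = 1) (hb : b * b = 1)
    (h : (a : Perm Ω).support.card = (b : Perm Ω).support.card) :
    ∃ c : alternatingGroup Ω, c * a * c⁻¹ = b := by
  have ha' : (a : Perm Ω) * a = 1 := congrArg Subtype.val ha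
  have hb' : (b : Perm Ω) * b = 1 := congrArg Subtype.val hb
  obtain ⟨c, hc⟩ := isConj_iff.1 (isConj_of_card ha' hb' h)
  by_cases hs : Perm.sign c = 1
  · exact ⟨⟨c, hs⟩, Subtype.ext hc⟩
  have hs1 : Perm.sign c = -1 := (Int.units_eq_one_or _).resolve_left hs
  by_cases h1 : (a : Perm Ω) = 1
  · refine ⟨1, Subtype.ext ?_⟩
    rw [h1] at hc
    show (1 : Perm Ω) * a * 1⁻¹ = b
    rw [← hc, h1]; group
  have hx : ∃ x, (a : Perm Ω) x ≠ x := by
    by_contra hne
    push Not at hne
    exact h1 (Equiv.ext hne)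
  obtain ⟨x, hx⟩ := hx
  have hcomm : (a : Perm Ω) * swap x ((a : Perm Ω) x) = swap x ((a : Perm Ω) x) * a := by
    rw [mul_swap_eq_swap_mul, swap_comm]
    congr 2
    exact (congrFun (congrArg DFunLike.coe ha') x)
  refine ⟨⟨c * swap x ((a : Perm Ω) x), ?_⟩, Subtype.ext ?_⟩
  · rw [mem_alternatingGroup, map_mul, hs1, sign_swap hx.symm]
    decide
  · show c * swap x ((a : Perm Ω) x) * a * (c * swap x ((a : Perm Ω) x))⁻¹ = b
    rw [mul_assoc c, ← hcomm, mul_inv_rev, swap_inv, ← hc]
    calc c * ((a : Perm Ω) * swap x ((a : Perm Ω) x)) * (swap x ((a : Perm Ω) x) * c⁻¹)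
        = c * a * (swap x ((a : Perm Ω) x) * swap x ((a : Perm Ω) x)) * c⁻¹ := by group
      _ = c * a * c⁻¹ := by rw [swap_mul_self, mul_one]

omit [Fintype Ω] [DecidableEq Ω] in
theorem app_app {σ : Perm Ω} (h : σ * σ = 1) (x : Ω) : σ (σ x) = x :=
  congrFun (congrArg DFunLike.coe h) x

omit [Fintype Ω] in
theorem conj_swap (r : Perm Ω) (a b : Ω) : r * swap a b * r⁻¹ = swap (r a) (r b) := by
  rw [mul_swap_eq_swap_mul, mul_inv_cancel_right]

/-- an involution with four moved points -/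
theorem eq_swap_swap {σ : Perm Ω} (h : σ * σ = 1) (h4 : σ.support.card = 4) {p q : Ω}
    (hp : σ p ≠ p) (hq : σ q ≠ q) (hpq : q ≠ p) (hpq' : q ≠ σ p) :
    σ = swap p (σ p) * swap q (σ q) := by
  have hqp : σ q ≠ p := fun e => hpq' (by rw [← e, app_app h])
  have hqp' : σ q ≠ σ p := fun e => hpq (σ.injective e)
  have hS : ({p, σ p, q, σ q} : Finset Ω) = σ.support := by
    apply Finset.eq_of_subset_of_card_le
    · intro x hx
      simp only [Finset.mem_insert, Finset.mem_singleton] at hx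
      rw [mem_support]
      rcases hx with rfl | rfl | rfl | rfl
      · exact hp
      · rw [app_app h]; exact hp.symm
      · exact hq
      · rw [app_app h]; exact hq.symm
    · rw [h4, Finset.card_insert_of_notMem, Finset.card_insert_of_notMem, Finset.card_insert_of_notMem,
        Finset.card_singleton]
      · simp [hq.symm]
      · simp [hpq'.symm, hqp'.symm]
      · simp [hp.symm, hpq.symm, hqp.symm]
  ext x
  by_cases hx : x ∈ σ.support
  · rw [← hS] at hx
    simp only [Finset.mem_insert, Finset.mem_singleton] at hx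
    rw [Perm.mul_apply]
    rcases hx with rfl | rfl | rfl | rfl
    · rw [swap_apply_of_ne_of_ne hpq.symm hqp.symm, swap_apply_left]
    · rw [swap_apply_of_ne_of_ne hpq'.symm hqp'.symm, swap_apply_right, app_app h]
    · rw [swap_apply_left, swap_apply_of_ne_of_ne hqp hqp']
    · rw [swap_apply_right, swap_apply_of_ne_of_ne hpq hpq', app_app h]
  · rw [notMem_support] at hx
    have h1 : x ≠ p := by rintro rfl; exact hp hx
    have h2 : x ≠ σ p := by rintro rfl; rw [app_app h] at hx; exact hp hx.symm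
    have h3 : x ≠ q := by rintro rfl; exact hq hx
    have h4 : x ≠ σ q := by rintro rfl; rw [app_app h] at hx; exact hq hx.symm
    rw [Perm.mul_apply, swap_apply_of_ne_of_ne h3 h4, swap_apply_of_ne_of_ne h1 h2, hx]

/-- A four-group all of whose involutions move four points is rotated by an even permutation supported
on its moved points. -/
theorem exists_rot {a b : Perm Ω} (ha : a * a = 1) (hb : b * b = 1) (hab : a * b = b * a)
    (ha4 : a.support.card = 4) (hb4 : b.support.card = 4) (hab4 : (a * b).support.card = 4) :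
    ∃ r : Perm Ω, Perm.sign r = 1 ∧ r * a * r⁻¹ = b ∧ r * b * r⁻¹ = a * b ∧
      ∀ x, a x = x → b x = x → r x = x := by
  have hc : (a * b) * (a * b) = 1 := by
    calc (a * b) * (a * b) = a * (b * a) * b := by group
      _ = (a * a) * (b * b) := by rw [← hab]; group
      _ = 1 := by rw [ha, hb, one_mul]
  have hba : ∀ x, b (a x) = a (b x) := fun x => (congrFun (congrArg DFunLike.coe hab) x).symm
  by_cases hcase : ∃ p, a p ≠ p ∧ b p ≠ p ∧ b p ≠ a p
  · obtain ⟨p, h1, h2, h3⟩ := hcase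
    have h4 : a (b p) ≠ p := fun e => h3 (by rw [← e, app_app ha, e])
    have h5 : a (b p) ≠ a p := fun e => h2 (a.injective e)
    have h6 : a (b p) ≠ b p := by
      rw [← hba]; exact fun e => h1 (b.injective e)
    have ea : a = swap p (a p) * swap (b p) (a (b p)) :=
      eq_swap_swap ha ha4 h1 h6 h2 h3
    have eb : b = swap p (b p) * swap (a p) (a (b p)) := by
      have := eq_swap_swap hb hb4 (p := p) (q := a p) h2 (by rw [hba]; exact h5) h1 h3.symm
      rwa [hba] at this
    have ec : a * b = swap p (a (b p)) * swap (a p) (b p) := by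
      have := eq_swap_swap hc hab4 (p := p) (q := a p) (by rw [Perm.mul_apply]; exact h4)
        (by rw [Perm.mul_apply, hba, app_app ha]; exact h3) h1 (by rw [Perm.mul_apply]; exact h5.symm)
      rwa [Perm.mul_apply, Perm.mul_apply, hba, app_app ha] at this
    set r : Perm Ω := swap (a p) (b p) * swap (b p) (a (b p)) with hr
    have r1 : r p = p := by
      rw [hr, Perm.mul_apply, swap_apply_of_ne_of_ne h2.symm h4.symm, swap_apply_of_ne_of_ne h1.symm h2.symm]
    have r2 : r (a p) = b p := by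
      rw [hr, Perm.mul_apply, swap_apply_of_ne_of_ne h3.symm h5.symm, swap_apply_left]
    have r3 : r (b p) = a (b p) := by
      rw [hr, Perm.mul_apply, swap_apply_left, swap_apply_of_ne_of_ne h5 h6]
    have r4 : r (a (b p)) = a p := by
      rw [hr, Perm.mul_apply, swap_apply_right, swap_apply_right]
    refine ⟨r, ?_, ?_, ?_, ?_⟩
    · rw [hr, map_mul, sign_swap h3.symm, sign_swap h6.symm]; decide
    · calc r * a * r⁻¹ = r * (swap p (a p) * swap (b p) (a (b p))) * r⁻¹ := by rw [← ea]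
        _ = (r * swap p (a p) * r⁻¹) * (r * swap (b p) (a (b p)) * r⁻¹) := by group
        _ = b := by rw [conj_swap, conj_swap, r1, r2, r3, r4, swap_comm (a (b p)) (a p), ← eb]
    · calc r * b * r⁻¹ = r * (swap p (b p) * swap (a p) (a (b p))) * r⁻¹ := by rw [← eb]
        _ = (r * swap p (b p) * r⁻¹) * (r * swap (a p) (a (b p)) * r⁻¹) := by group
        _ = a * b := by rw [conj_swap, conj_swap, r1, r2, r3, r4, swap_comm (b p) (a p), ← ec]
    · intro x hxa hxb
      have e1 : x ≠ a p := by rintro rfl; rw [app_app ha] at hxa; exact h1 hxa.symm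
      have e2 : x ≠ b p := by rintro rfl; rw [app_app hb] at hxb; exact h2 hxb.symm
      have e3 : x ≠ a (b p) := by
        rintro rfl
        rw [app_app ha] at hxa
        exact h6 hxa.symm
      rw [hr, Perm.mul_apply, swap_apply_of_ne_of_ne e2 e3, swap_apply_of_ne_of_ne e1 e2]
  · push Not at hcase
    -- supports
    have hS : (a * b).support = (a.support \ b.support) ∪ (b.support \ a.support) := by
      ext x
      simp only [mem_support, Finset.mem_union, Finset.mem_sdiff, Perm.mul_apply, not_not]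
      constructor
      · intro h
        by_cases hax : a x = x
        · right
          refine ⟨fun e => h (by rw [e, hax]), hax⟩
        · by_cases hbx : b x = x
          · exact Or.inl ⟨hax, hbx⟩
          · exfalso
            exact h (by rw [hcase x hax hbx, app_app ha])
      · rintro (⟨h1, h2⟩ | ⟨h1, h2⟩)
        · rw [h2]; exact h1
        · intro e
          rw [← hba, h2] at e
          exact h1 e
    have hcard : (a.support \ b.support).card + (b.support \ a.support).card = 4 := by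
      rw [← hab4, hS, Finset.card_union_of_disjoint]
      exact Finset.disjoint_left.2 fun x hx hx' => (Finset.mem_sdiff.1 hx').2 (Finset.mem_sdiff.1 hx).1
    have e1 := Finset.card_sdiff_add_card_inter a.support b.support
    have e2 := Finset.card_sdiff_add_card_inter b.support a.support
    rw [Finset.inter_comm b.support] at e2
    have n1 : (a.support \ b.support).card = 2 := by omega
    have n2 : (b.support \ a.support).card = 2 := by omega
    have n3 : (a.support ∩ b.support).card = 2 := by omega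
    obtain ⟨p, hp⟩ : (a.support ∩ b.support).Nonempty := Finset.card_pos.1 (by omega)
    obtain ⟨q, hq⟩ : (a.support \ b.support).Nonempty := Finset.card_pos.1 (by omega)
    obtain ⟨s, hs⟩ : (b.support \ a.support).Nonempty := Finset.card_pos.1 (by omega)
    rw [Finset.mem_inter, mem_support, mem_support] at hp
    rw [Finset.mem_sdiff, mem_support, mem_support, not_not] at hq hs
    obtain ⟨pa, pb⟩ := hp
    obtain ⟨qa, qb⟩ := hq
    obtain ⟨sb, sa⟩ := hs
    have hpp : b p = a p := hcase p pa pb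
    have qp : q ≠ p := by rintro rfl; exact pb qb
    have qp' : q ≠ a p := by
      rintro rfl
      rw [hba, hpp] at qb
      exact pa (a.injective qb)
    have sp : s ≠ p := by rintro rfl; exact pa sa
    have sp' : s ≠ a p := by
      rintro rfl
      rw [app_app ha] at sa
      exact pa sa.symm
    have sq : s ≠ q := by rintro rfl; exact qa sa
    have sq' : s ≠ a q := by
      rintro rfl
      rw [app_app ha] at sa
      exact qa sa.symm
    have hqb : b (a q) = a q := by rw [hba, qb]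
    have hsa : a (b s) = b s := by rw [← hba, sa]
    have sp2 : b s ≠ p := by intro e; rw [e] at hsa; exact pa hsa
    have sp3 : b s ≠ a p := by intro e; rw [e, app_app ha] at hsa; exact pa hsa.symm
    have sq2 : b s ≠ q := by intro e; rw [e] at hsa; exact qa hsa
    have sq3 : b s ≠ a q := by intro e; rw [e, app_app ha] at hsa; exact qa hsa.symm
    have qp2 : a q ≠ p := fun e => qp' (by rw [← e, app_app ha])
    have qp3 : a q ≠ a p := fun e => qp (a.injective e)
    have ea : a = swap p (a p) * swap q (a q) := eq_swap_swap ha ha4 pa qa qp qp'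
    have eb : b = swap p (a p) * swap s (b s) := by
      have := eq_swap_swap hb hb4 pb sb sp (by rw [hpp]; exact sp')
      rwa [hpp] at this
    have ec : a * b = swap q (a q) * swap s (b s) := by
      have := eq_swap_swap hc hab4 (p := q) (q := s) (by rw [Perm.mul_apply, qb]; exact qa)
        (by rw [Perm.mul_apply, hsa]; exact sb) sq (by rw [Perm.mul_apply, qb]; exact sq')
      rwa [Perm.mul_apply, Perm.mul_apply, qb, hsa] at this
    set r : Perm Ω := (swap p s * swap s q) * (swap (a p) (b s) * swap (b s) (a q)) with hr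
    have r1 : r p = s := by
      rw [hr, Perm.mul_apply, Perm.mul_apply, Perm.mul_apply, swap_apply_of_ne_of_ne sp2.symm qp2.symm,
        swap_apply_of_ne_of_ne pa.symm sp2.symm, swap_apply_of_ne_of_ne sp.symm qp.symm,
        swap_apply_left]
    have r2 : r (a p) = b s := by
      rw [hr, Perm.mul_apply, Perm.mul_apply, Perm.mul_apply, swap_apply_of_ne_of_ne sp3.symm qp3.symm, swap_apply_left,
        swap_apply_of_ne_of_ne sb sq2, swap_apply_of_ne_of_ne sp2 sb]
    have r3 : r q = p := by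
      rw [hr, Perm.mul_apply, Perm.mul_apply, Perm.mul_apply, swap_apply_of_ne_of_ne sq2.symm qa.symm,
        swap_apply_of_ne_of_ne qp' sq2.symm, swap_apply_right, swap_apply_right]
    have r4 : r (a q) = a p := by
      rw [hr, Perm.mul_apply, Perm.mul_apply, Perm.mul_apply, swap_apply_right, swap_apply_right,
        swap_apply_of_ne_of_ne sp'.symm qp'.symm, swap_apply_of_ne_of_ne pa sp'.symm]
    have r5 : r s = q := by
      rw [hr, Perm.mul_apply, Perm.mul_apply, Perm.mul_apply, swap_apply_of_ne_of_ne sb.symm sq',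
        swap_apply_of_ne_of_ne sp' sb.symm, swap_apply_left, swap_apply_of_ne_of_ne qp sq.symm]
    have r6 : r (b s) = a q := by
      rw [hr, Perm.mul_apply, Perm.mul_apply, Perm.mul_apply, swap_apply_left, swap_apply_of_ne_of_ne qp3 sq3.symm,
        swap_apply_of_ne_of_ne sq'.symm qa, swap_apply_of_ne_of_ne qp2 sq'.symm]
    refine ⟨r, ?_, ?_, ?_, ?_⟩
    · rw [hr, map_mul, map_mul, map_mul, sign_swap sp.symm, sign_swap sq, sign_swap sp3.symm,
        sign_swap sq3]
      decide
    · calc r * a * r⁻¹ = r * (swap p (a p) * swap q (a q)) * r⁻¹ := by rw [← ea]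
        _ = (r * swap p (a p) * r⁻¹) * (r * swap q (a q) * r⁻¹) := by group
        _ = swap s (b s) * swap p (a p) := by rw [conj_swap, conj_swap, r1, r2, r3, r4]
        _ = (swap p (a p) * swap s (b s))⁻¹ := by rw [mul_inv_rev, swap_inv, swap_inv]
        _ = b := by rw [← eb]; exact inv_eq_of_mul_eq_one_left hb
    · calc r * b * r⁻¹ = r * (swap p (a p) * swap s (b s)) * r⁻¹ := by rw [← eb]
        _ = (r * swap p (a p) * r⁻¹) * (r * swap s (b s) * r⁻¹) := by group
        _ = swap s (b s) * swap q (a q) := by rw [conj_swap, conj_swap, r1, r2, r5, r6]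
        _ = (swap q (a q) * swap s (b s))⁻¹ := by rw [mul_inv_rev, swap_inv, swap_inv]
        _ = a * b := by rw [← ec]; exact inv_eq_of_mul_eq_one_left hc
    · intro x hxa hxb
      have f1 : x ≠ p := by rintro rfl; exact pa hxa
      have f2 : x ≠ a p := by rintro rfl; rw [app_app ha] at hxa; exact pa hxa.symm
      have f3 : x ≠ q := by rintro rfl; exact qa hxa
      have f4 : x ≠ a q := by rintro rfl; rw [app_app ha] at hxa; exact qa hxa.symm
      have f5 : x ≠ s := by rintro rfl; exact sb hxb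
      have f6 : x ≠ b s := by rintro rfl; rw [app_app hb] at hxb; exact sb hxb.symm
      rw [hr, Perm.mul_apply, Perm.mul_apply, Perm.mul_apply, swap_apply_of_ne_of_ne f6 f4, swap_apply_of_ne_of_ne f2 f6,
        swap_apply_of_ne_of_ne f5 f3, swap_apply_of_ne_of_ne f1 f5]

/-- The 3-cycle `x ↦ b ↦ c ↦ x`. -/
def cyc3 (x b c : Ω) : Perm Ω := swap x b * swap b c

theorem cyc3_sign {x b c : Ω} (h1 : x ≠ b) (h2 : b ≠ c) : Perm.sign (cyc3 x b c) = 1 := by
  rw [cyc3, map_mul, sign_swap h1, sign_swap h2]; decide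

omit [Fintype Ω] in
theorem cyc3_x {x b c : Ω} (h1 : x ≠ b) (h3 : x ≠ c) : cyc3 x b c x = b := by
  rw [cyc3, Perm.mul_apply, swap_apply_of_ne_of_ne h1 h3, swap_apply_left]

omit [Fintype Ω] in
theorem cyc3_b {x b c : Ω} (h2 : b ≠ c) (h3 : x ≠ c) : cyc3 x b c b = c := by
  rw [cyc3, Perm.mul_apply, swap_apply_left, swap_apply_of_ne_of_ne h3.symm h2.symm]

omit [Fintype Ω] in
theorem cyc3_c {x b c : Ω} : cyc3 x b c c = x := by
  rw [cyc3, Perm.mul_apply, swap_apply_right, swap_apply_right]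

omit [Fintype Ω] in
theorem cyc3_ne {x b c y : Ω} (h1 : y ≠ x) (h2 : y ≠ b) (h3 : y ≠ c) : cyc3 x b c y = y := by
  rw [cyc3, Perm.mul_apply, swap_apply_of_ne_of_ne h2 h3, swap_apply_of_ne_of_ne h1 h2]

/-- `y` commutes with all even permutations supported on `S` -/
def CommAlt (y : Perm Ω) (S : Finset Ω) : Prop :=
  ∀ r : Perm Ω, Perm.sign r = 1 → (∀ x, x ∉ S → r x = x) → y * r = r * y

theorem CommAlt.cyc {y : Perm Ω} {S : Finset Ω} (h : CommAlt y S) {x b c : Ω} (hx : x ∈ S) (hb : b ∈ S)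
    (hc : c ∈ S) (h1 : x ≠ b) (h2 : b ≠ c) (z : Ω) : y (cyc3 x b c z) = cyc3 x b c (y z) := by
  have := h (cyc3 x b c) (cyc3_sign h1 h2) (fun w hw => cyc3_ne (fun e => hw (e ▸ hx))
    (fun e => hw (e ▸ hb)) (fun e => hw (e ▸ hc)))
  exact congrFun (congrArg DFunLike.coe this) z

theorem CommAlt.fix {y : Perm Ω} {S : Finset Ω} (h : CommAlt y S) (hS : 3 ≤ S.card) (hy : y * y = 1)
    {x : Ω} (hx : x ∈ S) : y x = x := by
  obtain ⟨b, hb, hbx⟩ := Finset.exists_mem_ne (by omega : 1 < S.card) x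
  have h3 : 1 < (S.erase x).card := by rw [Finset.card_erase_of_mem hx]; omega
  obtain ⟨c, hc, hcb⟩ := Finset.exists_mem_ne h3 b
  have hcx := (Finset.mem_erase.1 hc).1
  have hc := (Finset.mem_erase.1 hc).2
  by_contra hne
  have k := h.cyc hx hb hc hbx.symm hcb.symm
  by_cases e1 : y x = b
  · have e2 : y b = x := by rw [← e1, app_app hy]
    have k1 := k x
    rw [cyc3_x hbx.symm hcx.symm, e2, e1, cyc3_b hcb.symm hcx.symm] at k1
    exact hcx k1.symm
  by_cases e2 : y x = c
  · have k1 := k x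
    rw [cyc3_x hbx.symm hcx.symm, e2, cyc3_c] at k1
    exact hcb (by rw [← e2, ← k1, app_app hy])
  have k1 := k x
  rw [cyc3_x hbx.symm hcx.symm, cyc3_ne hne e1 e2] at k1
  exact hbx (y.injective k1)

theorem CommAlt.sign {y : Perm Ω} {S : Finset Ω} (h : CommAlt y S) (hS : 3 ≤ S.card)
    (hy : ∀ x, x ∉ S → y x = x) : Perm.sign y = 1 := by
  by_cases hy1 : y = 1
  · rw [hy1, map_one]
  have hx : ∃ x, y x ≠ x := by
    by_contra hne
    push Not at hne
    exact hy1 (Equiv.ext hne)
  obtain ⟨x, hx⟩ := hx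
  have hxS : x ∈ S := by
    by_contra hne
    exact hx (hy x hne)
  have hbS : y x ∈ S := by
    by_contra hne
    exact hx (y.injective (hy _ hne))
  have h3 : ∃ c ∈ S, c ≠ x ∧ c ≠ y x := by
    have h3 : 1 < (S.erase x).card := by rw [Finset.card_erase_of_mem hxS]; omega
    obtain ⟨c, hc, hcb⟩ := Finset.exists_mem_ne h3 (y x)
    exact ⟨c, (Finset.mem_erase.1 hc).2, (Finset.mem_erase.1 hc).1, hcb⟩
  obtain ⟨c, hc, hcx, hcb⟩ := h3
  have e1 : y (y x) = c := by
    have := h.cyc hxS hbS hc hx.symm hcb.symm x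
    rwa [cyc3_x hx.symm hcx.symm, cyc3_b hcb.symm hcx.symm] at this
  have e2 : y c = x := by
    have := h.cyc hxS hbS hc hx.symm hcb.symm (y x)
    rwa [cyc3_b hcb.symm hcx.symm, e1, cyc3_c] at this
  have hyc : y = cyc3 x (y x) c := by
    ext z
    by_cases z1 : z = x
    · rw [z1, cyc3_x hx.symm hcx.symm]
    by_cases z2 : z = y x
    · rw [z2, cyc3_b hcb.symm hcx.symm, e1]
    by_cases z3 : z = c
    · rw [z3, cyc3_c, e2]
    rw [cyc3_ne z1 z2 z3]
    apply hy
    intro hz
    have := h.cyc hbS hc hz hcb.symm (Ne.symm z3) x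
    rw [cyc3_ne hx.symm hcx.symm (Ne.symm z1), cyc3_x hcb.symm (Ne.symm z2)] at this
    exact hcb this.symm
  rw [hyc]
  exact cyc3_sign hx.symm hcb.symm

end Cfsg.Agent.OddHalf.D5.CleanTwo

end

-- merged: Cfsg.Agent.OddHalf.D5.CTView
section

/-!
# ODD D5, clean case: the two views (helper522)

`Spl t ι` : `C_G(t) = ⟨t⟩ × ι(Alt Ω)`. `Pair t ι w κ` : moreover `u = t ι(w)` is conjugate to `t` and `κ` is the
corresponding embedding for `u`; no conjugate of `t` lies in `ι(Alt Ω)`.

`Pair.gamma`: the alternating group on the fixed points of `w` is the same for `t` and for `u`.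
-/

set_option autoImplicit false

namespace Cfsg.Agent.OddHalf.D5.CleanTwo

open Equiv Equiv.Perm

variable {G : Type*} [Group G] {Ω : Type*} [Fintype Ω] [DecidableEq Ω]

/-- `C_G(t) = ⟨t⟩ × ι(Alt Ω)`. -/
structure Spl (t : G) (ι : alternatingGroup Ω →* G) : Prop where
  tt : t * t = 1
  inj : Function.Injective ι
  comm : ∀ a, t * ι a = ι a * t
  cent : ∀ g, g * t = t * g → (∃ a, g = ι a) ∨ ∃ a, g = t * ι a
  ne : ∀ a, ι a ≠ t

theorem Spl.conj {t : G} {ι : alternatingGroup Ω →* G} (h : Spl t ι) (x : G) :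
    Spl (x * t * x⁻¹) ((MulAut.conj x).toMonoidHom.comp ι) where
  tt := by
    calc x * t * x⁻¹ * (x * t * x⁻¹) = x * (t * t) * x⁻¹ := by group
      _ = 1 := by rw [h.tt]; group
  inj := (MulAut.conj x).injective.comp h.inj
  comm := by
    intro a
    show x * t * x⁻¹ * (x * ι a * x⁻¹) = x * ι a * x⁻¹ * (x * t * x⁻¹)
    calc x * t * x⁻¹ * (x * ι a * x⁻¹) = x * (t * ι a) * x⁻¹ := by group
      _ = x * (ι a * t) * x⁻¹ := by rw [h.comm a]
      _ = x * ι a * x⁻¹ * (x * t * x⁻¹) := by group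
  cent := by
    intro g hg
    have h1 : (x⁻¹ * g * x) * t = t * (x⁻¹ * g * x) := by
      calc (x⁻¹ * g * x) * t = x⁻¹ * (g * (x * t * x⁻¹)) * x := by group
        _ = x⁻¹ * (x * t * x⁻¹ * g) * x := by rw [hg]
        _ = t * (x⁻¹ * g * x) := by group
    rcases h.cent _ h1 with ⟨a, ha⟩ | ⟨a, ha⟩
    · left
      refine ⟨a, ?_⟩
      show g = x * ι a * x⁻¹
      rw [← ha]; group
    · right
      refine ⟨a, ?_⟩
      show g = x * t * x⁻¹ * (x * ι a * x⁻¹)
      calc g = x * (x⁻¹ * g * x) * x⁻¹ := by group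
        _ = x * t * x⁻¹ * (x * ι a * x⁻¹) := by rw [ha]; group
  ne := by
    intro a e
    apply h.ne a
    have e' : x * ι a * x⁻¹ = x * t * x⁻¹ := e
    exact mul_left_cancel (mul_right_cancel e')

/-- Conjugacy only depends on the number of moved points. -/
theorem Spl.inD_iff {t : G} {ι : alternatingGroup Ω →* G} (h : Spl t ι) {a b : alternatingGroup Ω}
    (ha : a * a = 1) (hb : b * b = 1) (hab : (a : Perm Ω).support.card = (b : Perm Ω).support.card) :
    IsConj t (t * ι a) → IsConj t (t * ι b) := by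
  intro hc
  obtain ⟨c, hc'⟩ := conj_alt ha hb hab
  refine hc.trans (isConj_iff.2 ⟨ι c, ?_⟩)
  rw [← hc', map_mul, map_mul, map_inv]
  calc ι c * (t * ι a) * (ι c)⁻¹ = (ι c * t) * ι a * (ι c)⁻¹ := by group
    _ = (t * ι c) * ι a * (ι c)⁻¹ := by rw [h.comm]
    _ = t * (ι c * ι a * (ι c)⁻¹) := by group

/-- If `t ι(a)` is conjugate to `t`, then `a² = 1`. -/
theorem Spl.sq_of_inD {t : G} {ι : alternatingGroup Ω →* G} (h : Spl t ι) {a : alternatingGroup Ω}
    (ha : IsConj t (t * ι a)) : a * a = 1 := by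
  obtain ⟨g, hg⟩ := isConj_iff.1 ha
  have h1 : (t * ι a) * (t * ι a) = 1 := by
    rw [← hg]
    calc g * t * g⁻¹ * (g * t * g⁻¹) = g * (t * t) * g⁻¹ := by group
      _ = 1 := by rw [h.tt]; group
  apply h.inj
  rw [map_mul, map_one, ← h1]
  calc ι a * ι a = (t * t) * ι a * ι a := by rw [h.tt, one_mul]
    _ = t * (t * ι a) * ι a := by group
    _ = t * (ι a * t) * ι a := by rw [h.comm]
    _ = (t * ι a) * (t * ι a) := by group

/-- The two views. -/
structure Pair (t : G) (ι : alternatingGroup Ω →* G) (w : alternatingGroup Ω)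
    (κ : alternatingGroup Ω →* G) : Prop where
  ht : Spl t ι
  hu : Spl (t * ι w) κ
  ww : w * w = 1
  iff : ∀ c, IsConj t (t * ι c) ↔ IsConj t (t * ι w * κ c)
  hK : ∀ c, ¬ IsConj t (ι c)
  hK' : ∀ c, ¬ IsConj t (κ c)

theorem Spl.exists_pair {t : G} {ι : alternatingGroup Ω →* G} (h : Spl t ι) (hK : ∀ c, ¬ IsConj t (ι c))
    {w : alternatingGroup Ω} (hw : IsConj t (t * ι w)) : ∃ κ : alternatingGroup Ω →* G, Pair t ι w κ := by
  obtain ⟨g, hg⟩ := isConj_iff.1 hw
  refine ⟨(MulAut.conj g).toMonoidHom.comp ι, ⟨h, ?_, h.sq_of_inD hw, ?_, hK, ?_⟩⟩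
  · rw [← hg]
    exact h.conj g
  · intro c
    have e : t * ι w * ((MulAut.conj g).toMonoidHom.comp ι) c = g * (t * ι c) * g⁻¹ := by
      rw [← hg]
      show g * t * g⁻¹ * (g * ι c * g⁻¹) = _
      group
    rw [e]
    have h1 : IsConj (t * ι c) (g * (t * ι c) * g⁻¹) := isConj_iff.2 ⟨g, rfl⟩
    exact ⟨fun h2 => h2.trans h1, fun h2 => h2.trans h1.symm⟩
  · intro c hc
    apply hK c
    have h1 : IsConj (ι c) (((MulAut.conj g).toMonoidHom.comp ι) c) := isConj_iff.2 ⟨g, rfl⟩
    exact hc.trans h1.symm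

namespace Pair

variable {t : G} {ι κ : alternatingGroup Ω →* G} {w : alternatingGroup Ω}

/-- an element of `ι(Alt Ω)` commuting with `w` commutes with `u` -/
theorem comm_u (P : Pair t ι w κ) {f : alternatingGroup Ω} (hf : f * w = w * f) :
    ι f * (t * ι w) = (t * ι w) * ι f := by
  calc ι f * (t * ι w) = (ι f * t) * ι w := by group
    _ = t * ι f * ι w := by rw [P.ht.comm]
    _ = t * ι (f * w) := by rw [map_mul]; group
    _ = (t * ι w) * ι f := by rw [hf, map_mul]; group

/-- the hyperplane argument -/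
theorem pull (P : Pair t ι w κ) {c d : alternatingGroup Ω} (hc : c * w = w * c) (hd : d * w = w * d)
    (hc' : IsConj t (t * ι c)) (hd' : IsConj t (t * ι d)) : ∃ f, κ f = ι (c * d) := by
  have hcc := P.ht.sq_of_inD hc'
  have h1 : (t * ι c) * (t * ι w) = (t * ι w) * (t * ι c) := by
    calc (t * ι c) * (t * ι w) = t * (ι c * (t * ι w)) := by group
      _ = t * (t * ι w * ι c) := by rw [P.comm_u hc]
      _ = t * (t * ι w) * ι c := by group
      _ = t * (ι w * t) * ι c := by rw [P.ht.comm]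
      _ = (t * ι w) * (t * ι c) := by group
  have h2 : (t * ι d) * (t * ι w) = (t * ι w) * (t * ι d) := by
    calc (t * ι d) * (t * ι w) = t * (ι d * (t * ι w)) := by group
      _ = t * (t * ι w * ι d) := by rw [P.comm_u hd]
      _ = t * (t * ι w) * ι d := by group
      _ = t * (ι w * t) * ι d := by rw [P.ht.comm]
      _ = (t * ι w) * (t * ι d) := by group
  rcases P.hu.cent _ h1 with ⟨a, ha⟩ | ⟨a, ha⟩
  · exact absurd (ha ▸ hc') (P.hK' a)
  rcases P.hu.cent _ h2 with ⟨b, hb⟩ | ⟨b, hb⟩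
  · exact absurd (hb ▸ hd') (P.hK' b)
  refine ⟨a * b, ?_⟩
  rw [map_mul, map_mul]
  symm
  calc ι c * ι d = (ι c * t) * (t * ι d) := by
        calc ι c * ι d = ι c * (t * t) * ι d := by rw [P.ht.tt, mul_one]
          _ = _ := by group
    _ = (t * ι c) * (t * ι d) := by rw [← P.ht.comm c]
    _ = (t * ι w * κ a) * (t * ι w * κ b) := by rw [ha, hb]
    _ = (κ a * (t * ι w)) * (t * ι w * κ b) := by rw [P.hu.comm]
    _ = κ a * ((t * ι w) * (t * ι w)) * κ b := by group
    _ = κ a * κ b := by rw [P.hu.tt, mul_one]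

/-- elements of order 3 -/
theorem pull3 (P : Pair t ι w κ) {c : alternatingGroup Ω} (hc : c * w = w * c)
    (h3 : c * c * c = 1) : ∃ f, κ f = ι c := by
  rcases P.hu.cent _ (P.comm_u hc) with ⟨a, ha⟩ | ⟨a, ha⟩
  · exact ⟨a, ha.symm⟩
  refine ⟨a * a * (a * a), ?_⟩
  have h4 : c = (c * c) * (c * c) := by
    calc c = c * c * c * c := by rw [h3, one_mul]
      _ = (c * c) * (c * c) := by group
  have h2 : ι c * ι c = κ (a * a) := by
    rw [ha, map_mul]
    calc t * ι w * κ a * (t * ι w * κ a) = t * ι w * (κ a * (t * ι w)) * κ a := by group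
      _ = t * ι w * (t * ι w * κ a) * κ a := by rw [← P.hu.comm]
      _ = (t * ι w) * (t * ι w) * (κ a * κ a) := by group
      _ = κ a * κ a := by rw [P.hu.tt, one_mul]
  conv_rhs => rw [h4, map_mul, map_mul, h2]
  rw [map_mul]

/-- types in the second view -/
theorem inD_iff (P : Pair t ι w κ) {f f' : alternatingGroup Ω} (h : κ f' = ι f) :
    IsConj t (t * ι f') ↔ IsConj t (t * ι (w * f)) := by
  rw [P.iff, h, map_mul, mul_assoc]

/-- pull backs commute -/
theorem comm_of_comm (P : Pair t ι w κ) {f f' g g' : alternatingGroup Ω} (h : κ f' = ι f)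
    (h' : κ g' = ι g) (hfg : f * g = g * f) : f' * g' = g' * f' := by
  apply P.hu.inj
  rw [map_mul, map_mul, h, h', ← map_mul, ← map_mul, hfg]

theorem comm_w (P : Pair t ι w κ) {f f' w' : alternatingGroup Ω} (hw' : κ w' = ι w) (h : κ f' = ι f) :
    f * w = w * f := by
  have h1 : f' * w' = w' * f' := by
    apply P.hu.inj
    have h2 := P.hu.comm f'
    have h3 := P.ht.comm f
    rw [map_mul, map_mul, hw', h]
    rw [h] at h2
    -- (t ι w) ι f = ι f (t ι w)
    have h4 : t * (ι w * ι f) = t * (ι f * ι w) := by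
      calc t * (ι w * ι f) = t * ι w * ι f := by group
        _ = ι f * (t * ι w) := h2
        _ = (ι f * t) * ι w := by group
        _ = (t * ι f) * ι w := by rw [h3]
        _ = t * (ι f * ι w) := by group
    exact (mul_left_cancel h4).symm
  apply P.ht.inj
  have h2 := congrArg κ h1
  rw [map_mul, map_mul, h, hw', ← map_mul, ← map_mul] at h2
  exact h2

end Pair

end Cfsg.Agent.OddHalf.D5.CleanTwo

end

-- merged: Cfsg.Agent.OddHalf.D5.CTBase
section

/-!
# ODD D5, clean case: the base group of the centralizer of an involution of `Sym Ω` (helper522)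
-/

set_option autoImplicit false

namespace Cfsg.Agent.OddHalf.D5.CleanTwo

open Equiv Equiv.Perm

variable {Ω : Type*} [DecidableEq Ω]

omit [DecidableEq Ω] in
theorem papi (f : Perm Ω) (x : Ω) : f (f⁻¹ x) = x := f.apply_symm_apply x

/-- `r` fixes every point moved by `w`. -/
def Fx (w r : Perm Ω) : Prop := ∀ x, w x ≠ x → r x = x

/-- `b` lies in the base group of `C(w)`. -/
def Bs (w b : Perm Ω) : Prop := ∀ x, b x = x ∨ b x = w x

omit [DecidableEq Ω] in
theorem Fx.mul {w r s : Perm Ω} (h1 : Fx w r) (h2 : Fx w s) : Fx w (r * s) := by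
  intro x hx
  rw [Perm.mul_apply, h2 x hx, h1 x hx]

omit [DecidableEq Ω] in
theorem Fx.inv {w r : Perm Ω} (h1 : Fx w r) : Fx w r⁻¹ := by
  intro x hx
  rw [Perm.inv_eq_iff_eq, h1 x hx]

omit [DecidableEq Ω] in
theorem Fx.conj {w r c : Perm Ω} (h1 : Fx w r) (hc : c * w = w * c) : Fx w (c * r * c⁻¹) := by
  intro x hx
  have h2 : w (c⁻¹ x) ≠ c⁻¹ x := by
    intro e
    apply hx
    have h3 : c (w (c⁻¹ x)) = w (c (c⁻¹ x)) := congrFun (congrArg DFunLike.coe hc) _
    rw [e, papi] at h3
    exact h3.symm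
  rw [Perm.mul_apply, Perm.mul_apply, h1 _ h2, papi]

section
variable {w : Perm Ω} (hw : w * w = 1)
include hw

omit [DecidableEq Ω] in
theorem Bs.mul {b c : Perm Ω} (hb : Bs w b) (hc : Bs w c) : Bs w (b * c) := by
  intro x
  rw [Perm.mul_apply]
  rcases hc x with h | h <;> rw [h]
  · exact hb x
  · rcases hb (w x) with h1 | h1
    · exact Or.inr h1
    · left; rw [h1, app_app hw]

omit [DecidableEq Ω] in
theorem Bs.inv {b : Perm Ω} (hb : Bs w b) : Bs w b⁻¹ := by
  intro x
  rcases hb (b⁻¹ x) with h | h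
  · rw [papi] at h
    exact Or.inl h.symm
  · rw [papi] at h
    right
    conv_rhs => rw [h, app_app hw]

omit [DecidableEq Ω] in
theorem Bs.comm {b : Perm Ω} (hb : Bs w b) (x : Ω) : b (w x) = w (b x) := by
  rcases hb x with h | h <;> rw [h]
  · rcases hb (w x) with h1 | h1
    · exact h1
    · rw [app_app hw] at h1
      rw [h1]
      have : w x = x := b.injective (h1.trans h.symm)
      exact this.symm
  · rw [app_app hw]
    rcases hb (w x) with h1 | h1
    · have : w x = x := b.injective (h1.trans h.symm)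
      rw [h1, this]
    · rw [h1, app_app hw]

omit [DecidableEq Ω] in
theorem Bs.sq {b : Perm Ω} (hb : Bs w b) : b * b = 1 := by
  ext x
  rw [Perm.mul_apply, Perm.one_apply]
  rcases hb x with h | h
  · rw [h, h]
  · rw [h, hb.comm hw, h, app_app hw]

theorem Bs.swap (x : Ω) : Bs w (swap x (w x)) := by
  intro z
  by_cases h1 : z = x
  · right; rw [h1, swap_apply_left]
  by_cases h2 : z = w x
  · right; rw [h2, swap_apply_right, app_app hw]
  · left; rw [swap_apply_of_ne_of_ne h1 h2]

end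

omit [DecidableEq Ω] in
theorem Bs.conj {w b c : Perm Ω} (hb : Bs w b) (hc : c * w = w * c) : Bs w (c * b * c⁻¹) := by
  intro x
  have h3 : ∀ y, c (w y) = w (c y) := fun y => congrFun (congrArg DFunLike.coe hc) y
  rw [Perm.mul_apply, Perm.mul_apply]
  rcases hb (c⁻¹ x) with h | h <;> rw [h]
  · left; rw [papi]
  · right; rw [h3, papi]

/-- product of two 2-cycles of `w` -/
def bb (w : Perm Ω) (x y : Ω) : Perm Ω := swap x (w x) * swap y (w y)

/-- the swap of two 2-cycles of `w` -/
def cc (w : Perm Ω) (x y : Ω) : Perm Ω := swap x y * swap (w x) (w y)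

theorem bb_bs {w : Perm Ω} (hw : w * w = 1) (x y : Ω) : Bs w (bb w x y) :=
  (Bs.swap hw x).mul hw (Bs.swap hw y)

theorem bb_sign [Fintype Ω] {w : Perm Ω} {x y : Ω} (hx : w x ≠ x) (hy : w y ≠ y) :
    Perm.sign (bb w x y) = 1 := by
  rw [bb, map_mul, sign_swap hx.symm, sign_swap hy.symm]; decide

section
variable {w : Perm Ω} (hw : w * w = 1) {x y : Ω} (hx : w x ≠ x) (hy : w y ≠ y) (h1 : y ≠ x) (h2 : y ≠ w x)
include hw h1 h2

omit [DecidableEq Ω] h1 in
theorem ne3 : w y ≠ x := fun e => h2 (by rw [← e, app_app hw])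

omit [DecidableEq Ω] hw h2 in
theorem ne4 : w y ≠ w x := fun e => h1 (w.injective e)

theorem bb_x : bb w x y x = w x := by
  rw [bb, Perm.mul_apply, swap_apply_of_ne_of_ne h1.symm (ne3 hw h2).symm, swap_apply_left]

omit hw in
theorem bb_wx : bb w x y (w x) = x := by
  rw [bb, Perm.mul_apply, swap_apply_of_ne_of_ne h2.symm (ne4 h1).symm, swap_apply_right]

theorem bb_y : bb w x y y = w y := by
  rw [bb, Perm.mul_apply, swap_apply_left, swap_apply_of_ne_of_ne (ne3 hw h2) (ne4 h1)]

omit hw in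
theorem bb_wy : bb w x y (w y) = y := by
  rw [bb, Perm.mul_apply, swap_apply_right, swap_apply_of_ne_of_ne h1 h2]

omit hw h1 h2 in
theorem bb_ne {z : Ω} (z1 : z ≠ x) (z2 : z ≠ w x) (z3 : z ≠ y) (z4 : z ≠ w y) : bb w x y z = z := by
  rw [bb, Perm.mul_apply, swap_apply_of_ne_of_ne z3 z4, swap_apply_of_ne_of_ne z1 z2]

include hx in
theorem cc_x : cc w x y x = y := by
  rw [cc, Perm.mul_apply, swap_apply_of_ne_of_ne hx.symm (ne3 hw h2).symm, swap_apply_left]

omit h1 hw in
include hy in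
theorem cc_y : cc w x y y = x := by
  rw [cc, Perm.mul_apply, swap_apply_of_ne_of_ne h2 hy.symm, swap_apply_right]

include hy in
theorem cc_wx : cc w x y (w x) = w y := by
  rw [cc, Perm.mul_apply, swap_apply_left, swap_apply_of_ne_of_ne (ne3 hw h2) hy]

include hx in
omit h1 hw in
theorem cc_wy : cc w x y (w y) = w x := by
  rw [cc, Perm.mul_apply, swap_apply_right, swap_apply_of_ne_of_ne hx h2.symm]

omit hw h1 h2 in
theorem cc_ne {z : Ω} (z1 : z ≠ x) (z2 : z ≠ w x) (z3 : z ≠ y) (z4 : z ≠ w y) : cc w x y z = z := by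
  rw [cc, Perm.mul_apply, swap_apply_of_ne_of_ne z2 z4, swap_apply_of_ne_of_ne z1 z3]

include hx hy in
theorem cc_comm : cc w x y * w = w * cc w x y := by
  ext z
  rw [Perm.mul_apply, Perm.mul_apply]
  by_cases z1 : z = x
  · rw [z1, cc_x hw hx h1 h2, cc_wx hw hy h1 h2]
  by_cases z2 : z = w x
  · rw [z2, app_app hw, cc_x hw hx h1 h2, cc_wx hw hy h1 h2, app_app hw]
  by_cases z3 : z = y
  · rw [z3, cc_y hy h2, cc_wy hx h2]
  by_cases z4 : z = w y
  · rw [z4, app_app hw, cc_y hy h2, cc_wy hx h2, app_app hw]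
  rw [cc_ne z1 z2 z3 z4, cc_ne]
  · exact fun e => z2 (by rw [← e, app_app hw])
  · exact fun e => z1 (w.injective e)
  · exact fun e => z4 (by rw [← e, app_app hw])
  · exact fun e => z3 (w.injective e)

omit hw h2 in
theorem cc_sign [Fintype Ω] : Perm.sign (cc w x y) = 1 := by
  rw [cc, map_mul, sign_swap h1.symm, sign_swap (ne4 h1).symm]; decide

include hx hy in
/-- the swap trick -/
theorem bb_eq {b : Perm Ω} (hb : Bs w b) (hbx : b x ≠ x) (hby : b y = y) :
    b * (cc w x y * b * (cc w x y)⁻¹) = bb w x y := by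
  have hbx' : b x = w x := (hb x).resolve_left hbx
  have hbwx : b (w x) = x := by rw [hb.comm hw, hbx', app_app hw]
  have hbwy : b (w y) = w y := by rw [hb.comm hw, hby]
  have i1 : (cc w x y)⁻¹ x = y := by rw [Perm.inv_eq_iff_eq, cc_y hy h2]
  have i2 : (cc w x y)⁻¹ y = x := by rw [Perm.inv_eq_iff_eq, cc_x hw hx h1 h2]
  have i3 : (cc w x y)⁻¹ (w x) = w y := by rw [Perm.inv_eq_iff_eq, cc_wy hx h2]
  have i4 : (cc w x y)⁻¹ (w y) = w x := by rw [Perm.inv_eq_iff_eq, cc_wx hw hy h1 h2]
  ext z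
  rw [Perm.mul_apply, Perm.mul_apply, Perm.mul_apply]
  by_cases z1 : z = x
  · rw [z1, i1, hby, cc_y hy h2, hbx', bb_x hw h1 h2]
  by_cases z2 : z = w x
  · rw [z2, i3, hbwy, cc_wy hx h2, hbwx, bb_wx h1 h2]
  by_cases z3 : z = y
  · rw [z3, i2, hbx', cc_wx hw hy h1 h2, hbwy, bb_y hw h1 h2]
  by_cases z4 : z = w y
  · rw [z4, i4, hbwx, cc_x hw hx h1 h2, hby, bb_wy h1 h2]
  have i5 : (cc w x y)⁻¹ z = z := by rw [Perm.inv_eq_iff_eq, cc_ne z1 z2 z3 z4]
  have hbb : b (b z) = z := app_app (hb.sq hw) z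
  rw [i5, bb_ne z1 z2 z3 z4, cc_ne, hbb]
  · intro e; rw [e, hbx'] at hbb; exact z2 hbb.symm
  · intro e; rw [e, hbwx] at hbb; exact z1 hbb.symm
  · intro e; rw [e, hby] at hbb; exact z3 hbb.symm
  · intro e; rw [e, hbwy] at hbb; exact z4 hbb.symm

end

end Cfsg.Agent.OddHalf.D5.CleanTwo

end

-- merged: Cfsg.Agent.OddHalf.D5.CTGamma
section

/-!
# ODD D5, clean case: the alternating group on the fixed points of `w` is natural in both views (helper522)
-/

set_option autoImplicit false

namespace Cfsg.Agent.OddHalf.D5.CleanTwo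

open Equiv Equiv.Perm

variable {G : Type*} [Group G] {Ω : Type*} [Fintype Ω] [DecidableEq Ω]

omit [Fintype Ω] [DecidableEq Ω] in
theorem Fx.comm {w r : Perm Ω} (h : Fx w r) : r * w = w * r := by
  ext x
  rw [Perm.mul_apply, Perm.mul_apply]
  by_cases hx : w x = x
  · rw [hx]
    by_contra hne
    have h1 : r (r x) = r x := h _ (fun e => hne e.symm)
    have h2 := r.injective h1
    rw [h2, hx] at hne
    exact hne rfl
  · rw [h x hx, h (w x) (fun e => hx (w.injective e))]

/-- membership in the image of the alternating group on the fixed points of `w` -/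
def InL (ι : alternatingGroup Ω →* G) (w : alternatingGroup Ω) (y : G) : Prop :=
  ∃ r : alternatingGroup Ω, Fx (w : Perm Ω) r ∧ ι r = y

theorem InL.mul {ι : alternatingGroup Ω →* G} {w : alternatingGroup Ω} {y z : G} (hy : InL ι w y)
    (hz : InL ι w z) : InL ι w (y * z) := by
  obtain ⟨r, hr, rfl⟩ := hy
  obtain ⟨s, hs, rfl⟩ := hz
  exact ⟨r * s, hr.mul hs, map_mul _ _ _⟩

theorem InL.inv {ι : alternatingGroup Ω →* G} {w : alternatingGroup Ω} {y : G} (hy : InL ι w y) :
    InL ι w y⁻¹ := by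
  obtain ⟨r, hr, rfl⟩ := hy
  exact ⟨r⁻¹, hr.inv, map_inv _ _⟩

theorem coe_comm {a b : alternatingGroup Ω} (h : a * b = b * a) :
    (a : Perm Ω) * b = b * a := congrArg Subtype.val h

theorem coe_sq {a : alternatingGroup Ω} (h : a * a = 1) : (a : Perm Ω) * a = 1 :=
  congrArg Subtype.val h

namespace Pair

variable {t : G} {ι κ : alternatingGroup Ω →* G} {w w' : alternatingGroup Ω}

theorem w'w' (P : Pair t ι w κ) (hw' : κ w' = ι w) : w' * w' = 1 := by
  apply P.hu.inj
  rw [map_mul, hw', ← map_mul, P.ww, map_one, map_one]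

theorem stepA (P : Pair t ι w κ) (hw' : κ w' = ι w) {c : alternatingGroup Ω} (hc : c * w' = w' * c) :
    ∃ c₁ : alternatingGroup Ω, c₁ * w = w * c₁ ∧ (κ c = ι c₁ ∨ κ c = t * ι c₁) := by
  have h1 : κ c * ι w = ι w * κ c := by
    rw [← hw', ← map_mul, hc, map_mul]
  have h2 : κ c * t = t * κ c := by
    have h3 := P.hu.comm c
    apply mul_right_cancel (b := ι w)
    calc κ c * t * ι w = κ c * (t * ι w) := by group
      _ = t * ι w * κ c := by rw [← P.hu.comm]
      _ = t * (ι w * κ c) := by group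
      _ = t * (κ c * ι w) := by rw [h1]
      _ = t * κ c * ι w := by group
  rcases P.ht.cent _ h2 with ⟨a, ha⟩ | ⟨a, ha⟩
  · refine ⟨a, ?_, Or.inl ha⟩
    apply P.ht.inj
    rw [map_mul, map_mul, ← ha, h1]
  · refine ⟨a, ?_, Or.inr ha⟩
    apply P.ht.inj
    rw [map_mul, map_mul]
    rw [ha] at h1
    apply mul_left_cancel (a := t)
    calc t * (ι a * ι w) = t * ι a * ι w := by group
      _ = ι w * (t * ι a) := h1
      _ = (ι w * t) * ι a := by group
      _ = (t * ι w) * ι a := by rw [P.ht.comm]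
      _ = t * (ι w * ι a) := by group

theorem conjL (P : Pair t ι w κ) (hw' : κ w' = ι w) {c : alternatingGroup Ω} (hc : c * w' = w' * c)
    {y : G} (hy : InL ι w y) : InL ι w (κ c * y * (κ c)⁻¹) := by
  obtain ⟨c₁, hc₁, h⟩ := P.stepA hw' hc
  obtain ⟨r, hr, rfl⟩ := hy
  refine ⟨c₁ * r * c₁⁻¹, hr.conj (coe_comm hc₁), ?_⟩
  rcases h with h | h
  · rw [h, map_mul, map_mul, map_inv]
  · rw [h, map_mul, map_mul, map_inv]
    symm
    calc t * ι c₁ * ι r * (t * ι c₁)⁻¹ = t * ι c₁ * ι r * (ι c₁ * t)⁻¹ := by rw [P.ht.comm]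
      _ = t * ι c₁ * ι r * t⁻¹ * (ι c₁)⁻¹ := by group
      _ = t * (ι (c₁ * r)) * t⁻¹ * (ι c₁)⁻¹ := by rw [map_mul]; group
      _ = ι (c₁ * r) * t * t⁻¹ * (ι c₁)⁻¹ := by rw [P.ht.comm]
      _ = ι c₁ * ι r * (ι c₁)⁻¹ := by rw [map_mul]; group

theorem baseBB (P : Pair t ι w κ) (hw' : κ w' = ι w) {b : alternatingGroup Ω}
    (hb : Bs (w' : Perm Ω) b) (hL : InL ι w (κ b)) {x y : Ω} (hx : (b : Perm Ω) x ≠ x)
    (hwy : (w' : Perm Ω) y ≠ y) (hy : (b : Perm Ω) y = y) :
    ∃ z : alternatingGroup Ω, (z : Perm Ω) = bb (w' : Perm Ω) x y ∧ InL ι w (κ z) := by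
  have hww := coe_sq (P.w'w' hw')
  have hbx : (b : Perm Ω) x = (w' : Perm Ω) x := (hb x).resolve_left hx
  have hwx : (w' : Perm Ω) x ≠ x := by rw [← hbx]; exact hx
  have h1 : y ≠ x := by rintro rfl; exact hx hy
  have h2 : y ≠ (w' : Perm Ω) x := by
    intro e
    rw [e, hb.comm hww, hbx, app_app hww] at hy
    exact hwx hy.symm
  have hcs : Perm.sign (cc (w' : Perm Ω) x y) = 1 := cc_sign h1
  have hcc : (⟨cc (w' : Perm Ω) x y, hcs⟩ : alternatingGroup Ω) * w' =
      w' * ⟨cc (w' : Perm Ω) x y, hcs⟩ := Subtype.ext (cc_comm hww hwx hwy h1 h2)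
  refine ⟨b * (⟨cc (w' : Perm Ω) x y, hcs⟩ * b * (⟨cc (w' : Perm Ω) x y, hcs⟩)⁻¹),
    bb_eq hww hwx hwy h1 h2 hb hx hy, ?_⟩
  rw [map_mul, map_mul, map_mul, map_inv]
  exact hL.mul (P.conjL hw' hcc hL)

theorem base_trivial (P : Pair t ι w κ) (hw' : κ w' = ι w) (hw1 : w ≠ 1) (n : ℕ) :
    ∀ b : alternatingGroup Ω, Bs (w' : Perm Ω) b → InL ι w (κ b) → b ≠ 1 →
      (w' : Perm Ω).support.card ≤ n + (b : Perm Ω).support.card → False := by
  have hww := coe_sq (P.w'w' hw')
  induction n with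
  | zero =>
    intro b hb hL hb1 hcard
    have hsub : (b : Perm Ω).support ⊆ (w' : Perm Ω).support := by
      intro x hx
      rw [mem_support] at hx ⊢
      rw [← (hb x).resolve_left hx]; exact hx
    have hS := Finset.eq_of_subset_of_card_le hsub (by omega)
    have hbw : b = w' := by
      apply Subtype.ext
      ext x
      rcases hb x with h | h
      · have : x ∉ (b : Perm Ω).support := by rw [notMem_support]; exact h
        rw [hS, notMem_support] at this
        rw [h, this]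
      · exact h
    rw [hbw, hw'] at hL
    obtain ⟨r, hr, he⟩ := hL
    rw [P.ht.inj he] at hr
    apply hw1
    apply Subtype.ext
    ext x
    by_contra hne
    exact hne (hr x hne)
  | succ n ih =>
    intro b hb hL hb1 hcard
    by_cases hle : (w' : Perm Ω).support.card ≤ n + (b : Perm Ω).support.card
    · exact ih b hb hL hb1 hle
    have hsub : (b : Perm Ω).support ⊆ (w' : Perm Ω).support := by
      intro x hx
      rw [mem_support] at hx ⊢
      rw [← (hb x).resolve_left hx]; exact hx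
    have hd1 := four_dvd hww w'.2
    have hd2 := four_dvd (hb.sq hww) b.2
    have hdiff := Finset.card_sdiff_add_card_eq_card hsub
    have h4 : 4 ≤ ((w' : Perm Ω).support \ (b : Perm Ω).support).card := by omega
    obtain ⟨x, hx⟩ : ∃ x, (b : Perm Ω) x ≠ x := by
      by_contra hne
      push Not at hne
      exact hb1 (Subtype.ext (Equiv.ext hne))
    obtain ⟨y, hy⟩ : ((w' : Perm Ω).support \ (b : Perm Ω).support).Nonempty :=
      Finset.card_pos.1 (by omega)
    obtain ⟨y₂, hy₂⟩ : (((w' : Perm Ω).support \ (b : Perm Ω).support) \ {y, (w' : Perm Ω) y}).Nonempty := by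
      apply Finset.card_pos.1
      have := Finset.le_card_sdiff {y, (w' : Perm Ω) y} ((w' : Perm Ω).support \ (b : Perm Ω).support)
      have h5 : ({y, (w' : Perm Ω) y} : Finset Ω).card ≤ 2 := Finset.card_le_two
      omega
    simp only [Finset.mem_sdiff, mem_support, not_not, Finset.mem_insert, Finset.mem_singleton,
      not_or] at hy hy₂
    obtain ⟨y1, y2⟩ := hy
    obtain ⟨⟨z1, z2⟩, z3, z4⟩ := hy₂
    obtain ⟨r, hr, hrL⟩ := P.baseBB hw' hb hL hx y1 y2
    obtain ⟨s, hs, hsL⟩ := P.baseBB hw' hb hL hx z1 z2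
    have hbx : (b : Perm Ω) x = (w' : Perm Ω) x := (hb x).resolve_left hx
    have hwx : (w' : Perm Ω) x ≠ x := by rw [← hbx]; exact hx
    have hbwx : (b : Perm Ω) ((w' : Perm Ω) x) = x := by rw [hb.comm hww, hbx, app_app hww]
    have hbwy : (b : Perm Ω) ((w' : Perm Ω) y) = (w' : Perm Ω) y := by rw [hb.comm hww, y2]
    have hbwy₂ : (b : Perm Ω) ((w' : Perm Ω) y₂) = (w' : Perm Ω) y₂ := by rw [hb.comm hww, z2]
    -- distinctness
    have dx : ∀ v, (b : Perm Ω) v = v → v ≠ x ∧ v ≠ (w' : Perm Ω) x := by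
      intro v hv
      refine ⟨fun e => hx (by rw [← e]; exact hv), fun e => ?_⟩
      rw [e, hbwx] at hv
      exact hwx hv.symm
    have dy := dx y y2
    have dwy := dx _ hbwy
    have dy₂ := dx y₂ z2
    have dwy₂ := dx _ hbwy₂
    have hbr : Bs (w' : Perm Ω) (r : Perm Ω) := by rw [hr]; exact bb_bs hww x y
    have hbs : Bs (w' : Perm Ω) (s : Perm Ω) := by rw [hs]; exact bb_bs hww x y₂
    -- the product
    have key : ∀ v, (b : Perm Ω) v ≠ v → ((b * (r * s) : alternatingGroup Ω) : Perm Ω) v ≠ v := by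
      intro v hv
      have hrs : (r : Perm Ω) ((s : Perm Ω) v) = v := by
        rw [hr, hs]
        by_cases v1 : v = x
        · rw [v1, bb_x hww dy₂.1 dy₂.2, bb_wx dy.1 dy.2]
        by_cases v2 : v = (w' : Perm Ω) x
        · rw [v2, bb_wx dy₂.1 dy₂.2, bb_x hww dy.1 dy.2]
        have v3 : v ≠ y := by rintro rfl; exact hv y2
        have v4 : v ≠ (w' : Perm Ω) y := by rintro rfl; exact hv hbwy
        have v5 : v ≠ y₂ := by rintro rfl; exact hv z2
        have v6 : v ≠ (w' : Perm Ω) y₂ := by rintro rfl; exact hv hbwy₂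
        rw [bb_ne v1 v2 v5 v6, bb_ne v1 v2 v3 v4]
      show (b : Perm Ω) ((r : Perm Ω) ((s : Perm Ω) v)) ≠ v
      rw [hrs]; exact hv
    have key2 : ((b * (r * s) : alternatingGroup Ω) : Perm Ω) y ≠ y := by
      have hsy : (s : Perm Ω) y = y := by
        rw [hs]
        apply bb_ne dy.1 dy.2 (Ne.symm z3)
        intro e
        apply z4
        rw [e, app_app hww]
      show (b : Perm Ω) ((r : Perm Ω) ((s : Perm Ω) y)) ≠ y
      rw [hsy, hr, bb_y hww dy.1 dy.2, hbwy]
      exact y1
    refine ih (b * (r * s)) (hb.mul hww (hbr.mul hww hbs)) ?_ ?_ ?_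
    · rw [map_mul, map_mul]
      exact hL.mul (hrL.mul hsL)
    · intro e
      rw [e] at key2
      exact key2 rfl
    · have hlt : (b : Perm Ω).support.card < ((b * (r * s) : alternatingGroup Ω) : Perm Ω).support.card := by
        apply Finset.card_lt_card
        rw [Finset.ssubset_iff_of_subset]
        · exact ⟨y, by rw [mem_support]; exact key2, by rw [notMem_support]; exact y2⟩
        · intro v hv
          rw [mem_support] at hv ⊢
          exact key v hv
      omega

theorem base_one (P : Pair t ι w κ) (hw' : κ w' = ι w) (hw1 : w ≠ 1) {b : alternatingGroup Ω}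
    (hb : Bs (w' : Perm Ω) b) (hL : InL ι w (κ b)) : b = 1 := by
  by_contra hne
  exact P.base_trivial hw' hw1 (w' : Perm Ω).support.card b hb hL hne (by omega)

/-- the pull back of an even permutation of `Fix w` commutes with the base group -/
theorem comm_bb (P : Pair t ι w κ) (hw' : κ w' = ι w) (hw1 : w ≠ 1) {r r' : alternatingGroup Ω}
    (hr : Fx (w : Perm Ω) r) (h : κ r' = ι r) {x y : Ω} (hx : (w' : Perm Ω) x ≠ x)
    (hy : (w' : Perm Ω) y ≠ y) :
    (r' : Perm Ω) * bb (w' : Perm Ω) x y = bb (w' : Perm Ω) x y * r' := by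
  have hww := coe_sq (P.w'w' hw')
  have hrw : r' * w' = w' * r' := P.comm_of_comm h hw' (Subtype.ext hr.comm)
  have hbb : Bs (w' : Perm Ω) (bb (w' : Perm Ω) x y) := bb_bs hww x y
  set b : alternatingGroup Ω := ⟨bb (w' : Perm Ω) x y, bb_sign hx hy⟩ with hb
  have hbw : b * w' = w' * b := by
    apply Subtype.ext
    ext z
    exact hbb.comm hww z
  have h1 : b * (r' * b⁻¹ * r'⁻¹) = 1 := by
    apply P.base_one hw' hw1
    · exact hbb.mul hww ((hbb.inv hww).conj (coe_comm hrw))
    · have e : κ (b * (r' * b⁻¹ * r'⁻¹)) = (κ b * ι r * (κ b)⁻¹) * (ι r)⁻¹ := by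
        rw [map_mul, map_mul, map_mul, map_inv, map_inv, h]; group
      rw [e]
      exact (P.conjL hw' hbw ⟨r, hr, rfl⟩).mul (InL.inv ⟨r, hr, rfl⟩)
  have h2 : b * r' = r' * b := by
    have h3 : b * (r' * b⁻¹ * r'⁻¹) = (b * r') * (r' * b)⁻¹ := by group
    rw [h3] at h1
    exact mul_inv_eq_one.1 h1
  exact (congrArg Subtype.val h2).symm

theorem fx_of_three (P : Pair t ι w κ) (hw' : κ w' = ι w) (hw1 : w ≠ 1)
    (h6 : 6 ≤ (w' : Perm Ω).support.card) {r r' : alternatingGroup Ω}
    (hr : Fx (w : Perm Ω) r) (h3 : r * r * r = 1) (h : κ r' = ι r) : Fx (w' : Perm Ω) r' := by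
  have hww := coe_sq (P.w'w' hw')
  have hrw : r' * w' = w' * r' := P.comm_of_comm h hw' (Subtype.ext hr.comm)
  have h3' : r' * r' * r' = 1 := by
    apply P.hu.inj
    rw [map_mul, map_mul, h, ← map_mul, ← map_mul, h3, map_one, map_one]
  have h3'' : ∀ x, (r' : Perm Ω) ((r' : Perm Ω) ((r' : Perm Ω) x)) = x := fun x =>
    congrFun (congrArg DFunLike.coe (congrArg Subtype.val h3')) x
  have hrw' : ∀ x, (r' : Perm Ω) ((w' : Perm Ω) x) = (w' : Perm Ω) ((r' : Perm Ω) x) := fun x =>
    congrFun (congrArg DFunLike.coe (congrArg Subtype.val hrw)) x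
  intro x hx
  have step : ∀ y, (w' : Perm Ω) y ≠ y → y ≠ x → y ≠ (w' : Perm Ω) x →
      (r' : Perm Ω) x = x ∨ (r' : Perm Ω) x = (w' : Perm Ω) x ∨ (r' : Perm Ω) x = y ∨
        (r' : Perm Ω) x = (w' : Perm Ω) y := by
    intro y hy h1 h2
    by_contra hne
    push Not at hne
    obtain ⟨n1, n2, n3, n4⟩ := hne
    have h4 := congrFun (congrArg DFunLike.coe (P.comm_bb hw' hw1 hr h hx hy)) x
    rw [Perm.mul_apply, Perm.mul_apply, bb_x hww h1 h2, bb_ne n1 n2 n3 n4] at h4
    exact hx ((r' : Perm Ω).injective h4)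
  obtain ⟨y, hy⟩ : ((w' : Perm Ω).support \ {x, (w' : Perm Ω) x}).Nonempty := by
    apply Finset.card_pos.1
    have := Finset.le_card_sdiff {x, (w' : Perm Ω) x} (w' : Perm Ω).support
    have h5 : ({x, (w' : Perm Ω) x} : Finset Ω).card ≤ 2 := Finset.card_le_two
    omega
  obtain ⟨z, hz⟩ : ((w' : Perm Ω).support \ {x, (w' : Perm Ω) x, y, (w' : Perm Ω) y}).Nonempty := by
    apply Finset.card_pos.1
    have := Finset.le_card_sdiff {x, (w' : Perm Ω) x, y, (w' : Perm Ω) y} (w' : Perm Ω).support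
    have h5 : ({x, (w' : Perm Ω) x, y, (w' : Perm Ω) y} : Finset Ω).card ≤ 4 := Finset.card_le_four
    omega
  simp only [Finset.mem_sdiff, mem_support, Finset.mem_insert, Finset.mem_singleton, not_or] at hy hz
  obtain ⟨y1, y2, y3⟩ := hy
  obtain ⟨z1, z2, z3, z4, z5⟩ := hz
  have hcase : (r' : Perm Ω) x = x ∨ (r' : Perm Ω) x = (w' : Perm Ω) x := by
    rcases step y y1 y2 y3 with h | h | h | h
    · exact Or.inl h
    · exact Or.inr h
    · rcases step z z1 z2 z3 with k | k | k | k
      · exact Or.inl k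
      · exact Or.inr k
      · exact absurd (k.symm.trans h) z4
      · exact absurd (by rw [← h, k, app_app hww]) z5
    · rcases step z z1 z2 z3 with k | k | k | k
      · exact Or.inl k
      · exact Or.inr k
      · exact absurd (k.symm.trans h) z5
      · exact absurd ((w' : Perm Ω).injective (k.symm.trans h)) z4
  rcases hcase with h4 | h4
  · exact h4
  · exfalso
    have h5 := h3'' x
    rw [h4, hrw', h4, app_app hww, h4] at h5
    exact hx h5

/-- every even permutation of `Fix w` pulls back to an even permutation of `Fix w'` -/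
theorem exists_pull (P : Pair t ι w κ) (hw' : κ w' = ι w) (hw1 : w ≠ 1)
    (h6 : 6 ≤ (w' : Perm Ω).support.card) {r : alternatingGroup Ω} (hr : Fx (w : Perm Ω) r) :
    ∃ r' : alternatingGroup Ω, κ r' = ι r ∧ Fx (w' : Perm Ω) r' := by
  have key : ∀ s ∈ Subgroup.closure {σ : Perm {x // (w : Perm Ω) x = x} | IsThreeCycle σ},
      ∃ r r' : alternatingGroup Ω, (r : Perm Ω) = ofSubtype s ∧ κ r' = ι r ∧ Fx (w' : Perm Ω) r' := by
    intro s hs
    induction hs using Subgroup.closure_induction with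
    | mem σ hσ =>
      have hs1 : Perm.sign (ofSubtype σ : Perm Ω) = 1 := by
        rw [sign_ofSubtype, IsThreeCycle.sign hσ]
      have h3 : σ * σ * σ = 1 := by
        have h4 : orderOf σ = 3 := IsThreeCycle.orderOf hσ
        have h5 := pow_orderOf_eq_one σ
        rw [h4] at h5
        rw [← h5]; rfl
      have hfx : Fx (w : Perm Ω) (ofSubtype σ : Perm Ω) := by
        intro x hx
        exact ofSubtype_apply_of_not_mem σ hx
      have h3' : (⟨ofSubtype σ, hs1⟩ : alternatingGroup Ω) * ⟨ofSubtype σ, hs1⟩ * ⟨ofSubtype σ, hs1⟩ = 1 := by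
        apply Subtype.ext
        show ofSubtype σ * ofSubtype σ * ofSubtype σ = (1 : Perm Ω)
        rw [← map_mul, ← map_mul, h3, map_one]
      obtain ⟨r', hr'⟩ := P.pull3 (c := ⟨ofSubtype σ, hs1⟩) (Subtype.ext hfx.comm) h3'
      exact ⟨⟨ofSubtype σ, hs1⟩, r', rfl, hr', P.fx_of_three hw' hw1 h6 hfx h3' hr'⟩
    | one => exact ⟨1, 1, by simp, by simp, fun x _ => rfl⟩
    | mul a b _ _ ha hb =>
      obtain ⟨r, r', h1, h2, h3⟩ := ha
      obtain ⟨s, s', h4, h5, h6⟩ := hb
      refine ⟨r * s, r' * s', ?_, ?_, h3.mul h6⟩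
      · rw [Subgroup.coe_mul, h1, h4, map_mul]
      · rw [map_mul, map_mul, h2, h5]
    | inv a _ ha =>
      obtain ⟨r, r', h1, h2, h3⟩ := ha
      refine ⟨r⁻¹, r'⁻¹, ?_, ?_, h3.inv⟩
      · rw [Subgroup.coe_inv, h1, map_inv]
      · rw [map_inv, map_inv, h2]
  have hiff : ∀ x, (w : Perm Ω) x = x ↔ (w : Perm Ω) ((r : Perm Ω) x) = (r : Perm Ω) x := by
    intro x
    have h1 : (r : Perm Ω) ((w : Perm Ω) x) = (w : Perm Ω) ((r : Perm Ω) x) :=
      congrFun (congrArg DFunLike.coe hr.comm) x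
    rw [← h1]
    exact ⟨fun h => by rw [h], fun h => (r : Perm Ω).injective h⟩
  set s : Perm {x // (w : Perm Ω) x = x} := (r : Perm Ω).subtypePerm (fun x => (hiff x).symm) with hs
  have hrs : ofSubtype s = (r : Perm Ω) := by
    rw [hs]
    apply ofSubtype_subtypePerm
    intro x hx
    by_contra hne
    exact hx (hr x hne)
  have hs1 : s ∈ Subgroup.closure {σ : Perm {x // (w : Perm Ω) x = x} | IsThreeCycle σ} := by
    rw [closure_three_cycles_eq_alternating, mem_alternatingGroup, ← sign_ofSubtype, hrs]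
    exact r.2
  obtain ⟨r₁, r', h1, h2, h3⟩ := key s hs1
  have h4 : r₁ = r := Subtype.ext (h1.trans hrs)
  exact ⟨r', by rw [h2, h4], h3⟩

end Pair

/-- The even permutations fixing the points moved by `w` are those of `Fix w`. -/
theorem card_fx (w : Perm Ω) : Nat.card {r : alternatingGroup Ω // Fx w r} =
    Nat.card (alternatingGroup {x // w x = x}) := by
  apply Nat.card_congr
  have hiff : ∀ r : alternatingGroup Ω, Fx w r → ∀ x, w ((r : Perm Ω) x) = (r : Perm Ω) x ↔ w x = x := by
    intro r hr x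
    have h1 : (r : Perm Ω) (w x) = w ((r : Perm Ω) x) :=
      congrFun (congrArg DFunLike.coe hr.comm) x
    rw [← h1]
    exact ⟨fun h => (r : Perm Ω).injective h, fun h => by rw [h]⟩
  have hof : ∀ (r : alternatingGroup Ω) (hr : Fx w r),
      ofSubtype ((r : Perm Ω).subtypePerm (p := fun x => w x = x) (hiff r hr)) = (r : Perm Ω) := by
    intro r hr
    apply ofSubtype_subtypePerm
    intro x hx
    by_contra hne
    exact hx (hr x hne)
  exact
    { toFun := fun r => ⟨(r.1 : Perm Ω).subtypePerm (p := fun x => w x = x) (hiff r.1 r.2), by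
        rw [mem_alternatingGroup, ← sign_ofSubtype, hof r.1 r.2]; exact r.1.2⟩
      invFun := fun s => ⟨⟨ofSubtype (s : Perm {x // w x = x}), by
        rw [mem_alternatingGroup, sign_ofSubtype]; exact s.2⟩, fun x hx => ofSubtype_apply_of_not_mem _ hx⟩
      left_inv := fun r => Subtype.ext (Subtype.ext (hof r.1 r.2))
      right_inv := fun s => Subtype.ext (by
        apply Equiv.ext
        intro x
        apply Subtype.ext
        rw [subtypePerm_apply]
        exact ofSubtype_apply_coe _ x) }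

theorem card_fix (w : Perm Ω) : Nat.card {x // w x = x} + w.support.card = Fintype.card Ω := by
  classical
  have h1 : Nat.card {x // w x = x} = (w.support)ᶜ.card := by
    rw [Nat.subtype_card]
    intro x
    rw [Finset.mem_compl, notMem_support]
  rw [h1, Finset.card_compl]
  have := Finset.card_le_univ w.support
  omega

namespace Pair

variable {t : G} {ι κ : alternatingGroup Ω →* G} {w w' : alternatingGroup Ω}

/-- **(**)**: the alternating group on the fixed points of `w` is natural in both views. -/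
theorem gamma (P : Pair t ι w κ) (hw' : κ w' = ι w) (hw1 : w ≠ 1)
    (hle : (w : Perm Ω).support.card ≤ (w' : Perm Ω).support.card)
    (h6 : 6 ≤ (w : Perm Ω).support.card) (h3 : (w : Perm Ω).support.card + 3 ≤ Fintype.card Ω) :
    (w' : Perm Ω).support.card = (w : Perm Ω).support.card ∧
      ∀ r' : alternatingGroup Ω, Fx (w' : Perm Ω) r' →
        ∃ r : alternatingGroup Ω, κ r' = ι r ∧ Fx (w : Perm Ω) r := by
  classical
  have hpull : ∀ r : {r : alternatingGroup Ω // Fx (w : Perm Ω) r},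
      ∃ r' : {r : alternatingGroup Ω // Fx (w' : Perm Ω) r}, κ r'.1 = ι r.1 := by
    intro r
    obtain ⟨r', h1, h2⟩ := P.exists_pull hw' hw1 (by omega) r.2
    exact ⟨⟨r', h2⟩, h1⟩
  choose F hF using hpull
  have hinj : Function.Injective F := by
    intro a b hab
    apply Subtype.ext
    apply P.ht.inj
    rw [← hF a, ← hF b, hab]
  have hc1 : Nat.card {r : alternatingGroup Ω // Fx (w : Perm Ω) r} ≤
      Nat.card {r : alternatingGroup Ω // Fx (w' : Perm Ω) r} := Nat.card_le_card_of_injective F hinj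
  rw [card_fx, card_fx] at hc1
  have e1 := card_fix (w : Perm Ω)
  have e2 := card_fix (w' : Perm Ω)
  have n1 : 3 ≤ Nat.card {x // (w : Perm Ω) x = x} := by omega
  have f1 : 2 * Nat.card (alternatingGroup {x // (w : Perm Ω) x = x}) =
      (Nat.card {x // (w : Perm Ω) x = x}).factorial := by
    have : Nontrivial {x // (w : Perm Ω) x = x} := by
      rw [← Fintype.one_lt_card_iff_nontrivial, ← Nat.card_eq_fintype_card]; omega
    rw [Nat.card_eq_fintype_card, Nat.card_eq_fintype_card, two_mul_card_alternatingGroup,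
      Fintype.card_perm]
  have n2 : Nat.card {x // (w' : Perm Ω) x = x} = Nat.card {x // (w : Perm Ω) x = x} := by
    by_contra hne
    have hlt : Nat.card {x // (w' : Perm Ω) x = x} < Nat.card {x // (w : Perm Ω) x = x} := by omega
    have f2 : 2 * Nat.card (alternatingGroup {x // (w' : Perm Ω) x = x}) ≤
        max 2 (Nat.card {x // (w' : Perm Ω) x = x}).factorial := by
      by_cases hn : Nontrivial {x // (w' : Perm Ω) x = x}
      · rw [Nat.card_eq_fintype_card, Nat.card_eq_fintype_card, two_mul_card_alternatingGroup,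
          Fintype.card_perm]
        exact le_max_right _ _
      · rw [not_nontrivial_iff_subsingleton] at hn
        have : Nat.card (alternatingGroup {x // (w' : Perm Ω) x = x}) = 1 := by
          have : Subsingleton (alternatingGroup {x // (w' : Perm Ω) x = x}) := inferInstance
          exact Nat.card_unique
        rw [this]
        exact le_max_left _ _
    have f3 : (Nat.card {x // (w : Perm Ω) x = x}).factorial ≤
        max 2 (Nat.card {x // (w' : Perm Ω) x = x}).factorial := by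
      rw [← f1]
      exact le_trans (Nat.mul_le_mul_left 2 hc1) f2
    have f4 : 6 ≤ (Nat.card {x // (w : Perm Ω) x = x}).factorial := by
      have := Nat.factorial_le n1
      exact this
    have f5 : (Nat.card {x // (w' : Perm Ω) x = x}).factorial <
        (Nat.card {x // (w : Perm Ω) x = x}).factorial := by
      by_cases h0 : Nat.card {x // (w' : Perm Ω) x = x} = 0
      · rw [h0, Nat.factorial_zero]; omega
      · exact (Nat.factorial_lt (Nat.pos_of_ne_zero h0)).2 hlt
    rcases le_max_iff.1 f3 with h | h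
    · omega
    · omega
  refine ⟨by omega, ?_⟩
  have hbij : Function.Bijective F := by
    rw [Nat.bijective_iff_injective_and_card]
    refine ⟨hinj, ?_⟩
    rw [card_fx, card_fx]
    have f1' : 2 * Nat.card (alternatingGroup {x // (w' : Perm Ω) x = x}) =
        (Nat.card {x // (w' : Perm Ω) x = x}).factorial := by
      have : Nontrivial {x // (w' : Perm Ω) x = x} := by
        rw [← Fintype.one_lt_card_iff_nontrivial, ← Nat.card_eq_fintype_card]; omega
      rw [Nat.card_eq_fintype_card, Nat.card_eq_fintype_card, two_mul_card_alternatingGroup,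
        Fintype.card_perm]
    rw [n2, ← f1] at f1'
    omega
  intro r' hr'
  obtain ⟨r, hr⟩ := hbij.2 ⟨r', hr'⟩
  exact ⟨r.1, by rw [← hF r, hr], r.2⟩

/-- an involution commuting with the alternating group on `Fix w` is supported on the points moved by `w'` -/
theorem fix_of_comm (P : Pair t ι w κ) (hw' : κ w' = ι w) (hw1 : w ≠ 1)
    (hle : (w : Perm Ω).support.card ≤ (w' : Perm Ω).support.card)
    (h6 : 6 ≤ (w : Perm Ω).support.card) (h3 : (w : Perm Ω).support.card + 3 ≤ Fintype.card Ω)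
    {f f' : alternatingGroup Ω} (h : κ f' = ι f) (hf : f * f = 1)
    (hc : ∀ r : alternatingGroup Ω, Fx (w : Perm Ω) r → f * r = r * f) {x : Ω}
    (hx : (w' : Perm Ω) x = x) : (f' : Perm Ω) x = x := by
  obtain ⟨hcard, hsurj⟩ := P.gamma hw' hw1 hle h6 h3
  have hca : CommAlt (f' : Perm Ω) ((w' : Perm Ω).support)ᶜ := by
    intro r hr1 hr2
    have hfr : Fx (w' : Perm Ω) r := by
      intro y hy
      apply hr2
      rw [Finset.mem_compl, not_not, mem_support]
      exact hy
    obtain ⟨s, hs, hs2⟩ := hsurj ⟨r, hr1⟩ hfr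
    exact congrArg Subtype.val (P.comm_of_comm h hs (hc s hs2))
  have hff : f' * f' = 1 := by
    apply P.hu.inj
    rw [map_mul, h, ← map_mul, hf, map_one, map_one]
  apply hca.fix _ (coe_sq hff)
  · rw [Finset.mem_compl, mem_support, not_not]; exact hx
  · rw [Finset.card_compl, hcard]; omega

end Pair

end Cfsg.Agent.OddHalf.D5.CleanTwo

end

-- merged: Cfsg.Agent.OddHalf.D5.CTTwo
section

/-!
# ODD D5, clean case, `k = 2` (helper522)

If no element `t x`, `x` of type `2²`, but all `t x`, `x` of type `2⁴`, are conjugate to `t`, then some element of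
`Alt Ω` swaps two commuting four-groups in an odd way.
-/

set_option autoImplicit false
set_option linter.unusedSimpArgs false
set_option linter.unusedSectionVars false

namespace Cfsg.Agent.OddHalf.D5.CleanTwo

open Equiv Equiv.Perm

section word

variable {G : Type*} [Group G]

/-- The word `R_B⁻¹ R_A R₂ R_A`. -/
theorem word {t A1 A2 B1 B2 RA RB R2 : G} (a1 : A1 * A1 = 1) (a2 : A2 * A2 = 1) (b1 : B1 * B1 = 1)
    (b2 : B2 * B2 = 1) (c21 : A2 * A1 = A1 * A2) (d11 : B1 * A1 = A1 * B1) (d12 : B1 * A2 = A2 * B1)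
    (d21 : B2 * A1 = A1 * B2) (d22 : B2 * A2 = A2 * B2) (e21 : B2 * B1 = B1 * B2)
    (r1 : RA * (t * (A1 * B1)) = (t * (A1 * B1)) * RA) (r2 : RA * A1 = (A2 * B1) * RA)
    (r3 : RA * (A2 * B1) = (A1 * A2 * B1) * RA) (r4 : RA * B1 = B1 * RA)
    (r5 : RA * (A1 * B2) = (A1 * B2) * RA)
    (s1 : RB * (t * (A1 * B1)) = (t * (A1 * B1)) * RB) (s2 : RB * A1 = A1 * RB)
    (s3 : RB * (A2 * B1) = (A2 * B1) * RB) (s4 : RB * B1 = (A1 * B2) * RB)
    (s5 : RB * (A1 * B2) = (A1 * B1 * B2) * RB)
    (q1 : R2 * t = t * R2) (q2 : R2 * A1 = A1 * R2) (q3 : R2 * A2 = A2 * R2)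
    (q4 : R2 * B1 = B2 * R2) (q5 : R2 * B2 = (B1 * B2) * R2) :
    SemiconjBy (RB⁻¹ * RA * R2 * RA) t t ∧ SemiconjBy (RB⁻¹ * RA * R2 * RA) A1 B2 ∧
      SemiconjBy (RB⁻¹ * RA * R2 * RA) A2 (B1 * B2) ∧ SemiconjBy (RB⁻¹ * RA * R2 * RA) B1 A2 ∧
      SemiconjBy (RB⁻¹ * RA * R2 * RA) B2 A1 := by
  -- extended rewriting rules
  have a1' : ∀ x, A1 * (A1 * x) = x := fun x => by rw [← mul_assoc, a1, one_mul]
  have a2' : ∀ x, A2 * (A2 * x) = x := fun x => by rw [← mul_assoc, a2, one_mul]
  have b1' : ∀ x, B1 * (B1 * x) = x := fun x => by rw [← mul_assoc, b1, one_mul]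
  have b2' : ∀ x, B2 * (B2 * x) = x := fun x => by rw [← mul_assoc, b2, one_mul]
  have c21' : ∀ x, A2 * (A1 * x) = A1 * (A2 * x) := fun x => by rw [← mul_assoc, c21, mul_assoc]
  have d11' : ∀ x, B1 * (A1 * x) = A1 * (B1 * x) := fun x => by rw [← mul_assoc, d11, mul_assoc]
  have d12' : ∀ x, B1 * (A2 * x) = A2 * (B1 * x) := fun x => by rw [← mul_assoc, d12, mul_assoc]
  have d21' : ∀ x, B2 * (A1 * x) = A1 * (B2 * x) := fun x => by rw [← mul_assoc, d21, mul_assoc]
  have d22' : ∀ x, B2 * (A2 * x) = A2 * (B2 * x) := fun x => by rw [← mul_assoc, d22, mul_assoc]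
  have e21' : ∀ x, B2 * (B1 * x) = B1 * (B2 * x) := fun x => by rw [← mul_assoc, e21, mul_assoc]
  -- `RA`
  have A_A1 : SemiconjBy RA A1 (A2 * B1) := r2
  have A_B1 : SemiconjBy RA B1 B1 := r4
  have A_A2 : SemiconjBy RA A2 (A1 * A2) := by
    have h : SemiconjBy RA (A2 * B1 * B1) (A1 * A2 * B1 * B1) := SemiconjBy.mul_right r3 A_B1
    simpa only [mul_assoc, b1, mul_one] using h
  have A_B2 : SemiconjBy RA B2 (A1 * A2 * B1 * B2) := by
    have h : SemiconjBy RA (A1 * (A1 * B2)) (A2 * B1 * (A1 * B2)) := SemiconjBy.mul_right A_A1 r5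
    simpa only [mul_assoc, a1', d11', c21'] using h
  have A_t : SemiconjBy RA t (t * (A1 * A2 * B1)) := by
    have h : SemiconjBy RA (t * (A1 * B1) * A1 * B1) (t * (A1 * B1) * (A2 * B1) * B1) :=
      SemiconjBy.mul_right (SemiconjBy.mul_right r1 A_A1) A_B1
    simpa only [mul_assoc, a1', b1', a1, b1, d11', d11, d12', d12, mul_one] using h
  -- `RB`
  have B_A1 : SemiconjBy RB A1 A1 := s2
  have B_B1 : SemiconjBy RB B1 (A1 * B2) := s4
  have B_B2 : SemiconjBy RB B2 (B1 * B2) := by
    have h : SemiconjBy RB (A1 * (A1 * B2)) (A1 * (A1 * B1 * B2)) := SemiconjBy.mul_right B_A1 s5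
    simpa only [mul_assoc, a1'] using h
  have B_A2 : SemiconjBy RB A2 (A1 * A2 * B1 * B2) := by
    have h : SemiconjBy RB (A2 * B1 * B1) (A2 * B1 * (A1 * B2)) := SemiconjBy.mul_right s3 B_B1
    simpa only [mul_assoc, b1, mul_one, d11', c21'] using h
  have B_t : SemiconjBy RB t (t * (A1 * B1 * B2)) := by
    have h : SemiconjBy RB (t * (A1 * B1) * A1 * B1) (t * (A1 * B1) * A1 * (A1 * B2)) :=
      SemiconjBy.mul_right (SemiconjBy.mul_right s1 B_A1) B_B1
    simpa only [mul_assoc, a1', b1', a1, b1, d11', d11, d12', d12, mul_one] using h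
  -- `RB⁻¹`
  have I_A1 : SemiconjBy RB⁻¹ A1 A1 := SemiconjBy.inv_symm_left_iff.2 B_A1
  have I_B1 : SemiconjBy RB⁻¹ B1 (A1 * B1 * B2) := by
    apply SemiconjBy.inv_symm_left_iff.2
    have h : SemiconjBy RB (A1 * B1 * B2) (A1 * (A1 * B2) * (B1 * B2)) :=
      SemiconjBy.mul_right (SemiconjBy.mul_right B_A1 B_B1) B_B2
    simpa only [mul_assoc, a1', b2', b2, e21', e21, mul_one] using h
  have I_B2 : SemiconjBy RB⁻¹ B2 (A1 * B1) := by
    apply SemiconjBy.inv_symm_left_iff.2
    have h : SemiconjBy RB (A1 * B1) (A1 * (A1 * B2)) := SemiconjBy.mul_right B_A1 B_B1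
    simpa only [mul_assoc, a1'] using h
  have I_A2 : SemiconjBy RB⁻¹ A2 (A1 * A2 * B2) := by
    apply SemiconjBy.inv_symm_left_iff.2
    have h : SemiconjBy RB (A1 * A2 * B2) (A1 * (A1 * A2 * B1 * B2) * (B1 * B2)) :=
      SemiconjBy.mul_right (SemiconjBy.mul_right B_A1 B_A2) B_B2
    simpa only [mul_assoc, a1', b1', b2', b1, b2, e21', e21, mul_one] using h
  have I_t : SemiconjBy RB⁻¹ t (t * (A1 * B2)) := by
    apply SemiconjBy.inv_symm_left_iff.2
    have h : SemiconjBy RB (t * (A1 * B2)) (t * (A1 * B1 * B2) * (A1 * (B1 * B2))) :=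
      SemiconjBy.mul_right B_t (SemiconjBy.mul_right B_A1 B_B2)
    simpa only [mul_assoc, a1', b1', b2', a1, b2, b1, e21', e21, d11', d21', mul_one] using h
  -- `R2 RA`
  have q1' : SemiconjBy R2 t t := q1
  have q2' : SemiconjBy R2 A1 A1 := q2
  have q3' : SemiconjBy R2 A2 A2 := q3
  have q4' : SemiconjBy R2 B1 B2 := q4
  have q5' : SemiconjBy R2 B2 (B1 * B2) := q5
  refine ⟨?_, ?_, ?_, ?_, ?_⟩
  · have h1 : SemiconjBy R2 (t * (A1 * A2 * B1)) (t * (A1 * A2 * B2)) :=
      q1'.mul_right ((q2'.mul_right q3').mul_right q4')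
    have h2 : SemiconjBy RA (t * (A1 * A2 * B2)) (t * (A1 * B1 * B2)) := by
      have := A_t.mul_right ((A_A1.mul_right A_A2).mul_right A_B2)
      simpa only [mul_assoc, a1', b1', b2', a2', a1, a2, b2, b1, e21', e21, d11', d21', d12', d22', c21',
        c21, d11, d12, d21, d22, mul_one] using this
    have h3 : SemiconjBy RB⁻¹ (t * (A1 * B1 * B2)) t := by
      have := I_t.mul_right ((I_A1.mul_right I_B1).mul_right I_B2)
      simpa only [mul_assoc, a1', b1', b2', a2', a1, a2, b2, b1, e21', e21, d11', d21', d12', d22', c21',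
        c21, d11, d12, d21, d22, mul_one] using this
    exact ((h3.mul_left h2).mul_left h1).mul_left A_t
  · have h1 : SemiconjBy R2 (A2 * B1) (A2 * B2) := q3'.mul_right q4'
    have h2 : SemiconjBy RA (A2 * B2) (B1 * B2) := by
      have := A_A2.mul_right A_B2
      simpa only [mul_assoc, a1', b1', b2', a2', a1, a2, b2, b1, e21', e21, d11', d21', d12', d22', c21',
        c21, d11, d12, d21, d22, mul_one] using this
    have h3 : SemiconjBy RB⁻¹ (B1 * B2) B2 := by
      have := I_B1.mul_right I_B2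
      simpa only [mul_assoc, a1', b1', b2', a2', a1, a2, b2, b1, e21', e21, d11', d21', d12', d22', c21',
        c21, d11, d12, d21, d22, mul_one] using this
    exact ((h3.mul_left h2).mul_left h1).mul_left A_A1
  · have h1 : SemiconjBy R2 (A1 * A2) (A1 * A2) := q2'.mul_right q3'
    have h2 : SemiconjBy RA (A1 * A2) (A1 * B1) := by
      have := A_A1.mul_right A_A2
      simpa only [mul_assoc, a1', b1', b2', a2', a1, a2, b2, b1, e21', e21, d11', d21', d12', d22', c21',
        c21, d11, d12, d21, d22, mul_one] using this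
    have h3 : SemiconjBy RB⁻¹ (A1 * B1) (B1 * B2) := by
      have := I_A1.mul_right I_B1
      simpa only [mul_assoc, a1', b1', b2', a2', a1, a2, b2, b1, e21', e21, d11', d21', d12', d22', c21',
        c21, d11, d12, d21, d22, mul_one] using this
    exact ((h3.mul_left h2).mul_left h1).mul_left A_A2
  · have h2 : SemiconjBy RA B2 (A1 * A2 * B1 * B2) := A_B2
    have h3 : SemiconjBy RB⁻¹ (A1 * A2 * B1 * B2) A2 := by
      have := ((I_A1.mul_right I_A2).mul_right I_B1).mul_right I_B2
      simpa only [mul_assoc, a1', b1', b2', a2', a1, a2, b2, b1, e21', e21, d11', d21', d12', d22', c21',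
        c21, d11, d12, d21, d22, mul_one] using this
    exact ((h3.mul_left h2).mul_left q4').mul_left A_B1
  · have h1 : SemiconjBy R2 (A1 * A2 * B1 * B2) (A1 * A2 * B1) := by
      have := ((q2'.mul_right q3').mul_right q4').mul_right q5'
      simpa only [mul_assoc, a1', b1', b2', a2', a1, a2, b2, b1, e21', e21, d11', d21', d12', d22', c21',
        c21, d11, d12, d21, d22, mul_one] using this
    have h2 : SemiconjBy RA (A1 * A2 * B1) A1 := by
      have := (A_A1.mul_right A_A2).mul_right A_B1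
      simpa only [mul_assoc, a1', b1', b2', a2', a1, a2, b2, b1, e21', e21, d11', d21', d12', d22', c21',
        c21, d11, d12, d21, d22, mul_one] using this
    exact ((I_A1.mul_left h2).mul_left h1).mul_left A_B2

end word

variable {G : Type*} [Group G] {Ω : Type*} [Fintype Ω] [DecidableEq Ω]

theorem disj_of_card {σ τ : Perm Ω} (h : (σ * τ).support.card = σ.support.card + τ.support.card) :
    Disjoint σ.support τ.support := by
  rw [Finset.disjoint_iff_inter_eq_empty, ← Finset.card_eq_zero]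
  have h1 := Finset.card_le_card (support_mul_le σ τ)
  have h2 := Finset.card_union_add_card_inter σ.support τ.support
  rw [Finset.sup_eq_union] at h1
  omega

omit [Fintype Ω] in
theorem comm_of_fix {σ τ : Perm Ω} (h : ∀ x, σ x = x ∨ τ x = x) : σ * τ = τ * σ :=
  (show Perm.Disjoint σ τ from h).commute

/-- The data for `k = 2`. -/
structure Four (a₁ a₂ b₁ b₂ : alternatingGroup Ω) : Prop where
  a1 : a₁ * a₁ = 1
  a2 : a₂ * a₂ = 1
  b1 : b₁ * b₁ = 1
  b2 : b₂ * b₂ = 1
  c21 : a₂ * a₁ = a₁ * a₂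
  d11 : b₁ * a₁ = a₁ * b₁
  d12 : b₁ * a₂ = a₂ * b₁
  d21 : b₂ * a₁ = a₁ * b₂
  d22 : b₂ * a₂ = a₂ * b₂
  e21 : b₂ * b₁ = b₁ * b₂
  sa1 : (a₁ : Perm Ω).support.card = 4
  sa2 : (a₂ : Perm Ω).support.card = 4
  sa3 : ((a₁ * a₂ : alternatingGroup Ω) : Perm Ω).support.card = 4
  sb1 : (b₁ : Perm Ω).support.card = 4
  sb2 : (b₂ : Perm Ω).support.card = 4
  sb3 : ((b₁ * b₂ : alternatingGroup Ω) : Perm Ω).support.card = 4
  s11 : ((a₁ * b₁ : alternatingGroup Ω) : Perm Ω).support.card = 8
  s12 : ((a₁ * b₂ : alternatingGroup Ω) : Perm Ω).support.card = 8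
  s13 : ((a₁ * (b₁ * b₂) : alternatingGroup Ω) : Perm Ω).support.card = 8
  s21 : ((a₂ * b₁ : alternatingGroup Ω) : Perm Ω).support.card = 8
  s22 : ((a₂ * b₂ : alternatingGroup Ω) : Perm Ω).support.card = 8
  s23 : ((a₂ * (b₁ * b₂) : alternatingGroup Ω) : Perm Ω).support.card = 8
  s31 : ((a₁ * a₂ * b₁ : alternatingGroup Ω) : Perm Ω).support.card = 8
  s32 : ((a₁ * a₂ * b₂ : alternatingGroup Ω) : Perm Ω).support.card = 8
  s33 : ((a₁ * a₂ * (b₁ * b₂) : alternatingGroup Ω) : Perm Ω).support.card = 8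

theorem sq_mul {M : Type*} [Group M] {a b : M} (ha : a * a = 1) (hb : b * b = 1) (h : a * b = b * a) :
    (a * b) * (a * b) = 1 := by
  calc (a * b) * (a * b) = a * (b * a) * b := by group
    _ = (a * a) * (b * b) := by rw [← h]; group
    _ = 1 := by rw [ha, hb, one_mul]

theorem two {t : G} {ι : alternatingGroup Ω →* G} (h : Spl t ι) (hK : ∀ c, ¬ IsConj t (ι c))
    (h4 : ∀ a : alternatingGroup Ω, a * a = 1 → (a : Perm Ω).support.card = 4 → ¬ IsConj t (t * ι a))
    (h8 : ∀ a : alternatingGroup Ω, a * a = 1 → (a : Perm Ω).support.card = 8 → IsConj t (t * ι a))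
    {a₁ a₂ b₁ b₂ ρ : alternatingGroup Ω} (F : Four a₁ a₂ b₁ b₂) (q2 : ρ * a₁ = a₁ * ρ)
    (q3 : ρ * a₂ = a₂ * ρ) (q4 : ρ * b₁ = b₂ * ρ) (q5 : ρ * b₂ = (b₁ * b₂) * ρ)
    (hn : Fintype.card Ω ≤ 10 ∨ (11 ≤ Fintype.card Ω ∧ ∀ x, ((a₁ * b₁ : alternatingGroup Ω) : Perm Ω) x = x →
      (a₁ : Perm Ω) x = x ∧ (a₂ : Perm Ω) x = x ∧ (b₁ : Perm Ω) x = x ∧ (b₂ : Perm Ω) x = x ∧
        (ρ : Perm Ω) x = x)) :
    ∃ c : alternatingGroup Ω, c * a₁ = b₂ * c ∧ c * a₂ = (b₁ * b₂) * c ∧ c * b₁ = a₂ * c ∧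
      c * b₂ = a₁ * c ∧ (11 ≤ Fintype.card Ω → ∀ r : alternatingGroup Ω,
        Fx ((a₁ * b₁ : alternatingGroup Ω) : Perm Ω) r → c * r = r * c) := by
  obtain ⟨a1, a2, b1, b2, c21, d11, d12, d21, d22, e21, sa1, sa2, sa3, sb1, sb2, sb3, s11, s12, s13,
    s21, s22, s23, s31, s32, s33⟩ := F
  have a1' : ∀ x, a₁ * (a₁ * x) = x := fun x => by rw [← mul_assoc, a1, one_mul]
  have a2' : ∀ x, a₂ * (a₂ * x) = x := fun x => by rw [← mul_assoc, a2, one_mul]
  have b1' : ∀ x, b₁ * (b₁ * x) = x := fun x => by rw [← mul_assoc, b1, one_mul]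
  have b2' : ∀ x, b₂ * (b₂ * x) = x := fun x => by rw [← mul_assoc, b2, one_mul]
  have c21' : ∀ x, a₂ * (a₁ * x) = a₁ * (a₂ * x) := fun x => by rw [← mul_assoc, c21, mul_assoc]
  have d11' : ∀ x, b₁ * (a₁ * x) = a₁ * (b₁ * x) := fun x => by rw [← mul_assoc, d11, mul_assoc]
  have d12' : ∀ x, b₁ * (a₂ * x) = a₂ * (b₁ * x) := fun x => by rw [← mul_assoc, d12, mul_assoc]
  have d21' : ∀ x, b₂ * (a₁ * x) = a₁ * (b₂ * x) := fun x => by rw [← mul_assoc, d21, mul_assoc]
  have d22' : ∀ x, b₂ * (a₂ * x) = a₂ * (b₂ * x) := fun x => by rw [← mul_assoc, d22, mul_assoc]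
  have e21' : ∀ x, b₂ * (b₁ * x) = b₁ * (b₂ * x) := fun x => by rw [← mul_assoc, e21, mul_assoc]
  obtain ⟨w, hw⟩ : ∃ w, w = a₁ * b₁ := ⟨_, rfl⟩
  rw [← hw] at hn s11 ⊢
  have ww : w * w = 1 := by rw [hw]; exact sq_mul a1 b1 d11.symm
  obtain ⟨κ, P⟩ := h.exists_pair hK (h8 w ww s11)
  -- squares and commutation with `w`
  have sqs : ∀ f : alternatingGroup Ω, (∃ f₁ f₂ : alternatingGroup Ω, f₁ * f₁ = 1 ∧ f₂ * f₂ = 1 ∧
      f₁ * f₂ = f₂ * f₁ ∧ f = f₁ * f₂) → f * f = 1 := by
    rintro f ⟨f₁, f₂, g1, g2, g3, rfl⟩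
    exact sq_mul g1 g2 g3
  have q21 : (a₂ * b₁) * (a₂ * b₁) = 1 := by
    simp only [mul_assoc, a1', a2', b1', b2', a1, a2, b1, b2, c21, c21', d11, d11', d12, d12', d21, d21', d22, d22', e21, e21', mul_one]
  have q31 : (a₁ * a₂ * b₁) * (a₁ * a₂ * b₁) = 1 := by
    simp only [mul_assoc, a1', a2', b1', b2', a1, a2, b1, b2, c21, c21', d11, d11', d12, d12', d21, d21', d22, d22', e21, e21', mul_one]
  have q12 : (a₁ * b₂) * (a₁ * b₂) = 1 := by
    simp only [mul_assoc, a1', a2', b1', b2', a1, a2, b1, b2, c21, c21', d11, d11', d12, d12', d21, d21', d22, d22', e21, e21', mul_one]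
  have q13 : (a₁ * (b₁ * b₂)) * (a₁ * (b₁ * b₂)) = 1 := by
    simp only [mul_assoc, a1', a2', b1', b2', a1, a2, b1, b2, c21, c21', d11, d11', d12, d12', d21, d21', d22, d22', e21, e21', mul_one]
  have q33 : (a₁ * a₂ * (b₁ * b₂)) * (a₁ * a₂ * (b₁ * b₂)) = 1 := by
    simp only [mul_assoc, a1', a2', b1', b2', a1, a2, b1, b2, c21, c21', d11, d11', d12, d12', d21, d21', d22, d22', e21, e21', mul_one]
  have q22 : (a₂ * b₂) * (a₂ * b₂) = 1 := by
    simp only [mul_assoc, a1', a2', b1', b2', a1, a2, b1, b2, c21, c21', d11, d11', d12, d12', d21, d21', d22, d22', e21, e21', mul_one]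
  -- the pull backs
  obtain ⟨α, hα⟩ : ∃ f, κ f = ι a₁ := by
    have := P.pull (c := a₂ * b₁) (d := a₁ * a₂ * b₁)
      (by simp only [hw, mul_assoc, a1', a2', b1', b2', a1, a2, b1, b2, c21, c21', d11, d11', d12, d12', d21, d21', d22, d22', e21, e21', mul_one])
      (by simp only [hw, mul_assoc, a1', a2', b1', b2', a1, a2, b1, b2, c21, c21', d11, d11', d12, d12', d21, d21', d22, d22', e21, e21', mul_one])
      (h8 _ q21 s21) (h8 _ q31 s31)
    have e : a₂ * b₁ * (a₁ * a₂ * b₁) = a₁ := by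
      simp only [mul_assoc, a1', a2', b1', b2', a1, a2, b1, b2, c21, c21', d11, d11', d12, d12', d21, d21', d22, d22', e21, e21', mul_one]
    rwa [e] at this
  obtain ⟨β, hβ⟩ : ∃ f, κ f = ι b₁ := by
    have := P.pull (c := a₁ * b₂) (d := a₁ * (b₁ * b₂))
      (by simp only [hw, mul_assoc, a1', a2', b1', b2', a1, a2, b1, b2, c21, c21', d11, d11', d12, d12', d21, d21', d22, d22', e21, e21', mul_one])
      (by simp only [hw, mul_assoc, a1', a2', b1', b2', a1, a2, b1, b2, c21, c21', d11, d11', d12, d12', d21, d21', d22, d22', e21, e21', mul_one])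
      (h8 _ q12 s12) (h8 _ q13 s13)
    have e : a₁ * b₂ * (a₁ * (b₁ * b₂)) = b₁ := by
      simp only [mul_assoc, a1', a2', b1', b2', a1, a2, b1, b2, c21, c21', d11, d11', d12, d12', d21, d21', d22, d22', e21, e21', mul_one]
    rwa [e] at this
  obtain ⟨α₂, hα₂⟩ : ∃ f, κ f = ι (a₂ * b₁) := by
    have := P.pull (c := a₁ * b₂) (d := a₁ * a₂ * (b₁ * b₂))
      (by simp only [hw, mul_assoc, a1', a2', b1', b2', a1, a2, b1, b2, c21, c21', d11, d11', d12, d12', d21, d21', d22, d22', e21, e21', mul_one])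
      (by simp only [hw, mul_assoc, a1', a2', b1', b2', a1, a2, b1, b2, c21, c21', d11, d11', d12, d12', d21, d21', d22, d22', e21, e21', mul_one])
      (h8 _ q12 s12) (h8 _ q33 s33)
    have e : a₁ * b₂ * (a₁ * a₂ * (b₁ * b₂)) = a₂ * b₁ := by
      simp only [mul_assoc, a1', a2', b1', b2', a1, a2, b1, b2, c21, c21', d11, d11', d12, d12', d21, d21', d22, d22', e21, e21', mul_one]
    rwa [e] at this
  obtain ⟨β₂, hβ₂⟩ : ∃ f, κ f = ι (a₁ * b₂) := by
    have := P.pull (c := a₂ * b₁) (d := a₁ * a₂ * (b₁ * b₂))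
      (by simp only [hw, mul_assoc, a1', a2', b1', b2', a1, a2, b1, b2, c21, c21', d11, d11', d12, d12', d21, d21', d22, d22', e21, e21', mul_one])
      (by simp only [hw, mul_assoc, a1', a2', b1', b2', a1, a2, b1, b2, c21, c21', d11, d11', d12, d12', d21, d21', d22, d22', e21, e21', mul_one])
      (h8 _ q21 s21) (h8 _ q33 s33)
    have e : a₂ * b₁ * (a₁ * a₂ * (b₁ * b₂)) = a₁ * b₂ := by
      simp only [mul_assoc, a1', a2', b1', b2', a1, a2, b1, b2, c21, c21', d11, d11', d12, d12', d21, d21', d22, d22', e21, e21', mul_one]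
    rwa [e] at this
  -- the second view of `w`
  have hw' : κ (α * β) = ι w := by rw [map_mul, hα, hβ, ← map_mul, hw]
  have hw1 : w ≠ 1 := by
    intro e
    rw [e] at s11
    simp at s11
  have sq' : ∀ {f f' : alternatingGroup Ω}, κ f' = ι f → f * f = 1 → f' * f' = 1 := by
    intro f f' hk hf
    apply P.hu.inj
    rw [map_mul, hk, ← map_mul, hf, map_one, map_one]
  have ne' : ∀ {f f' : alternatingGroup Ω}, κ f' = ι f → f ≠ 1 → (f' : Perm Ω).support.card ≠ 0 := by
    intro f f' hk hf h0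
    rw [Finset.card_eq_zero, support_eq_empty_iff] at h0
    have : f' = 1 := Subtype.ext h0
    rw [this, map_one] at hk
    apply hf
    apply P.ht.inj
    rw [← hk, map_one]
  have card8' : ∀ {f f' : alternatingGroup Ω}, κ f' = ι f → f * f = 1 → f ≠ 1 →
      IsConj t (t * ι (w * f)) → 8 ≤ (f' : Perm Ω).support.card := by
    intro f f' hk hf hf1 hd
    have h1 := four_dvd (coe_sq (sq' hk hf)) f'.2
    have h2 := ne' hk hf1
    have h3 : (f' : Perm Ω).support.card ≠ 4 := fun e => h4 f' (sq' hk hf) e ((P.inD_iff hk).2 hd)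
    omega
  have hww' : 8 ≤ ((α * β : alternatingGroup Ω) : Perm Ω).support.card := by
    apply card8' hw' ww hw1
    rw [ww, map_one, mul_one]
  -- the bound
  have hfxcomm : ∀ {f r : alternatingGroup Ω}, (∀ x, (w : Perm Ω) x = x → (f : Perm Ω) x = x) →
      Fx (w : Perm Ω) r → f * r = r * f := by
    intro f r hfx hr
    apply Subtype.ext
    apply comm_of_fix
    intro y
    by_cases hy : (w : Perm Ω) y = y
    · exact Or.inl (hfx y hy)
    · exact Or.inr (hr y hy)
  have hle : (w : Perm Ω).support.card ≤ ((α * β : alternatingGroup Ω) : Perm Ω).support.card := by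
    rw [s11]; exact hww'
  have fixall : 11 ≤ Fintype.card Ω → ∀ {f f' : alternatingGroup Ω}, κ f' = ι f → f * f = 1 →
      (∀ x, (w : Perm Ω) x = x → (f : Perm Ω) x = x) → ∀ x,
      ((α * β : alternatingGroup Ω) : Perm Ω) x = x → (f' : Perm Ω) x = x := by
    intro h11 f f' hk hf hfx x hx
    exact P.fix_of_comm hw' hw1 hle (by rw [s11]; norm_num) (by rw [s11]; omega) hk hf
      (fun r hr => hfxcomm hfx hr) hx
  have bound : ∀ {f f' : alternatingGroup Ω}, κ f' = ι f → f * f = 1 →
      (11 ≤ Fintype.card Ω → ∀ x, (w : Perm Ω) x = x → (f : Perm Ω) x = x) →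
      (f' : Perm Ω).support.card ≤ 8 := by
    intro f f' hk hf hfx
    rcases hn with hn | ⟨hn, -⟩
    · have h1 := four_dvd (coe_sq (sq' hk hf)) f'.2
      have h2 := Finset.card_le_univ (f' : Perm Ω).support
      omega
    · have hg := (P.gamma hw' hw1 hle (by rw [s11]; norm_num) (by rw [s11]; omega)).1
      rw [s11] at hg
      rw [← hg]
      apply Finset.card_le_card
      intro x hx
      rw [mem_support] at hx ⊢
      intro hx'
      exact hx (fixall hn hk hf (hfx hn) x hx')
  have hfxw : ∀ f : alternatingGroup Ω, 11 ≤ Fintype.card Ω →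
      (f = a₁ ∨ f = a₂ ∨ f = b₁ ∨ f = b₂ ∨ f = ρ) → ∀ x, (w : Perm Ω) x = x → (f : Perm Ω) x = x := by
    intro f h11 hf x hx
    rcases hn with hn | ⟨-, hn⟩
    · omega
    obtain ⟨k1, k2, k3, k4, k5⟩ := hn x hx
    rcases hf with rfl | rfl | rfl | rfl | rfl <;> assumption
  have fx_mul : ∀ {f g : alternatingGroup Ω},
      (11 ≤ Fintype.card Ω → ∀ x, (w : Perm Ω) x = x → (f : Perm Ω) x = x) →
      (11 ≤ Fintype.card Ω → ∀ x, (w : Perm Ω) x = x → (g : Perm Ω) x = x) →
      (11 ≤ Fintype.card Ω → ∀ x, (w : Perm Ω) x = x → ((f * g : alternatingGroup Ω) : Perm Ω) x = x) := by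
    intro f g k1 k2 h11 x hx
    show (f : Perm Ω) ((g : Perm Ω) x) = x
    rw [k2 h11 x hx, k1 h11 x hx]
  have fa1 := fun h11 => hfxw a₁ h11 (Or.inl rfl)
  have fa2 := fun h11 => hfxw a₂ h11 (Or.inr (Or.inl rfl))
  have fb1 := fun h11 => hfxw b₁ h11 (Or.inr (Or.inr (Or.inl rfl)))
  have fb2 := fun h11 => hfxw b₂ h11 (Or.inr (Or.inr (Or.inr (Or.inl rfl))))
  have fρ := fun h11 => hfxw ρ h11 (Or.inr (Or.inr (Or.inr (Or.inr rfl))))
  have card4 : ∀ {f f' : alternatingGroup Ω}, κ f' = ι f → f * f = 1 →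
      (11 ≤ Fintype.card Ω → ∀ x, (w : Perm Ω) x = x → (f : Perm Ω) x = x) →
      ((w * f : alternatingGroup Ω) : Perm Ω).support.card = 4 → f ≠ 1 → (w * f) * (w * f) = 1 →
      (f' : Perm Ω).support.card = 4 := by
    intro f f' hk hf hfx hwf hf1 hwf2
    have h1 := four_dvd (coe_sq (sq' hk hf)) f'.2
    have h2 := bound hk hf hfx
    have h3 := ne' hk hf1
    have h5 : (f' : Perm Ω).support.card ≠ 8 := by
      intro e
      exact h4 _ hwf2 hwf ((P.inD_iff hk).1 (h8 f' (sq' hk hf) e))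
    omega
  have card8 : ∀ {f f' : alternatingGroup Ω}, κ f' = ι f → f * f = 1 →
      (11 ≤ Fintype.card Ω → ∀ x, (w : Perm Ω) x = x → (f : Perm Ω) x = x) → f ≠ 1 →
      IsConj t (t * ι (w * f)) → (f' : Perm Ω).support.card = 8 := by
    intro f f' hk hf hfx hf1 hd
    exact le_antisymm (bound hk hf hfx) (card8' hk hf hf1 hd)
  have ne1 : ∀ {f : alternatingGroup Ω}, (f : Perm Ω).support.card = 4 → f ≠ 1 := by
    rintro f h rfl
    simp at h
  have ne1' : ∀ {f : alternatingGroup Ω}, (f : Perm Ω).support.card = 8 → f ≠ 1 := by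
    rintro f h rfl
    simp at h
  -- the six elements of type 2
  have k1 : (α : Perm Ω).support.card = 4 := by
    have e : w * a₁ = b₁ := by
      simp only [hw, mul_assoc, a1', a2', b1', b2', a1, a2, b1, b2, c21, c21', d11, d11', d12, d12', d21, d21', d22, d22', e21, e21', mul_one]
    exact card4 hα a1 fa1 (by rw [e]; exact sb1) (ne1 sa1) (by rw [e]; exact b1)
  have k2 : (α₂ : Perm Ω).support.card = 4 := by
    have e : w * (a₂ * b₁) = a₁ * a₂ := by
      simp only [hw, mul_assoc, a1', a2', b1', b2', a1, a2, b1, b2, c21, c21', d11, d11', d12, d12', d21, d21', d22, d22', e21, e21', mul_one]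
    exact card4 hα₂ q21 (fx_mul fa2 fb1) (by rw [e]; exact sa3) (ne1' s21) (by
      rw [e]
      simp only [mul_assoc, a1', a2', b1', b2', a1, a2, b1, b2, c21, c21', d11, d11', d12, d12', d21, d21', d22, d22', e21, e21', mul_one])
  have k3 : ((α * α₂ : alternatingGroup Ω) : Perm Ω).support.card = 4 := by
    have e : w * (a₁ * (a₂ * b₁)) = a₂ := by
      simp only [hw, mul_assoc, a1', a2', b1', b2', a1, a2, b1, b2, c21, c21', d11, d11', d12, d12', d21, d21', d22, d22', e21, e21', mul_one]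
    exact card4 (by rw [map_mul, hα, hα₂, ← map_mul]) (by
      simp only [mul_assoc, a1', a2', b1', b2', a1, a2, b1, b2, c21, c21', d11, d11', d12, d12', d21, d21', d22, d22', e21, e21', mul_one]) (fx_mul fa1 (fx_mul fa2 fb1))
      (by rw [e]; exact sa2) (by rw [← mul_assoc]; exact ne1' s31) (by rw [e]; exact a2)
  have k4 : (β : Perm Ω).support.card = 4 := by
    have e : w * b₁ = a₁ := by
      simp only [hw, mul_assoc, a1', a2', b1', b2', a1, a2, b1, b2, c21, c21', d11, d11', d12, d12', d21, d21', d22, d22', e21, e21', mul_one]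
    exact card4 hβ b1 fb1 (by rw [e]; exact sa1) (ne1 sb1) (by rw [e]; exact a1)
  have k5 : (β₂ : Perm Ω).support.card = 4 := by
    have e : w * (a₁ * b₂) = b₁ * b₂ := by
      simp only [hw, mul_assoc, a1', a2', b1', b2', a1, a2, b1, b2, c21, c21', d11, d11', d12, d12', d21, d21', d22, d22', e21, e21', mul_one]
    exact card4 hβ₂ q12 (fx_mul fa1 fb2) (by rw [e]; exact sb3) (ne1' s12) (by
      rw [e]
      simp only [mul_assoc, a1', a2', b1', b2', a1, a2, b1, b2, c21, c21', d11, d11', d12, d12', d21, d21', d22, d22', e21, e21', mul_one])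
  have k6 : ((β * β₂ : alternatingGroup Ω) : Perm Ω).support.card = 4 := by
    have e : w * (b₁ * (a₁ * b₂)) = b₂ := by
      simp only [hw, mul_assoc, a1', a2', b1', b2', a1, a2, b1, b2, c21, c21', d11, d11', d12, d12', d21, d21', d22, d22', e21, e21', mul_one]
    have e2 : b₁ * (a₁ * b₂) = a₁ * (b₁ * b₂) := by
      simp only [mul_assoc, a1', a2', b1', b2', a1, a2, b1, b2, c21, c21', d11, d11', d12, d12', d21, d21', d22, d22', e21, e21', mul_one]
    exact card4 (by rw [map_mul, hβ, hβ₂, ← map_mul]) (by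
      simp only [mul_assoc, a1', a2', b1', b2', a1, a2, b1, b2, c21, c21', d11, d11', d12, d12', d21, d21', d22, d22', e21, e21', mul_one]) (fx_mul fb1 (fx_mul fa1 fb2))
      (by rw [e]; exact sb2) (by rw [e2]; exact ne1' s13) (by rw [e]; exact b2)
  -- four of the elements of type 4
  have m11 : ((α * β : alternatingGroup Ω) : Perm Ω).support.card = 8 := by
    refine card8 hw' ww (by rw [hw]; rw [hw] at fa1 fb1 fx_mul; exact fx_mul fa1 fb1) hw1 ?_
    rw [ww, map_one, mul_one]
  have m12 : ((α * β₂ : alternatingGroup Ω) : Perm Ω).support.card = 8 := by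
    have e1 : a₁ * (a₁ * b₂) = b₂ := by
      simp only [mul_assoc, a1', a2', b1', b2', a1, a2, b1, b2, c21, c21', d11, d11', d12, d12', d21, d21', d22, d22', e21, e21', mul_one]
    have e : w * b₂ = a₁ * (b₁ * b₂) := by
      simp only [hw, mul_assoc, a1', a2', b1', b2', a1, a2, b1, b2, c21, c21', d11, d11', d12, d12', d21, d21', d22, d22', e21, e21', mul_one]
    refine card8 (f := b₂) (by rw [map_mul, hα, hβ₂, ← map_mul, e1]) b2 fb2 (ne1 sb2) ?_
    rw [e]; exact h8 _ q13 s13
  have m21 : ((α₂ * β : alternatingGroup Ω) : Perm Ω).support.card = 8 := by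
    have e1 : a₂ * b₁ * b₁ = a₂ := by
      simp only [mul_assoc, a1', a2', b1', b2', a1, a2, b1, b2, c21, c21', d11, d11', d12, d12', d21, d21', d22, d22', e21, e21', mul_one]
    have e : w * a₂ = a₁ * a₂ * b₁ := by
      simp only [hw, mul_assoc, a1', a2', b1', b2', a1, a2, b1, b2, c21, c21', d11, d11', d12, d12', d21, d21', d22, d22', e21, e21', mul_one]
    refine card8 (f := a₂) (by rw [map_mul, hα₂, hβ, ← map_mul, e1]) a2 fa2 (ne1 sa2) ?_
    rw [e]; exact h8 _ q31 s31
  have m22 : ((α₂ * β₂ : alternatingGroup Ω) : Perm Ω).support.card = 8 := by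
    have e1 : a₂ * b₁ * (a₁ * b₂) = a₁ * a₂ * (b₁ * b₂) := by
      simp only [mul_assoc, a1', a2', b1', b2', a1, a2, b1, b2, c21, c21', d11, d11', d12, d12', d21, d21', d22, d22', e21, e21', mul_one]
    have e : w * (a₁ * a₂ * (b₁ * b₂)) = a₂ * b₂ := by
      simp only [hw, mul_assoc, a1', a2', b1', b2', a1, a2, b1, b2, c21, c21', d11, d11', d12, d12', d21, d21', d22, d22', e21, e21', mul_one]
    refine card8 (f := a₁ * a₂ * (b₁ * b₂)) (by rw [map_mul, hα₂, hβ₂, ← map_mul, e1]) q33
      (fx_mul (fx_mul fa1 fa2) (fx_mul fb1 fb2)) (ne1' s33) ?_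
    rw [e]; exact h8 _ q22 s22
  -- the rotations
  have cA : α * α₂ = α₂ * α := P.comm_of_comm hα hα₂ (by
      simp only [mul_assoc, a1', a2', b1', b2', a1, a2, b1, b2, c21, c21', d11, d11', d12, d12', d21, d21', d22, d22', e21, e21', mul_one])
  have cB : β * β₂ = β₂ * β := P.comm_of_comm hβ hβ₂ (by
      simp only [mul_assoc, a1', a2', b1', b2', a1, a2, b1, b2, c21, c21', d11, d11', d12, d12', d21, d21', d22, d22', e21, e21', mul_one])
  obtain ⟨rA, rA1, rA2, rA3, rA4⟩ := exists_rot (coe_sq (sq' hα a1)) (coe_sq (sq' hα₂ q21))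
    (coe_comm cA) k1 k2 k3
  obtain ⟨rB, rB1, rB2, rB3, rB4⟩ := exists_rot (coe_sq (sq' hβ b1)) (coe_sq (sq' hβ₂ q12))
    (coe_comm cB) k4 k5 k6
  have D11 := disj_of_card (σ := (α : Perm Ω)) (τ := (β : Perm Ω)) (by rw [k1, k4]; exact m11)
  have D12 := disj_of_card (σ := (α : Perm Ω)) (τ := (β₂ : Perm Ω)) (by rw [k1, k5]; exact m12)
  have D21 := disj_of_card (σ := (α₂ : Perm Ω)) (τ := (β : Perm Ω)) (by rw [k2, k4]; exact m21)
  have D22 := disj_of_card (σ := (α₂ : Perm Ω)) (τ := (β₂ : Perm Ω)) (by rw [k2, k5]; exact m22)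
  have nd : ∀ {σ τ : Perm Ω}, Disjoint σ.support τ.support → ∀ x, σ x ≠ x → τ x = x := by
    intro σ τ hd x hx
    by_contra hne
    exact Finset.disjoint_left.1 hd (mem_support.2 hx) (mem_support.2 hne)
  have cAβ : (rA : Perm Ω) * β = β * rA := by
    apply comm_of_fix
    intro x
    by_cases hx : (β : Perm Ω) x = x
    · exact Or.inr hx
    · left
      apply rA4
      · by_contra hne; exact hx (nd D11 x hne)
      · by_contra hne; exact hx (nd D21 x hne)
  have cAβ₂ : (rA : Perm Ω) * β₂ = β₂ * rA := by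
    apply comm_of_fix
    intro x
    by_cases hx : (β₂ : Perm Ω) x = x
    · exact Or.inr hx
    · left
      apply rA4
      · by_contra hne; exact hx (nd D12 x hne)
      · by_contra hne; exact hx (nd D22 x hne)
  have cBα : (rB : Perm Ω) * α = α * rB := by
    apply comm_of_fix
    intro x
    by_cases hx : (α : Perm Ω) x = x
    · exact Or.inr hx
    · left
      apply rB4
      · exact nd D11 x hx
      · exact nd D12 x hx
  have cBα₂ : (rB : Perm Ω) * α₂ = α₂ * rB := by
    apply comm_of_fix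
    intro x
    by_cases hx : (α₂ : Perm Ω) x = x
    · exact Or.inr hx
    · left
      apply rB4
      · exact nd D21 x hx
      · exact nd D22 x hx
  set RA : alternatingGroup Ω := ⟨rA, rA1⟩ with hRA
  set RB : alternatingGroup Ω := ⟨rB, rB1⟩ with hRB
  have A1 : RA * α = α₂ * RA := Subtype.ext (by
    show rA * (α : Perm Ω) = α₂ * rA
    rw [← rA2]; group)
  have A2 : RA * α₂ = (α * α₂) * RA := Subtype.ext (by
    show rA * (α₂ : Perm Ω) = (α * α₂ : Perm Ω) * rA
    rw [← rA3]; group)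
  have A3 : RA * β = β * RA := Subtype.ext cAβ
  have A4 : RA * β₂ = β₂ * RA := Subtype.ext cAβ₂
  have B1 : RB * α = α * RB := Subtype.ext cBα
  have B2 : RB * α₂ = α₂ * RB := Subtype.ext cBα₂
  have B3 : RB * β = β₂ * RB := Subtype.ext (by
    show rB * (β : Perm Ω) = β₂ * rB
    rw [← rB2]; group)
  have B4 : RB * β₂ = (β * β₂) * RB := Subtype.ext (by
    show rB * (β₂ : Perm Ω) = (β * β₂ : Perm Ω) * rB
    rw [← rB3]; group)
  -- the word
  have tr : ∀ {R X Y X' Y' : alternatingGroup Ω}, κ X' = ι X → κ Y' = ι Y → R * X' = Y' * R →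
      κ R * ι X = ι Y * κ R := by
    intro R X Y X' Y' hX hY hR
    rw [← hX, ← hY, ← map_mul, ← map_mul, hR]
  have hαα₂ : κ (α * α₂) = ι (a₁ * a₂ * b₁) := by rw [map_mul, hα, hα₂, ← map_mul, mul_assoc]
  have hββ₂ : κ (β * β₂) = ι (a₁ * b₁ * b₂) := by
    rw [map_mul, hβ, hβ₂, ← map_mul]
    congr 1
    rw [← mul_assoc, d11]
  have iu : t * ι w = t * (ι a₁ * ι b₁) := by rw [hw, map_mul]
  obtain ⟨w1, w2, w3, w4, w5⟩ := word (t := t) (A1 := ι a₁) (A2 := ι a₂) (B1 := ι b₁) (B2 := ι b₂)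
    (RA := κ RA) (RB := κ RB) (R2 := ι ρ)
    (by rw [← map_mul, a1, map_one]) (by rw [← map_mul, a2, map_one]) (by rw [← map_mul, b1, map_one])
    (by rw [← map_mul, b2, map_one]) (by rw [← map_mul, c21, map_mul]) (by rw [← map_mul, d11, map_mul])
    (by rw [← map_mul, d12, map_mul]) (by rw [← map_mul, d21, map_mul]) (by rw [← map_mul, d22, map_mul])
    (by rw [← map_mul, e21, map_mul])
    (by rw [← iu]; exact (P.hu.comm RA).symm)
    (by rw [← map_mul]; exact tr hα hα₂ A1)
    (by rw [← map_mul, ← map_mul, ← map_mul]; exact tr hα₂ hαα₂ A2)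
    (tr hβ hβ A3)
    (by rw [← map_mul]; exact tr hβ₂ hβ₂ A4)
    (by rw [← iu]; exact (P.hu.comm RB).symm)
    (tr hα hα B1)
    (by rw [← map_mul]; exact tr hα₂ hα₂ B2)
    (by rw [← map_mul]; exact tr hβ hβ₂ B3)
    (by rw [← map_mul, ← map_mul, ← map_mul]; exact tr hβ₂ hββ₂ B4)
    (P.ht.comm ρ).symm
    (by rw [← map_mul, ← map_mul, q2]) (by rw [← map_mul, ← map_mul, q3])
    (by rw [← map_mul, ← map_mul, q4]) (by rw [← map_mul, ← map_mul, ← map_mul, q5])
  -- commutation with the alternating group on `Fix w`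
  have hcr : 11 ≤ Fintype.card Ω → ∀ r : alternatingGroup Ω, Fx (w : Perm Ω) r →
      ((κ RB)⁻¹ * κ RA * ι ρ * κ RA) * ι r = ι r * ((κ RB)⁻¹ * κ RA * ι ρ * κ RA) := by
    intro h11 r hr
    obtain ⟨r', hr', hfr'⟩ := P.exists_pull hw' hw1 (by omega) hr
    have hA : RA * r' = r' * RA := by
      apply Subtype.ext
      apply comm_of_fix
      intro x
      by_cases hx : ((α * β : alternatingGroup Ω) : Perm Ω) x = x
      · left
        apply rA4
        · exact fixall h11 hα a1 (fa1 h11) x hx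
        · exact fixall h11 hα₂ q21 (fx_mul fa2 fb1 h11) x hx
      · exact Or.inr (hfr' x hx)
    have hB : RB * r' = r' * RB := by
      apply Subtype.ext
      apply comm_of_fix
      intro x
      by_cases hx : ((α * β : alternatingGroup Ω) : Perm Ω) x = x
      · left
        apply rB4
        · exact fixall h11 hβ b1 (fb1 h11) x hx
        · exact fixall h11 hβ₂ q12 (fx_mul fa1 fb2 h11) x hx
      · exact Or.inr (hfr' x hx)
    have hA' : SemiconjBy (κ RA) (ι r) (ι r) := tr hr' hr' hA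
    have hB' : SemiconjBy (κ RB) (ι r) (ι r) := tr hr' hr' hB
    have hρ' : SemiconjBy (ι ρ) (ι r) (ι r) := by
      show ι ρ * ι r = ι r * ι ρ
      rw [← map_mul, ← map_mul, hfxcomm (fρ h11) hr]
    exact (((SemiconjBy.inv_symm_left_iff.2 hB').mul_left hA').mul_left hρ').mul_left hA'
  obtain ⟨x, hx⟩ : ∃ x, x = (κ RB)⁻¹ * κ RA * ι ρ * κ RA := ⟨_, rfl⟩
  rw [← hx] at w1 w2 w3 w4 w5 hcr
  have strip : ∀ {c X Y : alternatingGroup Ω}, (x = ι c ∨ x = t * ι c) → x * ι X = ι Y * x →
      c * X = Y * c := by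
    rintro c X Y (hc | hc) hXY
    · apply P.ht.inj
      rw [map_mul, map_mul, ← hc, hXY]
    · apply P.ht.inj
      rw [map_mul, map_mul]
      apply mul_left_cancel (a := t)
      rw [hc] at hXY
      calc t * (ι c * ι X) = t * ι c * ι X := by group
        _ = ι Y * (t * ι c) := hXY
        _ = (ι Y * t) * ι c := by group
        _ = (t * ι Y) * ι c := by rw [P.ht.comm]
        _ = t * (ι Y * ι c) := by group
  obtain ⟨c, hc⟩ : ∃ c, x = ι c ∨ x = t * ι c := by
    rcases P.ht.cent x w1 with ⟨a, ha⟩ | ⟨a, ha⟩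
    · exact ⟨a, Or.inl ha⟩
    · exact ⟨a, Or.inr ha⟩
  refine ⟨c, strip hc w2, strip hc ?_, strip hc w4, strip hc w5, fun h11 r hr => strip hc (hcr h11 r hr)⟩
  rw [map_mul]
  exact w3

end Cfsg.Agent.OddHalf.D5.CleanTwo

end

-- merged: Cfsg.Agent.OddHalf.D5.CTModel
section

/-!
# ODD D5, clean case, `k = 2`: the two explicit models (helper522)
-/

set_option autoImplicit false
set_option linter.unusedSectionVars false

namespace Cfsg.Agent.OddHalf.D5.CleanTwo

open Equiv Equiv.Perm

/-! ### `n = 10` -/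

namespace Ten

abbrev a₁ : alternatingGroup (Fin 10) := ⟨swap 0 1 * swap 2 3, mem_alternatingGroup.2 (by decide)⟩
abbrev a₂ : alternatingGroup (Fin 10) := ⟨swap 0 2 * swap 1 3, mem_alternatingGroup.2 (by decide)⟩
abbrev b₁ : alternatingGroup (Fin 10) := ⟨swap 4 5 * swap 6 7, mem_alternatingGroup.2 (by decide)⟩
abbrev b₂ : alternatingGroup (Fin 10) := ⟨swap 6 7 * swap 8 9, mem_alternatingGroup.2 (by decide)⟩
abbrev ρ : alternatingGroup (Fin 10) := ⟨swap 4 6 * swap 6 8 * (swap 5 7 * swap 7 9), mem_alternatingGroup.2 (by decide)⟩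

set_option maxRecDepth 4000 in
theorem four : Four a₁ a₂ b₁ b₂ := by
  constructor <;> decide

variable {G : Type*} [Group G]

set_option maxRecDepth 4000 in
theorem false_of {t : G} {ι : alternatingGroup (Fin 10) →* G} (h : Spl t ι) (hK : ∀ c, ¬ IsConj t (ι c))
    (h4 : ∀ a : alternatingGroup (Fin 10), a * a = 1 → (a : Perm (Fin 10)).support.card = 4 →
      ¬ IsConj t (t * ι a))
    (h8 : ∀ a : alternatingGroup (Fin 10), a * a = 1 → (a : Perm (Fin 10)).support.card = 8 →
      IsConj t (t * ι a)) : False := by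
  obtain ⟨c, c1, c2, -, -, -⟩ := two h hK h4 h8 (ρ := ρ) four (by decide) (by decide) (by decide)
    (by decide) (Or.inl (by simp))
  have k1 : ∀ x, (c : Perm (Fin 10)) ((a₁ : Perm (Fin 10)) x) = (b₂ : Perm (Fin 10)) ((c : Perm (Fin 10)) x) :=
    fun x => congrFun (congrArg DFunLike.coe (congrArg Subtype.val c1)) x
  have k2 : ∀ x, (c : Perm (Fin 10)) ((a₂ : Perm (Fin 10)) x) =
      ((b₁ * b₂ : alternatingGroup (Fin 10)) : Perm (Fin 10)) ((c : Perm (Fin 10)) x) :=
    fun x => congrFun (congrArg DFunLike.coe (congrArg Subtype.val c2)) x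
  have fixa : ∀ x : Fin 10, 4 ≤ x → (a₁ : Perm (Fin 10)) x = x ∧ (a₂ : Perm (Fin 10)) x = x := by decide
  have fixb : ∀ y : Fin 10, (b₂ : Perm (Fin 10)) y = y →
      ((b₁ * b₂ : alternatingGroup (Fin 10)) : Perm (Fin 10)) y = y → y < 4 := by decide
  have hmap : ∀ x ∈ (Finset.univ.filter fun x : Fin 10 => 4 ≤ x),
      (c : Perm (Fin 10)) x ∈ (Finset.univ.filter fun x : Fin 10 => x < 4) := by
    intro x hx
    rw [Finset.mem_filter] at hx ⊢
    obtain ⟨e1, e2⟩ := fixa x hx.2
    refine ⟨Finset.mem_univ _, fixb _ ?_ ?_⟩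
    · rw [← k1, e1]
    · rw [← k2, e2]
  have hcard := Finset.card_le_card_of_injOn _ hmap ((c : Perm (Fin 10)).injective.injOn)
  revert hcard
  decide

end Ten

/-! ### `n ≠ 10` -/

namespace Eight

abbrev a₁ : alternatingGroup (Fin 8) := ⟨swap 0 1 * swap 2 3, mem_alternatingGroup.2 (by decide)⟩
abbrev a₂ : alternatingGroup (Fin 8) := ⟨swap 0 2 * swap 1 3, mem_alternatingGroup.2 (by decide)⟩
abbrev b₁ : alternatingGroup (Fin 8) := ⟨swap 4 5 * swap 6 7, mem_alternatingGroup.2 (by decide)⟩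
abbrev b₂ : alternatingGroup (Fin 8) := ⟨swap 4 6 * swap 5 7, mem_alternatingGroup.2 (by decide)⟩
abbrev ρ : alternatingGroup (Fin 8) := ⟨swap 5 6 * swap 6 7, mem_alternatingGroup.2 (by decide)⟩

/-- the odd permutation `c₀` -/
abbrev c₀ : Perm (Fin 8) := swap 0 4 * swap 1 6 * (swap 2 7 * swap 7 3 * swap 3 5)

theorem four : Four a₁ a₂ b₁ b₂ := by
  constructor <;> decide

theorem c0_sign : Perm.sign c₀ = -1 := by decide

theorem c0_a1 : c₀ * (a₁ : Perm (Fin 8)) = b₂ * c₀ := by decide
theorem c0_a2 : c₀ * (a₂ : Perm (Fin 8)) = (b₁ * b₂ : Perm (Fin 8)) * c₀ := by decide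
theorem c0_b1 : c₀ * (b₁ : Perm (Fin 8)) = a₂ * c₀ := by decide
theorem c0_b2 : c₀ * (b₂ : Perm (Fin 8)) = a₁ * c₀ := by decide

theorem exf (i : Fin 8) (hi : i < 4) : ∃ f : Perm (Fin 8), f i = 0 ∧ Perm.sign f = 1 ∧
    f * (a₁ : Perm (Fin 8)) = (a₁ : Perm (Fin 8)) * f ∧ f * (a₂ : Perm (Fin 8)) = (a₂ : Perm (Fin 8)) * f ∧
    f * (b₁ : Perm (Fin 8)) = (b₁ : Perm (Fin 8)) * f ∧ f * (b₂ : Perm (Fin 8)) = (b₂ : Perm (Fin 8)) * f ∧
    ∀ j, 4 ≤ j → f j = j := by
  have h : ∀ i : Fin 8, i < 4 → i = 0 ∨ i = 1 ∨ i = 2 ∨ i = 3 := by decide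
  rcases h i hi with rfl | rfl | rfl | rfl
  · exact ⟨1, by decide, by decide, by decide, by decide, by decide, by decide, by decide⟩
  · exact ⟨(a₁ : Perm (Fin 8)), by decide, by decide, by decide, by decide, by decide, by decide, by decide⟩
  · exact ⟨(a₂ : Perm (Fin 8)), by decide, by decide, by decide, by decide, by decide, by decide, by decide⟩
  · exact ⟨(a₁ : Perm (Fin 8)) * (a₂ : Perm (Fin 8)), by decide, by decide, by decide, by decide, by decide,
      by decide, by decide⟩

theorem exg (i : Fin 8) (hi : 4 ≤ i) : ∃ f : Perm (Fin 8), f i = 4 ∧ Perm.sign f = 1 ∧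
    f * (a₁ : Perm (Fin 8)) = (a₁ : Perm (Fin 8)) * f ∧ f * (a₂ : Perm (Fin 8)) = (a₂ : Perm (Fin 8)) * f ∧
    f * (b₁ : Perm (Fin 8)) = (b₁ : Perm (Fin 8)) * f ∧ f * (b₂ : Perm (Fin 8)) = (b₂ : Perm (Fin 8)) * f ∧
    f 0 = 0 := by
  have h : ∀ i : Fin 8, 4 ≤ i → i = 4 ∨ i = 5 ∨ i = 6 ∨ i = 7 := by decide
  rcases h i hi with rfl | rfl | rfl | rfl
  · exact ⟨1, by decide, by decide, by decide, by decide, by decide, by decide, by decide⟩
  · exact ⟨(b₁ : Perm (Fin 8)), by decide, by decide, by decide, by decide, by decide, by decide, by decide⟩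
  · exact ⟨(b₂ : Perm (Fin 8)), by decide, by decide, by decide, by decide, by decide, by decide, by decide⟩
  · exact ⟨(b₁ : Perm (Fin 8)) * (b₂ : Perm (Fin 8)), by decide, by decide, by decide, by decide, by decide,
      by decide, by decide⟩

variable (Γ : Type*) [Fintype Γ] [DecidableEq Γ]

/-- extension by the identity -/
def L : Perm (Fin 8) →* Perm (Fin 8 ⊕ Γ) where
  toFun σ := Perm.sumCongr σ 1
  map_one' := Perm.sumCongr_one
  map_mul' σ τ := by rw [Perm.sumCongr_mul, mul_one]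

theorem L_inl (σ : Perm (Fin 8)) (i : Fin 8) : L Γ σ (Sum.inl i) = Sum.inl (σ i) := rfl

theorem L_inr (σ : Perm (Fin 8)) (x : Γ) : L Γ σ (Sum.inr x) = Sum.inr x := rfl

theorem L_sign (σ : Perm (Fin 8)) : Perm.sign (L Γ σ) = Perm.sign σ := by
  show Perm.sign (Perm.sumCongr σ 1) = _
  rw [Perm.sign_sumCongr, map_one, mul_one]

theorem L_card (σ : Perm (Fin 8)) : (L Γ σ).support.card = σ.support.card := by
  have : (L Γ σ).support = σ.support.map (Function.Embedding.inl : Fin 8 ↪ Fin 8 ⊕ Γ) := by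
    ext x
    rw [mem_support, Finset.mem_map]
    constructor
    · intro hx
      rcases x with i | x
      · refine ⟨i, ?_, rfl⟩
        rw [mem_support]
        intro e
        apply hx
        rw [L_inl, e]
      · exact absurd (L_inr Γ σ x) hx
    · rintro ⟨i, hi, rfl⟩
      rw [mem_support] at hi
      intro e
      change L Γ σ (Sum.inl i) = Sum.inl i at e
      rw [L_inl] at e
      exact hi (Sum.inl_injective e)
  rw [this, Finset.card_map]

/-- extension on the alternating groups -/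
def LA : alternatingGroup (Fin 8) →* alternatingGroup (Fin 8 ⊕ Γ) where
  toFun σ := ⟨L Γ σ, by rw [mem_alternatingGroup, L_sign]; exact σ.2⟩
  map_one' := Subtype.ext (map_one (L Γ))
  map_mul' σ τ := Subtype.ext (map_mul (L Γ) _ _)

theorem LA_coe (σ : alternatingGroup (Fin 8)) : (LA Γ σ : Perm (Fin 8 ⊕ Γ)) = L Γ σ := rfl

theorem LA_card (σ : alternatingGroup (Fin 8)) :
    (LA Γ σ : Perm (Fin 8 ⊕ Γ)).support.card = (σ : Perm (Fin 8)).support.card := L_card Γ _

theorem four' : Four (LA Γ a₁) (LA Γ a₂) (LA Γ b₁) (LA Γ b₂) where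
  a1 := by rw [← map_mul, four.a1, map_one]
  a2 := by rw [← map_mul, four.a2, map_one]
  b1 := by rw [← map_mul, four.b1, map_one]
  b2 := by rw [← map_mul, four.b2, map_one]
  c21 := by rw [← map_mul, four.c21, map_mul]
  d11 := by rw [← map_mul, four.d11, map_mul]
  d12 := by rw [← map_mul, four.d12, map_mul]
  d21 := by rw [← map_mul, four.d21, map_mul]
  d22 := by rw [← map_mul, four.d22, map_mul]
  e21 := by rw [← map_mul, four.e21, map_mul]
  sa1 := by rw [LA_card, four.sa1]
  sa2 := by rw [LA_card, four.sa2]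
  sa3 := by rw [← map_mul, LA_card, four.sa3]
  sb1 := by rw [LA_card, four.sb1]
  sb2 := by rw [LA_card, four.sb2]
  sb3 := by rw [← map_mul, LA_card, four.sb3]
  s11 := by rw [← map_mul, LA_card, four.s11]
  s12 := by rw [← map_mul, LA_card, four.s12]
  s13 := by rw [← map_mul, ← map_mul, LA_card, four.s13]
  s21 := by rw [← map_mul, LA_card, four.s21]
  s22 := by rw [← map_mul, LA_card, four.s22]
  s23 := by rw [← map_mul, ← map_mul, LA_card, four.s23]
  s31 := by rw [← map_mul, ← map_mul, LA_card, four.s31]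
  s32 := by rw [← map_mul, ← map_mul, LA_card, four.s32]
  s33 := by rw [← map_mul, ← map_mul, ← map_mul, LA_card, four.s33]

variable {Γ}

theorem sign_lemma (hΓ : Fintype.card Γ ≠ 2) {c : Perm (Fin 8 ⊕ Γ)} (hs : Perm.sign c = 1)
    (c1 : c * L Γ a₁ = L Γ b₂ * c) (c2 : c * L Γ a₂ = L Γ (b₁ * b₂ : Perm (Fin 8)) * c)
    (c3 : c * L Γ b₁ = L Γ a₂ * c) (c4 : c * L Γ b₂ = L Γ a₁ * c)
    (hr : 3 ≤ Fintype.card Γ → ∀ r : Perm (Fin 8 ⊕ Γ), Perm.sign r = 1 → (∀ i, r (Sum.inl i) = Sum.inl i) →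
      c * r = r * c) : False := by
  -- `c₁` centralises the four-groups
  obtain ⟨c₁, hc₁⟩ : ∃ c₁, c₁ = (L Γ c₀)⁻¹ * c := ⟨_, rfl⟩
  have conj : ∀ {x y : Perm (Fin 8)}, c * L Γ x = L Γ y * c → c₀ * x = y * c₀ → c₁ * L Γ x = L Γ x * c₁ := by
    intro x y h1 h2
    have h3 : L Γ c₀ * L Γ x = L Γ y * L Γ c₀ := by rw [← map_mul, h2, map_mul]
    rw [hc₁]
    calc (L Γ c₀)⁻¹ * c * L Γ x = (L Γ c₀)⁻¹ * (L Γ y * c) := by rw [← h1]; group
      _ = (L Γ c₀)⁻¹ * (L Γ y * L Γ c₀) * (L Γ c₀)⁻¹ * c := by group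
      _ = (L Γ c₀)⁻¹ * (L Γ c₀ * L Γ x) * (L Γ c₀)⁻¹ * c := by rw [h3]
      _ = L Γ x * ((L Γ c₀)⁻¹ * c) := by group
  have d1 := conj c1 c0_a1
  have d2 := conj c2 c0_a2
  have d3 := conj c3 c0_b1
  have d4 := conj c4 c0_b2
  have s1 : Perm.sign c₁ = -1 := by
    rw [hc₁, map_mul, map_inv, L_sign, c0_sign, hs]; decide
  have app : ∀ {σ τ : Perm (Fin 8 ⊕ Γ)}, σ * τ = τ * σ → ∀ x, σ (τ x) = τ (σ x) := fun h x =>
    congrFun (congrArg DFunLike.coe h) x
  -- images of `0` and `4`
  obtain ⟨i, hi, hi4⟩ : ∃ i : Fin 8, c₁ (Sum.inl 0) = Sum.inl i ∧ i < 4 := by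
    have h1 : c₁ (Sum.inl 1) ≠ c₁ (Sum.inl 0) := fun e =>
      absurd (Sum.inl_injective (c₁.injective e)) (by decide)
    have h2 := app d1 (Sum.inl 0)
    rw [L_inl, show (a₁ : Perm (Fin 8)) 0 = 1 by decide] at h2
    rcases hx : c₁ (Sum.inl 0) with i | x
    · refine ⟨i, rfl, ?_⟩
      have h3 : (a₁ : Perm (Fin 8)) i ≠ i := by
        intro e
        rw [hx, L_inl, e] at h2
        exact h1 (h2.trans hx.symm)
      have h4 : ∀ i : Fin 8, (a₁ : Perm (Fin 8)) i ≠ i → i < 4 := by decide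
      exact h4 i h3
    · exfalso
      rw [hx, L_inr] at h2
      exact h1 (h2.trans hx.symm)
  obtain ⟨j, hj, hj4⟩ : ∃ j : Fin 8, c₁ (Sum.inl 4) = Sum.inl j ∧ 4 ≤ j := by
    have h1 : c₁ (Sum.inl 5) ≠ c₁ (Sum.inl 4) := fun e =>
      absurd (Sum.inl_injective (c₁.injective e)) (by decide)
    have h2 := app d3 (Sum.inl 4)
    rw [L_inl, show (b₁ : Perm (Fin 8)) 4 = 5 by decide] at h2
    rcases hx : c₁ (Sum.inl 4) with i | x
    · refine ⟨i, rfl, ?_⟩
      have h3 : (b₁ : Perm (Fin 8)) i ≠ i := by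
        intro e
        rw [hx, L_inl, e] at h2
        exact h1 (h2.trans hx.symm)
      have h4 : ∀ i : Fin 8, (b₁ : Perm (Fin 8)) i ≠ i → 4 ≤ i := by decide
      exact h4 i h3
    · exfalso
      rw [hx, L_inr] at h2
      exact h1 (h2.trans hx.symm)
  -- correction
  obtain ⟨f, hfi, f1, f2, f3, f4, f5, f6⟩ := exf i hi4
  obtain ⟨g, hgj, g1, g2, g3, g4, g5, g6⟩ := exg j hj4
  obtain ⟨c₂, hc₂⟩ : ∃ c₂, c₂ = L Γ g * (L Γ f * c₁) := ⟨_, rfl⟩
  have comm2 : ∀ {x : Perm (Fin 8)}, c₁ * L Γ x = L Γ x * c₁ → f * x = x * f → g * x = x * g →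
      c₂ * L Γ x = L Γ x * c₂ := by
    intro x h1 h2 h3
    have h2' : L Γ f * L Γ x = L Γ x * L Γ f := by rw [← map_mul, h2, map_mul]
    have h3' : L Γ g * L Γ x = L Γ x * L Γ g := by rw [← map_mul, h3, map_mul]
    rw [hc₂]
    calc L Γ g * (L Γ f * c₁) * L Γ x = L Γ g * (L Γ f * (c₁ * L Γ x)) := by group
      _ = L Γ g * ((L Γ f * L Γ x) * c₁) := by rw [h1]; group
      _ = (L Γ g * L Γ x) * (L Γ f * c₁) := by rw [h2']; group
      _ = L Γ x * (L Γ g * (L Γ f * c₁)) := by rw [h3']; group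
  have e1 := app (comm2 d1 f2 g2)
  have e2 := app (comm2 d2 f3 g3)
  have e3 := app (comm2 d3 f4 g4)
  have e4 := app (comm2 d4 f5 g5)
  have z0 : c₂ (Sum.inl 0) = Sum.inl 0 := by
    rw [hc₂, Perm.mul_apply, Perm.mul_apply, hi, L_inl, hfi, L_inl, g6]
  have z4 : c₂ (Sum.inl 4) = Sum.inl 4 := by
    rw [hc₂, Perm.mul_apply, Perm.mul_apply, hj, L_inl, f6 j hj4, L_inl, hgj]
  have z1 : c₂ (Sum.inl 1) = Sum.inl 1 := by
    have := e1 (Sum.inl 0)
    rwa [z0, L_inl, show (a₁ : Perm (Fin 8)) 0 = 1 by decide] at this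
  have z2 : c₂ (Sum.inl 2) = Sum.inl 2 := by
    have := e2 (Sum.inl 0)
    rwa [z0, L_inl, show (a₂ : Perm (Fin 8)) 0 = 2 by decide] at this
  have z3 : c₂ (Sum.inl 3) = Sum.inl 3 := by
    have := e2 (Sum.inl 1)
    rwa [z1, L_inl, show (a₂ : Perm (Fin 8)) 1 = 3 by decide] at this
  have z5 : c₂ (Sum.inl 5) = Sum.inl 5 := by
    have := e3 (Sum.inl 4)
    rwa [z4, L_inl, show (b₁ : Perm (Fin 8)) 4 = 5 by decide] at this
  have z6 : c₂ (Sum.inl 6) = Sum.inl 6 := by
    have := e4 (Sum.inl 4)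
    rwa [z4, L_inl, show (b₂ : Perm (Fin 8)) 4 = 6 by decide] at this
  have z7 : c₂ (Sum.inl 7) = Sum.inl 7 := by
    have := e4 (Sum.inl 5)
    rwa [z5, L_inl, show (b₂ : Perm (Fin 8)) 5 = 7 by decide] at this
  have z : ∀ i : Fin 8, c₂ (Sum.inl i) = Sum.inl i := by
    intro i
    have hcase : i = 0 ∨ i = 1 ∨ i = 2 ∨ i = 3 ∨ i = 4 ∨ i = 5 ∨ i = 6 ∨ i = 7 := by
      revert i; decide
    rcases hcase with rfl | rfl | rfl | rfl | rfl | rfl | rfl | rfl <;> assumption
  have s2 : Perm.sign c₂ = -1 := by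
    rw [hc₂, map_mul, map_mul, L_sign, L_sign, f1, g1, s1]; decide
  by_cases h3 : 3 ≤ Fintype.card Γ
  · have hca : CommAlt c₂ (Finset.univ.map (Function.Embedding.inr : Γ ↪ Fin 8 ⊕ Γ)) := by
      intro r hr1 hr2
      have hr3 : ∀ i, r (Sum.inl i) = Sum.inl i := by
        intro i
        apply hr2
        rw [Finset.mem_map]
        rintro ⟨x, -, hx⟩
        exact Sum.inr_ne_inl hx
      have hrL : ∀ x : Perm (Fin 8), L Γ x * r = r * L Γ x := by
        intro x
        apply comm_of_fix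
        intro y
        rcases y with y | y
        · exact Or.inr (hr3 y)
        · exact Or.inl (L_inr Γ x y)
      have hcr := hr h3 r hr1 hr3
      have hrc0 : (L Γ c₀)⁻¹ * r = r * (L Γ c₀)⁻¹ := by
        rw [← map_inv, hrL]
      rw [hc₂, hc₁]
      calc L Γ g * (L Γ f * ((L Γ c₀)⁻¹ * c)) * r = L Γ g * (L Γ f * ((L Γ c₀)⁻¹ * (c * r))) := by group
        _ = L Γ g * (L Γ f * (((L Γ c₀)⁻¹ * r) * c)) := by rw [hcr]; group
        _ = L Γ g * ((L Γ f * r) * ((L Γ c₀)⁻¹ * c)) := by rw [hrc0]; group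
        _ = (L Γ g * r) * (L Γ f * ((L Γ c₀)⁻¹ * c)) := by rw [hrL f]; group
        _ = r * (L Γ g * (L Γ f * ((L Γ c₀)⁻¹ * c))) := by rw [hrL g]; group
    have := hca.sign (by rw [Finset.card_map, Finset.card_univ]; exact h3) (by
      intro x hx
      rcases x with i | x
      · exact z i
      · exact absurd (Finset.mem_map.2 ⟨x, Finset.mem_univ _, rfl⟩) hx)
    rw [this] at s2
    exact absurd s2 (by decide)
  · have hsub : Subsingleton Γ := by
      rw [← Fintype.card_le_one_iff_subsingleton]; omega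
    have hc21 : c₂ = 1 := by
      ext x
      rcases x with i | x
      · rw [z i]; rfl
      · rcases hx : c₂ (Sum.inr x) with i | y
        · exfalso
          have h5 : c₂ (Sum.inr x) = c₂ (Sum.inl i) := by rw [hx, z i]
          exact Sum.inr_ne_inl (c₂.injective h5)
        · rw [Subsingleton.elim y x]; rfl
    rw [hc21, map_one] at s2
    exact absurd s2 (by decide)

variable {G : Type*} [Group G]

theorem false_of (hΓ : Fintype.card Γ ≠ 2) {t : G} {ι : alternatingGroup (Fin 8 ⊕ Γ) →* G} (h : Spl t ι)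
    (hK : ∀ c, ¬ IsConj t (ι c))
    (h4 : ∀ a : alternatingGroup (Fin 8 ⊕ Γ), a * a = 1 → (a : Perm (Fin 8 ⊕ Γ)).support.card = 4 →
      ¬ IsConj t (t * ι a))
    (h8 : ∀ a : alternatingGroup (Fin 8 ⊕ Γ), a * a = 1 → (a : Perm (Fin 8 ⊕ Γ)).support.card = 8 →
      IsConj t (t * ι a)) : False := by
  have hcard : Fintype.card (Fin 8 ⊕ Γ) = 8 + Fintype.card Γ := by
    rw [Fintype.card_sum, Fintype.card_fin]
  have hmov : ∀ i : Fin 8, ((a₁ * b₁ : alternatingGroup (Fin 8)) : Perm (Fin 8)) i ≠ i := by decide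
  have hw : ∀ i : Fin 8, ((LA Γ a₁ * LA Γ b₁ : alternatingGroup (Fin 8 ⊕ Γ)) : Perm (Fin 8 ⊕ Γ)) (Sum.inl i) ≠
      Sum.inl i := by
    intro i e
    rw [← map_mul, LA_coe, L_inl] at e
    exact hmov i (Sum.inl_injective e)
  obtain ⟨c, c1, c2, c3, c4, c5⟩ := two h hK h4 h8 (ρ := LA Γ ρ) (four' Γ)
    (by rw [← map_mul, ← map_mul]; congr 1; decide) (by rw [← map_mul, ← map_mul]; congr 1; decide)
    (by rw [← map_mul, ← map_mul]; congr 1; decide)
    (by rw [← map_mul, ← map_mul, ← map_mul]; congr 1; decide)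
    (by
      by_cases hle : Fintype.card (Fin 8 ⊕ Γ) ≤ 10
      · exact Or.inl hle
      · right
        refine ⟨by omega, ?_⟩
        intro x hx
        rcases x with i | x
        · exact absurd hx (hw i)
        · exact ⟨rfl, rfl, rfl, rfl, rfl⟩)
  refine sign_lemma hΓ c.2 (congrArg Subtype.val c1) ?_ (congrArg Subtype.val c3) (congrArg Subtype.val c4) ?_
  · have h2 : (c : Perm (Fin 8 ⊕ Γ)) * L Γ a₂ = (L Γ b₁ * L Γ b₂) * c := congrArg Subtype.val c2
    rw [h2]
    congr 1
    exact (map_mul (L Γ) _ _).symm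
  · intro h3 r hr1 hr2
    refine congrArg Subtype.val (c5 (by omega) ⟨r, hr1⟩ ?_)
    intro x hx
    rcases x with i | x
    · exact hr2 i
    · exact absurd rfl hx

end Eight

end Cfsg.Agent.OddHalf.D5.CleanTwo

end

-- merged: Cfsg.Agent.OddHalf.D5.CTThree
section

/-!
# ODD D5, clean case, `k ≥ 3` (helper522)
-/

set_option autoImplicit false
set_option linter.unusedSectionVars false

namespace Cfsg.Agent.OddHalf.D5.CleanTwo

open Equiv Equiv.Perm

/-- counting orbits -/
theorem orbit_ineq {Q Q' X : Type*} [CommGroup Q] [Group Q'] [Fintype Q] [Fintype Q'] [Fintype X]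
    [DecidableEq X] (φ : Q →* Perm X) (j : Q' →* Q) :
    Fintype.card Q * ∑ u : Q', (φ (j u)).support.card ≤ Fintype.card Q' * ∑ q : Q, (φ q).support.card := by
  classical
  have h1 : ∀ σ : Perm X, σ.support.card = ∑ x : X, if σ x ≠ x then 1 else 0 := by
    intro σ
    rw [← Finset.card_filter]
    rfl
  simp only [h1]
  rw [Finset.sum_comm, Finset.sum_comm (s := Finset.univ (α := Q)), Finset.mul_sum, Finset.mul_sum]
  apply Finset.sum_le_sum
  intro x _
  rw [← Finset.card_filter, ← Finset.card_filter]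
  let H : Subgroup Q :=
    { carrier := {q | φ q x = x}
      mul_mem' := by
        intro a b ha hb
        show φ (a * b) x = x
        rw [map_mul, Perm.mul_apply, hb, ha]
      one_mem' := by
        show φ 1 x = x
        rw [map_one]; rfl
      inv_mem' := by
        intro a ha
        show φ a⁻¹ x = x
        rw [map_inv, Perm.inv_eq_iff_eq, ha] }
  have hH : (Finset.univ.filter fun q : Q => φ q x ≠ x).card + Nat.card H = Fintype.card Q := by
    have e : Nat.card H = (Finset.univ.filter fun q : Q => φ q x = x).card := by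
      rw [Nat.subtype_card]
      intro q
      simp only [Finset.mem_filter, Finset.mem_univ, true_and]
      rfl
    rw [e, add_comm, ← Finset.card_univ, ← Finset.card_filter_add_card_filter_not (s := Finset.univ) (fun q : Q => φ q x = x)]
  have hH' : (Finset.univ.filter fun u : Q' => φ (j u) x ≠ x).card + Nat.card (H.comap j) = Fintype.card Q' := by
    have e : Nat.card (H.comap j) = (Finset.univ.filter fun u : Q' => φ (j u) x = x).card := by
      rw [Nat.subtype_card]
      intro q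
      simp only [Finset.mem_filter, Finset.mem_univ, true_and]
      rfl
    rw [e, add_comm, ← Finset.card_univ, ← Finset.card_filter_add_card_filter_not (s := Finset.univ) (fun u : Q' => φ (j u) x = x)]
  have i1 := H.card_mul_index
  have i2 := (H.comap j).card_mul_index
  have i3 : (H.comap j).index ≤ H.index := by
    rw [Subgroup.index_comap]
    exact Nat.le_of_dvd (Nat.pos_of_ne_zero H.index_ne_zero_of_finite) (Subgroup.relIndex_dvd_index_of_normal _ _)
  rw [Nat.card_eq_fintype_card (α := Q)] at i1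
  rw [Nat.card_eq_fintype_card (α := Q')] at i2
  set a := (Finset.univ.filter fun q : Q => φ q x ≠ x).card
  set b := (Finset.univ.filter fun u : Q' => φ (j u) x ≠ x).card
  set m := Nat.card H
  set n := Nat.card (H.comap j)
  have h5 : Fintype.card Q' * m ≤ Fintype.card Q * n := by
    calc Fintype.card Q' * m = (n * (H.comap j).index) * m := by rw [i2]
      _ ≤ (n * H.index) * m := by gcongr
      _ = n * (m * H.index) := by ring
      _ = n * Fintype.card Q := by rw [i1]
      _ = Fintype.card Q * n := by ring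
  have h6 : Fintype.card Q * (b + n) = Fintype.card Q' * (a + m) := by
    rw [hH, hH']; ring
  rw [mul_add, mul_add] at h6
  omega

theorem pow_ineq : ∀ k : ℕ, 3 ≤ k → k * 2 ^ k + 1 + 3 ^ k < 4 ^ k + k := by
  intro k hk
  induction k, hk using Nat.le_induction with
  | base => norm_num
  | succ k hk ih =>
    have h1 : (k + 1) * 2 ^ (k + 1) + 2 * 2 ^ (k + 1) ≤ 4 * (k * 2 ^ k) := by
      rw [pow_succ]
      nlinarith [Nat.one_le_two_pow (n := k)]
    have h2 : 3 ^ (k + 1) + 3 ^ k = 4 * 3 ^ k := by rw [pow_succ]; ring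
    have h3 : 4 ^ (k + 1) = 4 * 4 ^ k := by rw [pow_succ]; ring
    have h4 : k < 2 ^ k := Nat.lt_two_pow_self
    have h5 : 2 ^ (k + 1) = 2 * 2 ^ k := by rw [pow_succ]; ring
    have h6 : 1 ≤ 3 ^ k := Nat.one_le_pow _ _ (by norm_num)
    omega

/-- the four-group -/
abbrev K4 := ZMod 2 × ZMod 2

theorem k4_add (x : K4) : x + x = 0 := by revert x; decide

variable {k : ℕ} {Γ : Type*} [Fintype Γ] [DecidableEq Γ]

/-- `k` blocks of four letters, translated by `v` -/
def pv (v : Fin k → K4) : Perm (Fin k × K4) where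
  toFun p := (p.1, v p.1 + p.2)
  invFun p := (p.1, v p.1 + p.2)
  left_inv p := by ext1 <;> simp [← add_assoc, k4_add]
  right_inv p := by ext1 <;> simp [← add_assoc, k4_add]

theorem pv_apply (v : Fin k → K4) (p : Fin k × K4) : pv v p = (p.1, v p.1 + p.2) := rfl

theorem pv_mul (v w : Fin k → K4) : pv (v + w) = pv v * pv w := by
  ext1 p
  rw [Perm.mul_apply, pv_apply, pv_apply, pv_apply, Pi.add_apply, add_assoc]

/-- the elementary abelian group `V` -/
def trp (Γ : Type*) (v : Fin k → K4) : Perm ((Fin k × K4) ⊕ Γ) := Perm.sumCongr (pv v) 1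

theorem trp_mul (v w : Fin k → K4) : trp Γ (v + w) = trp Γ v * trp Γ w := by
  rw [trp, trp, trp, pv_mul, Perm.sumCongr_mul, mul_one]

theorem trp_zero : trp Γ (0 : Fin k → K4) = 1 := by
  have : pv (0 : Fin k → K4) = 1 := by
    ext1 p
    rw [pv_apply, Pi.zero_apply, zero_add]; rfl
  rw [trp, this, Perm.sumCongr_one]

theorem trp_inl (v : Fin k → K4) (p : Fin k × K4) : trp Γ v (Sum.inl p) = Sum.inl (p.1, v p.1 + p.2) := rfl

theorem trp_inr (v : Fin k → K4) (x : Γ) : trp Γ v (Sum.inr x) = Sum.inr x := rfl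

theorem trp_sq (v : Fin k → K4) : trp Γ v * trp Γ v = 1 := by
  rw [← trp_mul]
  have : v + v = 0 := funext fun i => k4_add _
  rw [this, trp_zero]

theorem trp_card (v : Fin k → K4) :
    (trp Γ v).support.card = 4 * (Finset.univ.filter fun i => v i ≠ 0).card := by
  have h1 : (trp Γ v).support =
      (((Finset.univ.filter fun i => v i ≠ 0) ×ˢ (Finset.univ : Finset K4)).map
        (Function.Embedding.inl : (Fin k × K4) ↪ (Fin k × K4) ⊕ Γ)) := by
    ext x
    rw [mem_support, Finset.mem_map]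
    constructor
    · intro hx
      rcases x with p | x
      · refine ⟨p, ?_, rfl⟩
        rw [Finset.mem_product, Finset.mem_filter]
        refine ⟨⟨Finset.mem_univ _, ?_⟩, Finset.mem_univ _⟩
        intro h0
        apply hx
        rw [trp_inl, h0, zero_add]
      · exact absurd (trp_inr v x) hx
    · rintro ⟨p, hp, rfl⟩
      rw [Finset.mem_product, Finset.mem_filter] at hp
      intro e
      change trp Γ v (Sum.inl p) = Sum.inl p at e
      rw [trp_inl] at e
      have e1 := congrArg Prod.snd (Sum.inl_injective e)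
      exact hp.1.2 (add_eq_right.1 e1)
  have hK : (Finset.univ : Finset K4).card = 4 := by decide
  rw [h1, Finset.card_map, Finset.card_product, hK, mul_comm]

theorem trp_sign (v : Fin k → K4) : Perm.sign (trp Γ v) = 1 := by
  rw [sign_of_sq (trp_sq v), trp_card]
  have : 4 * (Finset.univ.filter fun i => v i ≠ 0).card / 2 =
      2 * (Finset.univ.filter fun i => v i ≠ 0).card := by omega
  rw [this, pow_mul]
  simp

/-- the element of the alternating group -/
def tra (Γ : Type*) [Fintype Γ] [DecidableEq Γ] (v : Fin k → K4) :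
    alternatingGroup ((Fin k × K4) ⊕ Γ) := ⟨trp Γ v, trp_sign v⟩

theorem tra_mul (v w : Fin k → K4) : tra Γ (v + w) = tra Γ v * tra Γ w := Subtype.ext (trp_mul v w)

theorem tra_zero : tra Γ (0 : Fin k → K4) = 1 := Subtype.ext trp_zero

theorem tra_sq (v : Fin k → K4) : tra Γ v * tra Γ v = 1 := Subtype.ext (trp_sq v)

theorem tra_comm (v w : Fin k → K4) : tra Γ v * tra Γ w = tra Γ w * tra Γ v := by
  rw [← tra_mul, ← tra_mul, add_comm]

theorem tra_card_full {v : Fin k → K4} (h : ∀ i, v i ≠ 0) : (trp Γ v).support.card = 4 * k := by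
  rw [trp_card, Finset.filter_true_of_mem (fun i _ => h i), Finset.card_univ, Fintype.card_fin]

theorem tra_card_lt {v : Fin k → K4} (h : ∃ i, v i = 0) : (trp Γ v).support.card < 4 * k := by
  obtain ⟨i, hi⟩ := h
  rw [trp_card]
  have : (Finset.univ.filter fun i => v i ≠ 0).card < (Finset.univ : Finset (Fin k)).card := by
    apply Finset.card_lt_card
    rw [Finset.ssubset_iff_of_subset (Finset.filter_subset _ _)]
    exact ⟨i, Finset.mem_univ _, by simp [hi]⟩
  rw [Finset.card_univ, Fintype.card_fin] at this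
  omega

variable {G : Type*} [Group G]

theorem three {t : G} {ι : alternatingGroup ((Fin k × K4) ⊕ Γ) →* G} (h : Spl t ι) (hk : 3 ≤ k)
    (hK : ∀ c, ¬ IsConj t (ι c))
    (hmin : ∀ a : alternatingGroup ((Fin k × K4) ⊕ Γ), a * a = 1 → a ≠ 1 →
      (a : Perm ((Fin k × K4) ⊕ Γ)).support.card < 4 * k → ¬ IsConj t (t * ι a))
    (hful : ∀ a : alternatingGroup ((Fin k × K4) ⊕ Γ), a * a = 1 →
      (a : Perm ((Fin k × K4) ⊕ Γ)).support.card = 4 * k → IsConj t (t * ι a)) : False := by
  classical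
  have hfull : ∀ v : Fin k → K4, (∀ i, v i ≠ 0) → IsConj t (t * ι (tra Γ v)) := fun v hv =>
    hful _ (tra_sq v) (tra_card_full hv)
  set wv : Fin k → K4 := fun _ => (0, 1) with hwv
  have hwv0 : ∀ i, wv i ≠ 0 := fun i => (by decide : ((0, 1) : K4) ≠ 0)
  set w := tra Γ wv with hw
  have wcard : (w : Perm ((Fin k × K4) ⊕ Γ)).support.card = 4 * k := tra_card_full hwv0
  obtain ⟨κ, P⟩ := h.exists_pair hK (hfull wv hwv0)
  -- the pull backs
  have hpull : ∀ f : Fin k → K4, ∃ f', κ f' = ι (tra Γ f) := by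
    intro f
    set c : Fin k → K4 := fun i => if f i = (0, 1) then (1, 0) else (0, 1) with hc
    have hc0 : ∀ i, c i ≠ 0 := by
      intro i
      rw [hc]
      show (if f i = (0, 1) then ((1, 0) : K4) else (0, 1)) ≠ 0
      split_ifs <;> decide
    have hd0 : ∀ i, (f + c) i ≠ 0 := by
      intro i
      rw [hc]
      show f i + (if f i = (0, 1) then ((1, 0) : K4) else (0, 1)) ≠ 0
      generalize f i = z
      revert z
      decide
    obtain ⟨f', hf'⟩ := P.pull (c := tra Γ (f + c)) (d := tra Γ c) (tra_comm _ _) (tra_comm _ _)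
      (hfull _ hd0) (hfull _ hc0)
    refine ⟨f', ?_⟩
    have : c + c = 0 := funext fun i => k4_add _
    rw [hf', ← tra_mul, add_assoc, this, add_zero]
  choose φ hφ using hpull
  have hφm : ∀ f g, φ (f + g) = φ f * φ g := by
    intro f g
    apply P.hu.inj
    rw [hφ, map_mul, hφ, hφ, tra_mul, map_mul]
  have hφ0 : φ 0 = 1 := by
    apply P.hu.inj
    rw [hφ, tra_zero, map_one, map_one]
  have hφsq : ∀ f, φ f * φ f = 1 := by
    intro f
    have : f + f = 0 := funext fun i => k4_add _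
    rw [← hφm, this, hφ0]
  have hφne : ∀ f, f ≠ 0 → φ f ≠ 1 := by
    intro f hf h1
    apply hf
    have h2 := hφ f
    rw [h1, map_one] at h2
    have h3 : tra Γ f = 1 := P.ht.inj (h2.symm.trans (map_one ι).symm)
    funext i
    have h4 : trp Γ f (Sum.inl (i, 0)) = Sum.inl (i, 0) := by
      rw [show trp Γ f = 1 from congrArg Subtype.val h3]; rfl
    rw [trp_inl] at h4
    have h5 := congrArg Prod.snd (Sum.inl_injective h4)
    simpa using h5
  have hfour : ∀ f, 4 ∣ (φ f : Perm ((Fin k × K4) ⊕ Γ)).support.card := fun f =>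
    four_dvd (coe_sq (hφsq f)) (φ f).2
  have hD : ∀ f, IsConj t (t * ι (φ f)) ↔ IsConj t (t * ι (tra Γ (wv + f))) := by
    intro f
    rw [P.inD_iff (hφ f), tra_mul]
  have hcardΩ : Fintype.card ((Fin k × K4) ⊕ Γ) = 4 * k + Fintype.card Γ := by
    rw [Fintype.card_sum, Fintype.card_prod, Fintype.card_fin]
    have hK : Fintype.card K4 = 4 := by decide
    rw [hK, mul_comm]
  have hww : wv + wv = 0 := funext fun i => k4_add _
  have hwv1 : wv ≠ 0 := by
    intro e
    exact hwv0 ⟨0, by omega⟩ (by rw [e]; rfl)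
  have hw1 : w ≠ 1 := by
    intro e
    rw [e] at wcard
    simp at wcard
    omega
  have hge : 4 * k ≤ (φ wv : Perm ((Fin k × K4) ⊕ Γ)).support.card := by
    by_contra hlt
    refine hmin (φ wv) (hφsq wv) (hφne wv hwv1) (by omega) ((hD wv).2 ?_)
    rw [hww, tra_zero, map_one, mul_one]
  -- the bound
  have bound : ∀ f, (φ f : Perm ((Fin k × K4) ⊕ Γ)).support.card ≤ 4 * k := by
    intro f
    by_cases hΓ : Fintype.card Γ ≤ 2
    · have h1 := Finset.card_le_univ (φ f : Perm ((Fin k × K4) ⊕ Γ)).support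
      have h2 := hfour f
      rw [hcardΩ] at h1
      omega
    · have hg := (P.gamma (hφ wv) hw1 (by rw [wcard]; exact hge) (by rw [wcard]; omega)
        (by rw [wcard, hcardΩ]; omega)).1
      rw [wcard] at hg
      rw [← hg]
      apply Finset.card_le_card
      intro x hx
      rw [mem_support] at hx ⊢
      intro hx'
      apply hx
      refine P.fix_of_comm (hφ wv) hw1 (by rw [wcard]; exact hge) (by rw [wcard]; omega)
        (by rw [wcard, hcardΩ]; omega) (hφ f) (tra_sq f) ?_ hx'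
      intro r hr
      apply Subtype.ext
      show trp Γ f * (r : Perm ((Fin k × K4) ⊕ Γ)) = r * trp Γ f
      have : Perm.Disjoint (trp Γ f) (r : Perm ((Fin k × K4) ⊕ Γ)) := by
        intro y
        rcases y with y | y
        · right
          apply hr
          intro e
          change trp Γ wv (Sum.inl y) = Sum.inl y at e
          rw [trp_inl] at e
          have e1 := congrArg Prod.snd (Sum.inl_injective e)
          exact hwv0 y.1 (add_eq_right.1 e1)
        · left
          exact trp_inr f y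
      exact this.commute
  -- the values
  have val1 : ∀ f, (∀ i, f i ≠ (0, 1)) → f ≠ 0 →
      (φ f : Perm ((Fin k × K4) ⊕ Γ)).support.card = 4 * k := by
    intro f hf hf0
    refine le_antisymm (bound f) ?_
    by_contra hlt
    refine hmin (φ f) (hφsq f) (hφne f hf0) (by omega) ((hD f).2 (hfull _ ?_))
    intro i
    have := hf i
    rw [Pi.add_apply, hwv]
    show ((0, 1) : K4) + f i ≠ 0
    revert this
    generalize f i = z
    revert z
    decide
  have val2 : ∀ f, (∃ i, f i = (0, 1)) → f ≠ wv →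
      (φ f : Perm ((Fin k × K4) ⊕ Γ)).support.card + 4 ≤ 4 * k := by
    intro f ⟨i, hi⟩ hf
    have h1 := bound f
    have h2 : (φ f : Perm ((Fin k × K4) ⊕ Γ)).support.card ≠ 4 * k := by
      intro e
      have h3 := (hD f).1 (hful (φ f) (hφsq f) e)
      refine hmin (tra Γ (wv + f)) (tra_sq _) ?_ (tra_card_lt ⟨i, ?_⟩) h3
      · intro e1
        apply hf
        have h4 : wv + f = 0 := by
          funext j
          have h5 : trp Γ (wv + f) (Sum.inl (j, 0)) = Sum.inl (j, 0) := by
            rw [show trp Γ (wv + f) = 1 from congrArg Subtype.val e1]; rfl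
          rw [trp_inl] at h5
          have h6 := congrArg Prod.snd (Sum.inl_injective h5)
          simpa using h6
        calc f = (wv + wv) + f := by rw [hww, zero_add]
          _ = wv + (wv + f) := by rw [add_assoc]
          _ = wv := by rw [h4, add_zero]
      · rw [Pi.add_apply, hi]
        exact k4_add _
    have h3 := hfour f
    omega
  -- the homomorphisms
  let Φ : Multiplicative (Fin k → K4) →* Perm ((Fin k × K4) ⊕ Γ) :=
    { toFun := fun f => (φ (Multiplicative.toAdd f) : Perm ((Fin k × K4) ⊕ Γ))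
      map_one' := by
        show ((φ 0 : alternatingGroup ((Fin k × K4) ⊕ Γ)) : Perm ((Fin k × K4) ⊕ Γ)) = 1
        rw [hφ0]; rfl
      map_mul' := by
        intro f g
        show ((φ (Multiplicative.toAdd f + Multiplicative.toAdd g) :
          alternatingGroup ((Fin k × K4) ⊕ Γ)) : Perm ((Fin k × K4) ⊕ Γ)) = _
        rw [hφm]; rfl }
  let j : Multiplicative (Fin k → ZMod 2) →* Multiplicative (Fin k → K4) :=
    { toFun := fun x => Multiplicative.ofAdd (fun i => ((Multiplicative.toAdd x) i, 0))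
      map_one' := rfl
      map_mul' := by
        intro x y
        rfl }
  have key := orbit_ineq Φ j
  have c1 : Fintype.card (Multiplicative (Fin k → K4)) = 4 ^ k := by
    rw [Fintype.card_multiplicative, Fintype.card_fun, Fintype.card_fin]
    have hK : Fintype.card K4 = 4 := by decide
    rw [hK]
  have c2 : Fintype.card (Multiplicative (Fin k → ZMod 2)) = 2 ^ k := by
    rw [Fintype.card_multiplicative, Fintype.card_fun, Fintype.card_fin]
    rfl
  rw [c1, c2] at key
  -- the sum over `U`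
  have sU : (∑ u : Multiplicative (Fin k → ZMod 2), (Φ (j u)).support.card) + 4 * k = 2 ^ k * (4 * k) := by
    have e : ∀ u : Multiplicative (Fin k → ZMod 2),
        (Φ (j u)).support.card + (if u = 1 then 4 * k else 0) = 4 * k := by
      intro u
      split_ifs with hu
      · rw [hu, map_one, map_one, support_one, Finset.card_empty, zero_add]
      · rw [add_zero]
        refine val1 _ ?_ ?_
        · intro i e
          have : (0 : ZMod 2) = 1 := congrArg Prod.snd e
          exact absurd this (by decide)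
        · intro e
          apply hu
          have : ∀ i, (Multiplicative.toAdd u) i = 0 := fun i => congrArg Prod.fst (congrFun e i)
          exact Multiplicative.toAdd.injective (funext this)
    have e2 := Finset.sum_congr (rfl : (Finset.univ : Finset (Multiplicative (Fin k → ZMod 2))) = Finset.univ)
      (fun u _ => e u)
    rw [Finset.sum_add_distrib, Finset.sum_ite_eq' Finset.univ (1 : Multiplicative (Fin k → ZMod 2)),
      if_pos (Finset.mem_univ _), Finset.sum_const, Finset.card_univ, c2, smul_eq_mul] at e2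
    exact e2
  -- the sum over `V`
  have sV : (∑ q : Multiplicative (Fin k → K4), (Φ q).support.card) + 4 * 4 ^ k + 4 * k ≤
      4 ^ k * (4 * k) + 4 * 3 ^ k + 4 := by
    have e : ∀ q : Multiplicative (Fin k → K4),
        (Φ q).support.card + 4 + (if q = 1 then 4 * k else 0) ≤
          4 * k + (if ∀ i, (Multiplicative.toAdd q) i ≠ (0, 1) then 4 else 0) +
            (if q = Multiplicative.ofAdd wv then 4 else 0) := by
      intro q
      by_cases h1 : ∀ i, (Multiplicative.toAdd q) i ≠ (0, 1)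
      · rw [if_pos h1]
        by_cases hq : q = 1
        · rw [if_pos hq, hq, map_one, support_one, Finset.card_empty]
          omega
        · rw [if_neg hq]
          have := val1 (Multiplicative.toAdd q) h1 (fun e => hq (Multiplicative.toAdd.injective e))
          have h2 : (Φ q).support.card = 4 * k := this
          rw [h2]
          omega
      · rw [if_neg h1]
        push Not at h1
        have hq : q ≠ 1 := by
          rintro rfl
          obtain ⟨i, hi⟩ := h1
          have : (0 : ZMod 2) = 1 := congrArg Prod.snd hi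
          exact absurd this (by decide)
        rw [if_neg hq]
        by_cases hw2 : q = Multiplicative.ofAdd wv
        · rw [if_pos hw2]
          have h2 : (Φ q).support.card ≤ 4 * k := bound _
          omega
        · rw [if_neg hw2]
          have h2 : (Φ q).support.card + 4 ≤ 4 * k :=
            val2 (Multiplicative.toAdd q) h1 (fun e => hw2 (by rw [← e]; rfl))
          omega
    have e2 := Finset.sum_le_sum (s := (Finset.univ : Finset (Multiplicative (Fin k → K4)))) (fun q _ => e q)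
    rw [Finset.sum_add_distrib, Finset.sum_add_distrib, Finset.sum_add_distrib, Finset.sum_add_distrib,
      Finset.sum_ite_eq' Finset.univ (1 : Multiplicative (Fin k → K4)), if_pos (Finset.mem_univ _),
      Finset.sum_ite_eq' Finset.univ (Multiplicative.ofAdd wv), if_pos (Finset.mem_univ _),
      Finset.sum_const, Finset.sum_const, Finset.card_univ, c1, smul_eq_mul, smul_eq_mul,
      ← Finset.sum_filter, Finset.sum_const, smul_eq_mul] at e2
    have c3 : (Finset.univ.filter fun q : Multiplicative (Fin k → K4) =>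
        ∀ i, (Multiplicative.toAdd q) i ≠ (0, 1)).card = 3 ^ k := by
      have c4 : (Finset.univ.filter fun q : Multiplicative (Fin k → K4) =>
          ∀ i, (Multiplicative.toAdd q) i ≠ (0, 1)).card =
          (Fintype.piFinset (fun _ : Fin k => (Finset.univ.filter fun x : K4 => x ≠ (0, 1)))).card := by
        apply Finset.card_bij (fun q _ => Multiplicative.toAdd q)
        · intro q hq
          rw [Finset.mem_filter] at hq
          rw [Fintype.mem_piFinset]
          intro i
          rw [Finset.mem_filter]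
          exact ⟨Finset.mem_univ _, hq.2 i⟩
        · intro q _ q' _ e
          exact Multiplicative.toAdd.injective e
        · intro q hq
          refine ⟨Multiplicative.ofAdd q, ?_, rfl⟩
          rw [Finset.mem_filter]
          rw [Fintype.mem_piFinset] at hq
          exact ⟨Finset.mem_univ _, fun i => (Finset.mem_filter.1 (hq i)).2⟩
      rw [c4, Fintype.card_piFinset]
      have c5 : (Finset.univ.filter fun x : K4 => x ≠ (0, 1)).card = 3 := by decide
      rw [Finset.prod_congr rfl (fun _ _ => c5), Finset.prod_const, Finset.card_univ, Fintype.card_fin]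
    rw [c3] at e2
    nlinarith [e2]
  have hpi := pow_ineq k hk
  set SU := ∑ u : Multiplicative (Fin k → ZMod 2), (Φ (j u)).support.card
  set SV := ∑ q : Multiplicative (Fin k → K4), (Φ q).support.card
  have h42 : (4 : ℕ) ^ k = 2 ^ k * 2 ^ k := by rw [← mul_pow]; norm_num
  rw [h42] at key sV hpi
  set a : ℕ := 2 ^ k
  set b : ℕ := 3 ^ k
  have ha : 0 < a := by positivity
  have key2 : a * SU ≤ SV := by
    have : a * (a * SU) ≤ a * SV := by rw [← mul_assoc]; exact key
    exact Nat.le_of_mul_le_mul_left this ha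
  have h7 : a * SU + a * (4 * k) = a * (a * (4 * k)) := by rw [← mul_add, sU]
  have h8 : a * a * (4 * k) = a * (a * (4 * k)) := by ring
  have h9 : a * (4 * k) = 4 * (k * a) := by ring
  omega

end Cfsg.Agent.OddHalf.D5.CleanTwo

end

-- merged: Cfsg.Agent.OddHalf.D5.CleanTwo
section

/-!
# ODD D5, clean case: `t ~ t x` for `x` a product of two transpositions (helper522)

`exists_four`: `C_G(t) = ⟨t⟩ × ι(Alt Ω)`, `|Ω| ≥ 8`, no conjugate of `t` in `ι(Alt Ω)`, some `t ι(a)`, `a ≠ 1`, conjugate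
to `t`. Then `t` is conjugate to `t ι(a)` for some `a` moving exactly four letters.

`exists_four_fin`: the same for `Spl t (An n) ι`, if `G` has no subgroup of index two.
-/

set_option autoImplicit false

namespace Cfsg.Agent.OddHalf.D5.CleanTwo

open Equiv Equiv.Perm

variable {G : Type*} [Group G] {Ω Ω' : Type*} [Fintype Ω] [DecidableEq Ω] [Fintype Ω'] [DecidableEq Ω']

theorem alt_card (e : Ω ≃ Ω') (a : alternatingGroup Ω) :
    (e.altCongrHom a : Perm Ω').support.card = (a : Perm Ω).support.card := by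
  have h : (e.altCongrHom a : Perm Ω').support = (a : Perm Ω).support.map e.toEmbedding := by
    ext x
    rw [mem_support, Finset.mem_map, Equiv.altCongrHom_apply_coe]
    show e.permCongr (a : Perm Ω) x ≠ x ↔ _
    rw [Equiv.permCongr_apply]
    constructor
    · intro h
      refine ⟨e.symm x, ?_, e.apply_symm_apply x⟩
      rw [mem_support]
      intro h1
      apply h
      rw [h1, e.apply_symm_apply]
    · rintro ⟨y, hy, rfl⟩
      rw [mem_support] at hy
      intro h
      apply hy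
      have h1 : e ((a : Perm Ω) (e.symm (e y))) = e y := h
      rw [e.symm_apply_apply] at h1
      exact e.injective h1
  rw [h, Finset.card_map]

theorem Spl.transport {t : G} {ι : alternatingGroup Ω →* G} (h : Spl t ι) (e : Ω ≃ Ω') :
    Spl t (ι.comp e.altCongrHom.symm.toMonoidHom) where
  tt := h.tt
  inj := h.inj.comp e.altCongrHom.symm.injective
  comm a := h.comm _
  cent g hg := by
    rcases h.cent g hg with ⟨a, ha⟩ | ⟨a, ha⟩
    · left
      refine ⟨e.altCongrHom a, ?_⟩
      rw [ha]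
      show _ = ι (e.altCongrHom.symm (e.altCongrHom a))
      rw [MulEquiv.symm_apply_apply]
    · right
      refine ⟨e.altCongrHom a, ?_⟩
      rw [ha]
      show _ = t * ι (e.altCongrHom.symm (e.altCongrHom a))
      rw [MulEquiv.symm_apply_apply]
  ne a := h.ne _

/-- **Some `t x`, `x` a product of two transpositions, is conjugate to `t`.** -/
theorem exists_four (h8 : 8 ≤ Fintype.card Ω) {t : G} {ι : alternatingGroup Ω →* G} (h : Spl t ι)
    (hK : ∀ c, ¬ IsConj t (ι c)) (hB : ∃ a, a ≠ 1 ∧ IsConj t (t * ι a)) :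
    ∃ a : alternatingGroup Ω, (a : Perm Ω).support.card = 4 ∧ a * a = 1 ∧ IsConj t (t * ι a) := by
  classical
  by_contra hno
  push Not at hno
  -- the minimal type
  have hex : ∃ n : ℕ, ∃ a : alternatingGroup Ω, a ≠ 1 ∧ IsConj t (t * ι a) ∧
      (a : Perm Ω).support.card = n := by
    obtain ⟨a, h1, h2⟩ := hB
    exact ⟨_, a, h1, h2, rfl⟩
  obtain ⟨a, ha1, haD, han⟩ := Nat.find_spec hex
  have hmin' : ∀ b : alternatingGroup Ω, b ≠ 1 → (b : Perm Ω).support.card < Nat.find hex →
      ¬ IsConj t (t * ι b) := fun b hb hlt hD => Nat.find_min hex hlt ⟨b, hb, hD, rfl⟩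
  set N := Nat.find hex
  have haa := h.sq_of_inD haD
  obtain ⟨k, hk⟩ := four_dvd (coe_sq haa) a.2
  rw [han] at hk
  have hk0 : k ≠ 0 := by
    rintro rfl
    rw [hk, mul_zero, Finset.card_eq_zero, support_eq_empty_iff] at han
    exact ha1 (Subtype.ext han)
  have hk1 : k ≠ 1 := by
    rintro rfl
    exact hno a (by rw [han, hk]) haa haD
  have hle : 4 * k ≤ Fintype.card Ω := by
    rw [← hk, ← han]; exact Finset.card_le_univ _
  have hful : ∀ b : alternatingGroup Ω, b * b = 1 → (b : Perm Ω).support.card = 4 * k →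
      IsConj t (t * ι b) := fun b hb hc => h.inD_iff haa hb (by rw [han, hk, hc]) haD
  -- transport to a model
  have htr : ∀ (Ω' : Type) [Fintype Ω'] [DecidableEq Ω'] (e : Ω ≃ Ω'),
      Spl t (ι.comp e.altCongrHom.symm.toMonoidHom) ∧
      (∀ c, ¬ IsConj t ((ι.comp e.altCongrHom.symm.toMonoidHom) c)) ∧
      (∀ b : alternatingGroup Ω', b * b = 1 → b ≠ 1 → (b : Perm Ω').support.card < 4 * k →
        ¬ IsConj t (t * (ι.comp e.altCongrHom.symm.toMonoidHom) b)) ∧
      (∀ b : alternatingGroup Ω', b * b = 1 → (b : Perm Ω').support.card = 4 * k →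
        IsConj t (t * (ι.comp e.altCongrHom.symm.toMonoidHom) b)) := by
    intro Ω' _ _ e
    have hc : ∀ b : alternatingGroup Ω', ((e.altCongrHom.symm b : alternatingGroup Ω) : Perm Ω).support.card =
        (b : Perm Ω').support.card := by
      intro b
      rw [← alt_card e, MulEquiv.apply_symm_apply]
    refine ⟨h.transport e, fun c => hK _, fun b hb hb1 hlt => ?_, fun b hb hcb => ?_⟩
    · refine hmin' (e.altCongrHom.symm b) ?_ ?_
      · intro h1
        apply hb1
        rw [← e.altCongrHom.apply_symm_apply b, h1, map_one]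
      · rw [hc, hk]; exact hlt
    · refine hful (e.altCongrHom.symm b) ?_ ?_
      · rw [← map_mul, hb, map_one]
      · rw [hc, hcb]
  by_cases hk3 : 3 ≤ k
  · have hcard : Fintype.card Ω = Fintype.card ((Fin k × K4) ⊕ Fin (Fintype.card Ω - 4 * k)) := by
      have hK4 : Fintype.card K4 = 4 := by decide
      rw [Fintype.card_sum, Fintype.card_prod, Fintype.card_fin, Fintype.card_fin, hK4]
      omega
    obtain ⟨m1, m2, m3, m4⟩ := htr _ (Fintype.equivOfCardEq hcard)
    exact three m1 hk3 m2 m3 m4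
  · have hk2 : k = 2 := by omega
    subst hk2
    have h4' : ∀ (Ω' : Type) [Fintype Ω'] [DecidableEq Ω'] (e : Ω ≃ Ω') (b : alternatingGroup Ω'),
        b * b = 1 → (b : Perm Ω').support.card = 4 →
        ¬ IsConj t (t * (ι.comp e.altCongrHom.symm.toMonoidHom) b) := by
      intro Ω' _ _ e b hb hb4
      refine (htr Ω' e).2.2.1 b hb ?_ (by omega)
      rintro rfl
      simp at hb4
    by_cases h10 : Fintype.card Ω = 10
    · have hcard : Fintype.card Ω = Fintype.card (Fin 10) := by rw [h10, Fintype.card_fin]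
      obtain ⟨m1, m2, -, m4⟩ := htr _ (Fintype.equivOfCardEq hcard)
      exact Ten.false_of m1 m2 (h4' _ (Fintype.equivOfCardEq hcard)) m4
    · have hcard : Fintype.card Ω = Fintype.card (Fin 8 ⊕ Fin (Fintype.card Ω - 8)) := by
        rw [Fintype.card_sum, Fintype.card_fin, Fintype.card_fin]
        omega
      obtain ⟨m1, m2, -, m4⟩ := htr _ (Fintype.equivOfCardEq hcard)
      refine Eight.false_of ?_ m1 m2 (h4' _ (Fintype.equivOfCardEq hcard)) m4
      rw [Fintype.card_fin]
      omega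

/-- The version for `Spl t (An n) ι`. -/
theorem exists_four_fin [Finite G] (hG : ∀ H : Subgroup G, H.index ≠ 2) {n : ℕ} (hn : 8 ≤ n) {t : G}
    {ι : An n →* G} (h : D5.Spl t (An n) ι) (hK : ∀ c, ¬ IsConj t (ι c)) :
    ∃ a : An n, (a : Perm (Fin n)).support.card = 4 ∧ a * a = 1 ∧ IsConj t (t * ι a) := by
  have h' : CleanTwo.Spl t ι := ⟨h.tt, h.inj, h.comm, h.cent, h.ne⟩
  refine exists_four (by rw [Fintype.card_fin]; exact hn) h' hK ?_
  -- transfer: the number of conjugates of `t` in `t ι(Alt)` is even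
  have hle : ι.range ≤ Subgroup.centralizer ({t} : Set G) := by
    rintro _ ⟨a, rfl⟩
    rw [Subgroup.mem_centralizer_singleton_iff]
    exact (h.comm a).symm
  have htn : t ∉ ι.range := by
    rintro ⟨a, ha⟩
    exact h.ne a ha
  have h2 : ι.range.relIndex (Subgroup.centralizer ({t} : Set G)) = 2 := by
    rw [Subgroup.relIndex, Subgroup.index_eq_two_iff]
    refine ⟨⟨t, Subgroup.mem_centralizer_singleton_iff.2 rfl⟩, fun b => ?_⟩
    have hb := Subgroup.mem_centralizer_singleton_iff.1 b.2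
    rw [Subgroup.mem_subgroupOf, Subgroup.mem_subgroupOf]
    show Xor' ((b : G) * t ∈ ι.range) ((b : G) ∈ ι.range)
    rcases h.cent b hb with ⟨a, ha⟩ | ⟨a, ha⟩
    · right
      refine ⟨⟨a, ha.symm⟩, fun hbt => htn ?_⟩
      have : t = (b : G)⁻¹ * ((b : G) * t) := by group
      rw [this]
      exact Subgroup.mul_mem _ (Subgroup.inv_mem _ ⟨a, ha.symm⟩) hbt
    · left
      refine ⟨⟨a, ?_⟩, fun hbt => htn ?_⟩
      · rw [ha]
        calc ι a = (t * t) * ι a := by rw [h.tt, one_mul]
          _ = t * (t * ι a) := by group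
          _ = t * (ι a * t) := by rw [h.comm]
          _ = t * ι a * t := by group
      · have : t = (b : G) * (ι a)⁻¹ := by rw [ha]; group
        rw [this]
        exact Subgroup.mul_mem _ hbt (Subgroup.inv_mem _ ⟨a, rfl⟩)
  obtain ⟨x, hx1, hx2, hx3, hx4⟩ := TForm.exists_conj hG h.tt hle h2 htn
  rcases h.cent x (Subgroup.mem_centralizer_singleton_iff.1 hx1) with ⟨a, ha⟩ | ⟨a, ha⟩
  · exact absurd ⟨a, ha.symm⟩ hx2
  · refine ⟨a, ?_, ha ▸ hx4⟩
    rintro rfl
    apply hx3
    rw [ha, map_one, mul_one]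

end Cfsg.Agent.OddHalf.D5.CleanTwo

end
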