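import Mathlib

-- merged: Cfsg.Agent.OddHalf.D5.DblPerm
section

/-!
# ODD D5, `K = Alt(α)`, `|α| ≥ 9`: permutation lemmas (helper845)

Letters are addressed through embeddings `v : Fin 9 ↪ α`; `emb v : A₉ → Alt(α)`; `dt i j k l` is the double
transposition `(i j)(k l)`.
-/

set_option autoImplicit false

namespace Cfsg.Agent.OddHalf.D5.Dbl

open Equiv

/-- the double transposition `(a b)(c d)` -/
def dt {β : Type*} [Fintype β] [DecidableEq β] (a b c d : β) : alternatingGroup β :=
  if h : a ≠ b ∧ c ≠ d then ⟨swap a b * swap c d, by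
    rw [Equiv.Perm.mem_alternatingGroup, Equiv.Perm.sign_mul, Equiv.Perm.sign_swap h.1,
      Equiv.Perm.sign_swap h.2]; rfl⟩ else 1

theorem dt_coe {β : Type*} [Fintype β] [DecidableEq β] {a b c d : β} (h1 : a ≠ b) (h2 : c ≠ d) :
    (dt a b c d : Perm β) = swap a b * swap c d := by
  rw [dt, dif_pos ⟨h1, h2⟩]

/-- the 3-cycle `a → b → c → a` -/
def tc {β : Type*} [Fintype β] [DecidableEq β] (a b c : β) : alternatingGroup β :=
  if h : a ≠ b ∧ b ≠ c then ⟨swap a b * swap b c, by
    rw [Equiv.Perm.mem_alternatingGroup, Equiv.Perm.sign_mul, Equiv.Perm.sign_swap h.1,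
      Equiv.Perm.sign_swap h.2]; rfl⟩ else 1

theorem tc_coe {β : Type*} [Fintype β] [DecidableEq β] {a b c : β} (h1 : a ≠ b) (h2 : b ≠ c) :
    (tc a b c : Perm β) = swap a b * swap b c := by
  rw [tc, dif_pos ⟨h1, h2⟩]

variable {α : Type*} [Fintype α] [DecidableEq α]

theorem sign_viaEmbedding (v : Fin 9 ↪ α) (k : Perm (Fin 9)) :
    Perm.sign (k.viaEmbedding v) = Perm.sign k := by
  classical
  rw [Perm.viaEmbedding]
  convert Perm.sign_extendDomain k _

/-- `A₉ → Alt(α)` -/
noncomputable def emb (v : Fin 9 ↪ α) : alternatingGroup (Fin 9) →* alternatingGroup α where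
  toFun k := ⟨(k : Perm (Fin 9)).viaEmbedding v, by
    rw [Perm.mem_alternatingGroup, sign_viaEmbedding]; exact k.2⟩
  map_one' := Subtype.ext (map_one (Perm.viaEmbeddingHom v))
  map_mul' a b := Subtype.ext (map_mul (Perm.viaEmbeddingHom v) (a : Perm (Fin 9)) (b : Perm (Fin 9)))

theorem emb_apply (v : Fin 9 ↪ α) (k : alternatingGroup (Fin 9)) (i : Fin 9) :
    (emb v k : Perm α) (v i) = v ((k : Perm (Fin 9)) i) :=
  Perm.viaEmbedding_apply _ _ _

theorem emb_notMem (v : Fin 9 ↪ α) (k : alternatingGroup (Fin 9)) {x : α} (hx : x ∉ Set.range v) :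
    (emb v k : Perm α) x = x :=
  Perm.viaEmbedding_apply_of_notMem _ _ _ hx

theorem emb_injective (v : Fin 9 ↪ α) : Function.Injective (emb v) := by
  intro a b h
  apply Subtype.ext
  apply Equiv.ext
  intro i
  apply v.injective
  rw [← emb_apply, ← emb_apply, h]

theorem emb_dt (v : Fin 9 ↪ α) {i j k l : Fin 9} (h1 : i ≠ j) (h2 : k ≠ l) :
    emb v (dt i j k l) = dt (v i) (v j) (v k) (v l) := by
  apply Subtype.ext
  apply Equiv.ext
  intro x
  rw [dt_coe (v.injective.ne h1) (v.injective.ne h2)]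
  by_cases hx : x ∈ Set.range v
  · obtain ⟨m, rfl⟩ := hx
    rw [emb_apply, dt_coe h1 h2, Perm.mul_apply, Perm.mul_apply, v.injective.swap_apply,
      v.injective.swap_apply]
  · rw [emb_notMem v _ hx, Perm.mul_apply]
    have h : ∀ m, x ≠ v m := fun m e => hx ⟨m, e.symm⟩
    rw [swap_apply_of_ne_of_ne (h k) (h l), swap_apply_of_ne_of_ne (h i) (h j)]

/-- conjugation by permutations of the letters -/
theorem dt_conj {β : Type*} [Fintype β] [DecidableEq β] (k : alternatingGroup β) (a b c d : β) :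
    k * dt a b c d * k⁻¹ = dt ((k : Perm β) a) ((k : Perm β) b) ((k : Perm β) c) ((k : Perm β) d) := by
  by_cases h : a ≠ b ∧ c ≠ d
  · apply Subtype.ext
    rw [dt_coe ((k : Perm β).injective.ne h.1) ((k : Perm β).injective.ne h.2), swap_apply_apply,
      swap_apply_apply]
    show (k : Perm β) * (dt a b c d : Perm β) * (k : Perm β)⁻¹ = _
    rw [dt_coe h.1 h.2]
    group
  · rw [dt, dif_neg h, mul_one, mul_inv_cancel, dt, dif_neg]
    rw [(k : Perm β).injective.ne_iff, (k : Perm β).injective.ne_iff]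
    exact h

theorem dt_conj' {β : Type*} [Fintype β] [DecidableEq β] (k : alternatingGroup β) (a b c d : β) :
    k⁻¹ * dt a b c d * k = dt (((k : Perm β)⁻¹) a) ((k : Perm β)⁻¹ b) ((k : Perm β)⁻¹ c)
      ((k : Perm β)⁻¹ d) := by
  have := dt_conj k⁻¹ a b c d
  rwa [inv_inv] at this

/-- the embedding can be moved by permutations of `Fin 9` -/
theorem emb_comp_dt (v : Fin 9 ↪ α) (π : Perm (Fin 9)) {i j k l : Fin 9} (h1 : i ≠ j) (h2 : k ≠ l) :
    emb (π.toEmbedding.trans v) (dt i j k l) = emb v (dt (π i) (π j) (π k) (π l)) := by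
  rw [emb_dt _ h1 h2, emb_dt _ (π.injective.ne h1) (π.injective.ne h2)]
  rfl

omit [Fintype α] [DecidableEq α] in
theorem exists_perm_extending {m : ℕ} (x y : Fin m → α) (hx : Function.Injective x)
    (hy : Function.Injective y) : ∃ σ : Perm α, ∀ i, σ (x i) = y i :=
  Perm.exists_extending_pair x y hx hy

/-- **7-transitivity** of `Alt(α)` -/
theorem trans_seven (v w : Fin 9 ↪ α) :
    ∃ k : alternatingGroup α, ∀ i : Fin 9, i < 7 → (k : Perm α) (v i) = w i := by
  obtain ⟨σ, hσ⟩ := exists_perm_extending v w v.injective w.injective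
  rcases Int.units_eq_one_or (Perm.sign σ) with h | h
  · exact ⟨⟨σ, h⟩, fun i _ => hσ i⟩
  · refine ⟨⟨σ * swap (v 7) (v 8), ?_⟩, ?_⟩
    · rw [Perm.mem_alternatingGroup, Perm.sign_mul, h, Perm.sign_swap (v.injective.ne (by decide))]
      rfl
    · intro i hi
      show σ (swap (v 7) (v 8) (v i)) = w i
      rw [swap_apply_of_ne_of_ne, hσ]
      · exact v.injective.ne (by rintro rfl; exact absurd hi (by decide))
      · exact v.injective.ne (by rintro rfl; exact absurd hi (by decide))

/-- an embedding with prescribed first letters -/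
theorem exists_emb (hn : 9 ≤ Fintype.card α) {m : ℕ} (x : Fin m → α) (hx : Function.Injective x)
    (hm : m ≤ 9) : ∃ v : Fin 9 ↪ α, ∀ i : Fin m, v (Fin.castLE hm i) = x i := by
  have h1 : Nonempty (Fin 9 ↪ α) := by
    apply Function.Embedding.nonempty_of_card_le
    rwa [Fintype.card_fin]
  obtain ⟨v0⟩ := h1
  obtain ⟨σ, hσ⟩ := exists_perm_extending (fun i : Fin m => v0 (Fin.castLE hm i)) x
    (v0.injective.comp (Fin.castLE_injective hm)) hx
  exact ⟨v0.trans σ.toEmbedding, fun i => hσ i⟩

/-! ### Fixed points -/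

/-- an even permutation moving at most two letters is trivial -/
theorem eq_one_of_fix {k : alternatingGroup α} (p q : α)
    (h : ∀ x, x ≠ p → x ≠ q → (k : Perm α) x = x) : k = 1 := by
  by_cases hpq : p = q
  · subst hpq
    apply Subtype.ext
    apply Equiv.ext
    intro x
    show (k : Perm α) x = x
    by_cases hx : x = p
    · subst hx
      by_contra h1
      have h2 := h _ h1 h1
      exact h1 ((k : Perm α).injective h2)
    · exact h x hx hx
  have hkp : (k : Perm α) p = p ∨ (k : Perm α) p = q := by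
    by_contra hc
    rw [not_or] at hc
    have h2 := h _ hc.1 hc.2
    exact hc.1 ((k : Perm α).injective h2)
  have hkq : (k : Perm α) q = p ∨ (k : Perm α) q = q := by
    by_contra hc
    rw [not_or] at hc
    have h2 := h _ hc.1 hc.2
    exact hc.2 ((k : Perm α).injective h2)
  rcases hkp with h1 | h1
  · have h2 : (k : Perm α) q = q := by
      rcases hkq with h3 | h3
      · exact absurd ((k : Perm α).injective (h1.trans h3.symm)) hpq
      · exact h3
    apply Subtype.ext
    apply Equiv.ext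
    intro x
    show (k : Perm α) x = x
    by_cases hx : x = p
    · rw [hx, h1]
    by_cases hx' : x = q
    · rw [hx', h2]
    exact h x hx hx'
  · exfalso
    have h2 : (k : Perm α) q = p := by
      rcases hkq with h3 | h3
      · exact h3
      · exact absurd ((k : Perm α).injective (h1.trans h3.symm)) hpq
    have h3 : (k : Perm α) = swap p q := by
      apply Equiv.ext
      intro x
      by_cases hx : x = p
      · rw [hx, h1, swap_apply_left]
      by_cases hx' : x = q
      · rw [hx', h2, swap_apply_right]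
      rw [h x hx hx', swap_apply_of_ne_of_ne hx hx']
    have h4 : Perm.sign (k : Perm α) = 1 := k.2
    rw [h3, Perm.sign_swap hpq] at h4
    exact absurd h4 (by decide)

omit [Fintype α] [DecidableEq α] in
/-- commuting permutations preserve the set of moved letters -/
theorem moved_iff {k u : Perm α} (h : u * k = k * u) (x : α) : u (k x) ≠ k x ↔ u x ≠ x := by
  have h1 : u (k x) = k (u x) := by
    have := congrArg (fun f : Perm α => f x) h
    exact this
  rw [h1, k.injective.ne_iff]

theorem dt_apply_of_ne {a b c d x : α} (h1 : a ≠ b) (h2 : c ≠ d) (hx : x ≠ a ∧ x ≠ b ∧ x ≠ c ∧ x ≠ d) :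
    (dt a b c d : Perm α) x = x := by
  rw [dt_coe h1 h2, Perm.mul_apply, swap_apply_of_ne_of_ne hx.2.2.1 hx.2.2.2,
    swap_apply_of_ne_of_ne hx.1 hx.2.1]

theorem moved_dt {a b c d x : α} (hd : [a, b, c, d].Nodup) :
    (dt a b c d : Perm α) x ≠ x ↔ (x = a ∨ x = b ∨ x = c ∨ x = d) := by
  simp only [List.nodup_cons, List.mem_cons, List.not_mem_nil, or_false, not_or,
    List.nodup_nil, and_true, not_false_eq_true] at hd
  obtain ⟨⟨hab, hac, had⟩, ⟨hbc, hbd⟩, hcd⟩ := hd
  constructor
  · intro h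
    by_contra hc
    simp only [not_or] at hc
    exact h (dt_apply_of_ne hab hcd hc)
  · rw [dt_coe hab hcd]
    rintro (rfl | rfl | rfl | rfl)
    · rw [Perm.mul_apply, swap_apply_of_ne_of_ne hac had, swap_apply_left]; exact Ne.symm hab
    · rw [Perm.mul_apply, swap_apply_of_ne_of_ne hbc hbd, swap_apply_right]; exact hab
    · rw [Perm.mul_apply, swap_apply_left, swap_apply_of_ne_of_ne (Ne.symm had) (Ne.symm hbd)]
      exact Ne.symm hcd
    · rw [Perm.mul_apply, swap_apply_right, swap_apply_of_ne_of_ne (Ne.symm hac) (Ne.symm hbc)]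
      exact hcd

/-- a permutation commuting with `(a b)(c d)` permutes `{a, b, c, d}` -/
theorem mem_iff_of_comm {k : alternatingGroup α} {a b c d : α} (hd : [a, b, c, d].Nodup)
    (h : dt a b c d * k = k * dt a b c d) (x : α) :
    ((k : Perm α) x = a ∨ (k : Perm α) x = b ∨ (k : Perm α) x = c ∨ (k : Perm α) x = d) ↔
      (x = a ∨ x = b ∨ x = c ∨ x = d) := by
  have h' : (dt a b c d : Perm α) * (k : Perm α) = (k : Perm α) * (dt a b c d : Perm α) :=
    congrArg Subtype.val h
  rw [← moved_dt hd, ← moved_dt hd, moved_iff h']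

/-- action of a commuting permutation -/
theorem apply_comm {k u : alternatingGroup α} (h : u * k = k * u) (x : α) :
    (k : Perm α) ((u : Perm α) x) = (u : Perm α) ((k : Perm α) x) :=
  (congrArg (fun f : alternatingGroup α => (f : Perm α) x) h).symm

end Cfsg.Agent.OddHalf.D5.Dbl

end

-- merged: Cfsg.Agent.OddHalf.D5.DblCent
section

/-!
# ODD D5, `K = Alt(α)`, `|α| ≥ 9`: double centralisers in `Alt(α)` (helper845)
-/

set_option autoImplicit false
set_option linter.unusedSectionVars false

namespace Cfsg.Agent.OddHalf.D5.Dbl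

open Equiv

variable {α : Type*} [Fintype α] [DecidableEq α]

theorem sw_comm {a b x y : α} (h1 : a ≠ x) (h2 : a ≠ y) (h3 : b ≠ x) (h4 : b ≠ y) :
    Commute (swap a b) (swap x y) := by
  by_cases hab : a = b
  · subst hab; rw [swap_self]; exact Commute.one_left _
  by_cases hxy : x = y
  · subst hxy; rw [swap_self]; exact Commute.one_right _
  apply Perm.Disjoint.commute
  intro z
  by_cases hz : z = a ∨ z = b
  · right
    rcases hz with rfl | rfl
    · exact swap_apply_of_ne_of_ne h1 h2
    · exact swap_apply_of_ne_of_ne h3 h4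
  · left
    rw [not_or] at hz
    exact swap_apply_of_ne_of_ne hz.1 hz.2

theorem dt_comm {a b c d x y z w : α} (h1 : Commute (swap a b) (swap x y))
    (h2 : Commute (swap a b) (swap z w)) (h3 : Commute (swap c d) (swap x y))
    (h4 : Commute (swap c d) (swap z w)) :
    dt a b c d * dt x y z w = dt x y z w * dt a b c d := by
  by_cases hab : a ≠ b ∧ c ≠ d
  · by_cases hxy : x ≠ y ∧ z ≠ w
    · apply Subtype.ext
      show (dt a b c d : Perm α) * (dt x y z w : Perm α) = (dt x y z w : Perm α) * (dt a b c d : Perm α)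
      rw [dt_coe hab.1 hab.2, dt_coe hxy.1 hxy.2]
      exact (h1.mul_right h2).mul_left (h3.mul_right h4)
    · rw [show dt x y z w = 1 by rw [dt, dif_neg hxy], mul_one, one_mul]
  · rw [show dt a b c d = 1 by rw [dt, dif_neg hab], mul_one, one_mul]

/-- `[a, b, x, y].Nodup` from the six inequalities -/
theorem nodup4 {a b x y : α} (h1 : a ≠ b) (h2 : a ≠ x) (h3 : a ≠ y) (h4 : b ≠ x) (h5 : b ≠ y)
    (h6 : x ≠ y) : [a, b, x, y].Nodup := by
  simp [h1, h2, h3, h4, h5, h6]

/-- letters outside the first six -/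
def Out (v : Fin 9 ↪ α) (x : α) : Prop := ∀ i : Fin 9, i < 6 → v i ≠ x

theorem out_v (v : Fin 9 ↪ α) (i : Fin 9) (hi : 6 ≤ i) : Out v (v i) := by
  intro j hj
  apply v.injective.ne
  rintro rfl
  exact absurd hi (not_le.2 hj)

theorem two_more (v : Fin 9 ↪ α) (x : α) : ∃ y y' : α, y ≠ y' ∧ x ≠ y ∧ x ≠ y' ∧
    Out v y ∧ Out v y' := by
  have hne : ∀ i j : Fin 9, i ≠ j → v i ≠ v j := fun i j h => v.injective.ne h
  by_cases h6 : x = v 6
  · exact ⟨v 7, v 8, hne _ _ (by decide), h6 ▸ hne _ _ (by decide), h6 ▸ hne _ _ (by decide),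
      out_v v 7 (by decide), out_v v 8 (by decide)⟩
  by_cases h7 : x = v 7
  · exact ⟨v 6, v 8, hne _ _ (by decide), h7 ▸ hne _ _ (by decide), h7 ▸ hne _ _ (by decide),
      out_v v 6 (by decide), out_v v 8 (by decide)⟩
  · exact ⟨v 6, v 7, hne _ _ (by decide), h6, h7, out_v v 6 (by decide), out_v v 7 (by decide)⟩

/-- if `k` commutes with all `(a b)(x y)`, `x, y` outside the first six letters, it fixes these -/
theorem fix_out (v : Fin 9 ↪ α) {k : alternatingGroup α} {a b : α} (hab : a ≠ b)
    (ha : ∀ x, Out v x → a ≠ x) (hb : ∀ x, Out v x → b ≠ x)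
    (h : ∀ x y, Out v x → Out v y → x ≠ y → dt a b x y * k = k * dt a b x y) {x : α}
    (hx : Out v x) : (k : Perm α) x = x := by
  obtain ⟨y, y', hyy, hxy, hxy', hy, hy'⟩ := two_more v x
  have A : ∀ p q, Out v p → Out v q → p ≠ q → ∀ z, (((k : Perm α) z = a ∨ (k : Perm α) z = b ∨
      (k : Perm α) z = p ∨ (k : Perm α) z = q) ↔ (z = a ∨ z = b ∨ z = p ∨ z = q)) :=
    fun p q hp hq hpq z => mem_iff_of_comm (nodup4 hab (ha p hp) (ha q hq) (hb p hp) (hb q hq) hpq)
      (h p q hp hq hpq) z
  have h1 := (A x y hx hy hxy x).2 (Or.inr (Or.inr (Or.inl rfl)))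
  have h2 := (A x y' hx hy' hxy' x).2 (Or.inr (Or.inr (Or.inl rfl)))
  have h3 := (A y y' hy hy' hyy x).not.2 (by
    rintro (e | e | e | e)
    · exact ha x hx e.symm
    · exact hb x hx e.symm
    · exact hxy e
    · exact hxy' e)
  simp only [not_or] at h3
  rcases h1 with e | e | e | e
  · exact absurd e h3.1
  · exact absurd e h3.2.1
  · exact e
  · rcases h2 with f | f | f | f
    · exact absurd f h3.1
    · exact absurd f h3.2.1
    · exact f
    · exact absurd f h3.2.2.2

theorem map_out (v : Fin 9 ↪ α) {k : alternatingGroup α} (hf : ∀ x, Out v x → (k : Perm α) x = x)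
    {z : α} (hz : ¬ Out v z) : ¬ Out v ((k : Perm α) z) := by
  intro h
  have h1 := hf _ h
  have h2 := (k : Perm α).injective h1
  exact hz (h2 ▸ h)

/-- ... and preserves `{a, b}` -/
theorem pair_out (v : Fin 9 ↪ α) {k : alternatingGroup α} {a b : α} (hab : a ≠ b)
    (ha : ∀ x, Out v x → a ≠ x) (hb : ∀ x, Out v x → b ≠ x)
    (h : ∀ x y, Out v x → Out v y → x ≠ y → dt a b x y * k = k * dt a b x y) {z : α}
    (hz : z = a ∨ z = b) : (k : Perm α) z = a ∨ (k : Perm α) z = b := by
  have hf : ∀ x, Out v x → (k : Perm α) x = x := fun x hx => fix_out v hab ha hb h hx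
  have h6 := out_v v 6 (by decide)
  have h7 := out_v v 7 (by decide)
  have h67 : v 6 ≠ v 7 := v.injective.ne (by decide)
  have hz' : ¬ Out v z := by
    rcases hz with rfl | rfl
    · exact fun h => ha _ h rfl
    · exact fun h => hb _ h rfl
  have h1 := map_out v hf hz'
  have h2 := (mem_iff_of_comm (nodup4 hab (ha _ h6) (ha _ h7) (hb _ h6) (hb _ h7) h67)
      (h _ _ h6 h7 h67) z).2 (by
      rcases hz with rfl | rfl
      · exact Or.inl rfl
      · exact Or.inr (Or.inl rfl))
  rcases h2 with e | e | e | e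
  · exact Or.inl e
  · exact Or.inr e
  · exact absurd (e ▸ h6) h1
  · exact absurd (e ▸ h7) h1

theorem lt6 {i : Fin 9} (hi : i < 6) : i = 0 ∨ i = 1 ∨ i = 2 ∨ i = 3 ∨ i = 4 ∨ i = 5 := by
  revert i; decide

/-- an even permutation fixing the outer letters and `v 0 … v 3` is trivial -/
theorem eq_one_of_out (v : Fin 9 ↪ α) {k : alternatingGroup α}
    (hf : ∀ x, Out v x → (k : Perm α) x = x) (h0 : (k : Perm α) (v 0) = v 0)
    (h1 : (k : Perm α) (v 1) = v 1) (h2 : (k : Perm α) (v 2) = v 2) (h3 : (k : Perm α) (v 3) = v 3) :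
    k = 1 := by
  apply eq_one_of_fix (v 4) (v 5)
  intro x hx4 hx5
  by_cases hx : Out v x
  · exact hf x hx
  rw [Out] at hx
  push Not at hx
  obtain ⟨i, hi, rfl⟩ := hx
  rcases lt6 hi with rfl | rfl | rfl | rfl | rfl | rfl
  · exact h0
  · exact h1
  · exact h2
  · exact h3
  · exact absurd rfl hx4
  · exact absurd rfl hx5

/-- the elements `(v i v j)(x y)` commute with `(v p v q)(v r v s)` for disjoint or equal pairs -/
theorem comm_out (v : Fin 9 ↪ α) {i j p q r s : Fin 9} (h1 : (i = p ∧ j = q) ∨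
    (i ≠ p ∧ i ≠ q ∧ j ≠ p ∧ j ≠ q)) (h2 : (i = r ∧ j = s) ∨
    (i ≠ r ∧ i ≠ s ∧ j ≠ r ∧ j ≠ s)) (hp : p < 6) (hq : q < 6) (hr : r < 6) (hs : s < 6) (hpq : p ≠ q)
    (hrs : r ≠ s) {x y : α} (hx : Out v x) (hy : Out v y) :
    dt (v i) (v j) x y * emb v (dt p q r s) = emb v (dt p q r s) * dt (v i) (v j) x y := by
  have hne : ∀ i j : Fin 9, i ≠ j → v i ≠ v j := fun i j h => v.injective.ne h
  rw [emb_dt v hpq hrs]
  apply dt_comm
  · rcases h1 with ⟨rfl, rfl⟩ | ⟨e1, e2, e3, e4⟩
    · exact Commute.refl _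
    · exact sw_comm (hne _ _ e1) (hne _ _ e2) (hne _ _ e3) (hne _ _ e4)
  · rcases h2 with ⟨rfl, rfl⟩ | ⟨e1, e2, e3, e4⟩
    · exact Commute.refl _
    · exact sw_comm (hne _ _ e1) (hne _ _ e2) (hne _ _ e3) (hne _ _ e4)
  · exact sw_comm (hx _ hp).symm (hx _ hq).symm (hy _ hp).symm (hy _ hq).symm
  · exact sw_comm (hx _ hr).symm (hx _ hs).symm (hy _ hr).symm (hy _ hs).symm

theorem ne_out (v : Fin 9 ↪ α) {i : Fin 9} (hi : i < 6) : ∀ x, Out v x → v i ≠ x :=
  fun _ hx => hx i hi

/-- **C3**: the double centraliser of a line `⟨(01)(23), (23)(45)⟩` -/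
theorem cent_line (v : Fin 9 ↪ α) (k : alternatingGroup α)
    (h : ∀ l : alternatingGroup α, l * emb v (dt 0 1 2 3) = emb v (dt 0 1 2 3) * l →
      l * emb v (dt 2 3 4 5) = emb v (dt 2 3 4 5) * l → l * k = k * l) :
    k = 1 ∨ k = emb v (dt 0 1 2 3) ∨ k = emb v (dt 2 3 4 5) ∨ k = emb v (dt 0 1 4 5) := by
  have hne : ∀ i j : Fin 9, i ≠ j → v i ≠ v j := fun i j h => v.injective.ne h
  have A0 : ∀ x y, Out v x → Out v y → x ≠ y → dt (v 0) (v 1) x y * k = k * dt (v 0) (v 1) x y :=
    fun x y hx hy _ => h _ (comm_out v (by decide) (by decide) (by decide) (by decide) (by decide)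
      (by decide) (by decide) (by decide) hx hy) (comm_out v (by decide) (by decide) (by decide)
      (by decide) (by decide) (by decide) (by decide) (by decide) hx hy)
  have A2 : ∀ x y, Out v x → Out v y → x ≠ y → dt (v 2) (v 3) x y * k = k * dt (v 2) (v 3) x y :=
    fun x y hx hy _ => h _ (comm_out v (by decide) (by decide) (by decide) (by decide) (by decide)
      (by decide) (by decide) (by decide) hx hy) (comm_out v (by decide) (by decide) (by decide)
      (by decide) (by decide) (by decide) (by decide) (by decide) hx hy)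
  have F : ∀ x, Out v x → (k : Perm α) x = x := fun x hx =>
    fix_out v (hne 0 1 (by decide)) (ne_out v (by decide)) (ne_out v (by decide)) A0 hx
  have B0 : ∀ z, (z = v 0 ∨ z = v 1) → ((k : Perm α) z = v 0 ∨ (k : Perm α) z = v 1) :=
    fun z hz => pair_out v (hne 0 1 (by decide)) (ne_out v (by decide)) (ne_out v (by decide)) A0 hz
  have B2 : ∀ z, (z = v 2 ∨ z = v 3) → ((k : Perm α) z = v 2 ∨ (k : Perm α) z = v 3) :=
    fun z hz => pair_out v (hne 2 3 (by decide)) (ne_out v (by decide)) (ne_out v (by decide)) A2 hz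
  have fin : ∀ m : alternatingGroup (Fin 9), (∀ i : Fin 9, 6 ≤ i → (m : Perm (Fin 9)) i = i) →
      (emb v m * k : Perm α) (v 0) = v 0 → (emb v m * k : Perm α) (v 2) = v 2 →
      ((emb v m * k : Perm α) (v 1) = v 1) → ((emb v m * k : Perm α) (v 3) = v 3) →
      emb v m * k = 1 := by
    intro m hm h0 h2 h1 h3
    apply eq_one_of_out v _ h0 h1 h2 h3
    intro x hx
    show (emb v m : Perm α) ((k : Perm α) x) = x
    rw [F x hx]
    by_cases hr : x ∈ Set.range v
    · obtain ⟨i, rfl⟩ := hr
      rw [emb_apply, hm]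
      by_contra hc
      exact hx i (not_le.1 hc) rfl
    · exact emb_notMem v _ hr
  have h01 : (k : Perm α) (v 0) = v 0 ∧ (k : Perm α) (v 1) = v 1 ∨
      (k : Perm α) (v 0) = v 1 ∧ (k : Perm α) (v 1) = v 0 := by
    rcases B0 _ (Or.inl rfl) with e | e <;> rcases B0 _ (Or.inr rfl) with f | f
    · exact absurd ((k : Perm α).injective (e.trans f.symm)) (hne _ _ (by decide))
    · exact Or.inl ⟨e, f⟩
    · exact Or.inr ⟨e, f⟩
    · exact absurd ((k : Perm α).injective (e.trans f.symm)) (hne _ _ (by decide))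
  have h23 : (k : Perm α) (v 2) = v 2 ∧ (k : Perm α) (v 3) = v 3 ∨
      (k : Perm α) (v 2) = v 3 ∧ (k : Perm α) (v 3) = v 2 := by
    rcases B2 _ (Or.inl rfl) with e | e <;> rcases B2 _ (Or.inr rfl) with f | f
    · exact absurd ((k : Perm α).injective (e.trans f.symm)) (hne _ _ (by decide))
    · exact Or.inl ⟨e, f⟩
    · exact Or.inr ⟨e, f⟩
    · exact absurd ((k : Perm α).injective (e.trans f.symm)) (hne _ _ (by decide))
  have inv : ∀ m : alternatingGroup (Fin 9), m * m = 1 → emb v m * k = 1 → k = emb v m := by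
    intro m hm e
    have h1 : emb v m * emb v m = 1 := by rw [← map_mul, hm, map_one]
    have h2 : emb v m = (emb v m)⁻¹ := (mul_eq_one_iff_eq_inv.1 h1)
    rw [h2]
    exact (mul_eq_one_iff_inv_eq.1 e).symm
  rcases h01 with ⟨e0, e1⟩ | ⟨e0, e1⟩ <;> rcases h23 with ⟨e2, e3⟩ | ⟨e2, e3⟩
  · left
    have := fin 1 (by decide) (by rw [map_one]; exact e0) (by rw [map_one]; exact e2)
      (by rw [map_one]; exact e1) (by rw [map_one]; exact e3)
    rwa [map_one, one_mul] at this
  · right; right; left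
    apply inv _ (by decide)
    apply fin _ (by decide)
    · show (emb v _ : Perm α) ((k : Perm α) _) = _
      rw [e0, emb_apply]; rfl
    · show (emb v _ : Perm α) ((k : Perm α) _) = _
      rw [e2, emb_apply]; rfl
    · show (emb v _ : Perm α) ((k : Perm α) _) = _
      rw [e1, emb_apply]; rfl
    · show (emb v _ : Perm α) ((k : Perm α) _) = _
      rw [e3, emb_apply]; rfl
  · right; right; right
    apply inv _ (by decide)
    apply fin _ (by decide)
    · show (emb v _ : Perm α) ((k : Perm α) _) = _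
      rw [e0, emb_apply]; rfl
    · show (emb v _ : Perm α) ((k : Perm α) _) = _
      rw [e2, emb_apply]; rfl
    · show (emb v _ : Perm α) ((k : Perm α) _) = _
      rw [e1, emb_apply]; rfl
    · show (emb v _ : Perm α) ((k : Perm α) _) = _
      rw [e3, emb_apply]; rfl
  · right; left
    apply inv _ (by decide)
    apply fin _ (by decide)
    · show (emb v _ : Perm α) ((k : Perm α) _) = _
      rw [e0, emb_apply]; rfl
    · show (emb v _ : Perm α) ((k : Perm α) _) = _
      rw [e2, emb_apply]; rfl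
    · show (emb v _ : Perm α) ((k : Perm α) _) = _
      rw [e1, emb_apply]; rfl
    · show (emb v _ : Perm α) ((k : Perm α) _) = _
      rw [e3, emb_apply]; rfl


theorem inv_of_sq (v : Fin 9 ↪ α) {k : alternatingGroup α} {m : alternatingGroup (Fin 9)}
    (hm : m * m = 1) (e : emb v m * k = 1) : k = emb v m := by
  have h1 : emb v m * emb v m = 1 := by rw [← map_mul, hm, map_one]
  have h2 : emb v m = (emb v m)⁻¹ := mul_eq_one_iff_eq_inv.1 h1
  rw [h2]
  exact (mul_eq_one_iff_inv_eq.1 e).symm

theorem mul_emb_out (v : Fin 9 ↪ α) {k : alternatingGroup α} (hk : ∀ x, Out v x → (k : Perm α) x = x)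
    {m : alternatingGroup (Fin 9)} (hm : ∀ i : Fin 9, 6 ≤ i → (m : Perm (Fin 9)) i = i) {x : α}
    (hx : Out v x) : (emb v m * k : Perm α) x = x := by
  show (emb v m : Perm α) ((k : Perm α) x) = x
  rw [hk x hx]
  by_cases hr : x ∈ Set.range v
  · obtain ⟨i, rfl⟩ := hr
    rw [emb_apply, hm]
    by_contra hc
    exact hx i (not_le.1 hc) rfl
  · exact emb_notMem v _ hr

/-- **C4**: special pairs -/
theorem cent_special (v : Fin 9 ↪ α) (k : alternatingGroup α)
    (h : ∀ l : alternatingGroup α, l * emb v (dt 0 1 4 5) = emb v (dt 0 1 4 5) * l →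
      l * emb v (dt 0 2 1 3) = emb v (dt 0 2 1 3) * l → l * k = k * l)
    (hr : k * emb v (dt 0 1 4 5) = emb v (dt 0 1 4 5) * k)
    (hs : k * emb v (dt 0 2 1 3) = emb v (dt 0 2 1 3) * k) :
    k = 1 ∨ k = emb v (dt 0 1 2 3) := by
  have hne : ∀ i j : Fin 9, i ≠ j → v i ≠ v j := fun i j h => v.injective.ne h
  have A4 : ∀ x y, Out v x → Out v y → x ≠ y → dt (v 4) (v 5) x y * k = k * dt (v 4) (v 5) x y :=
    fun x y hx hy _ => h _ (comm_out v (by decide) (by decide) (by decide) (by decide) (by decide)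
      (by decide) (by decide) (by decide) hx hy) (comm_out v (by decide) (by decide) (by decide)
      (by decide) (by decide) (by decide) (by decide) (by decide) hx hy)
  have F : ∀ x, Out v x → (k : Perm α) x = x := fun x hx =>
    fix_out v (hne 4 5 (by decide)) (ne_out v (by decide)) (ne_out v (by decide)) A4 hx
  have hq : emb v (dt 0 1 2 3) * k = k * emb v (dt 0 1 2 3) := by
    apply h
    · rw [← map_mul, ← map_mul]; exact congrArg _ (by decide)
    · rw [← map_mul, ← map_mul]; exact congrArg _ (by decide)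
  have nd : ∀ i j p q : Fin 9, [i, j, p, q].Nodup → [v i, v j, v p, v q].Nodup := by
    intro i j p q hd
    have : [v i, v j, v p, v q] = [i, j, p, q].map v := rfl
    rw [this]
    exact hd.map v.injective
  rw [emb_dt v (by decide) (by decide)] at hr hs
  have h1 := (mem_iff_of_comm (nd 0 1 4 5 (by decide)) hr.symm (v 0)).2 (Or.inl rfl)
  have h2 := (mem_iff_of_comm (nd 0 2 1 3 (by decide)) hs.symm (v 0)).2 (Or.inl rfl)
  have h0 : (k : Perm α) (v 0) = v 0 ∨ (k : Perm α) (v 0) = v 1 := by
    rcases h1 with e | e | e | e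
    · exact Or.inl e
    · exact Or.inr e
    · rcases h2 with f | f | f | f
      · exact Or.inl f
      · exact absurd (e.symm.trans f) (hne _ _ (by decide))
      · exact Or.inr f
      · exact absurd (e.symm.trans f) (hne _ _ (by decide))
    · rcases h2 with f | f | f | f
      · exact Or.inl f
      · exact absurd (e.symm.trans f) (hne _ _ (by decide))
      · exact Or.inr f
      · exact absurd (e.symm.trans f) (hne _ _ (by decide))
  rw [← emb_dt v (by decide) (by decide)] at hr hs
  -- the action on the other letters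
  have step : ∀ (k' : alternatingGroup α), k' * emb v (dt 0 2 1 3) = emb v (dt 0 2 1 3) * k' →
      emb v (dt 0 1 2 3) * k' = k' * emb v (dt 0 1 2 3) →
      (∀ x, Out v x → (k' : Perm α) x = x) → (k' : Perm α) (v 0) = v 0 → k' = 1 := by
    intro k' hs' hq' F' e0
    have e2 : (k' : Perm α) (v 2) = v 2 := by
      have := apply_comm hs'.symm (v 0)
      rw [e0, emb_apply] at this
      exact this
    have e1 : (k' : Perm α) (v 1) = v 1 := by
      have := apply_comm hq' (v 0)
      rw [e0, emb_apply] at this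
      exact this
    have e3 : (k' : Perm α) (v 3) = v 3 := by
      have := apply_comm hq' (v 2)
      rw [e2, emb_apply] at this
      exact this
    exact eq_one_of_out v F' e0 e1 e2 e3
  rcases h0 with e | e
  · exact Or.inl (step k hs hq F e)
  · right
    apply inv_of_sq v (by decide)
    apply step
    · have e1 : (dt 0 1 2 3 : alternatingGroup (Fin 9)) * dt 0 2 1 3 = dt 0 2 1 3 * dt 0 1 2 3 := by
        decide
      rw [mul_assoc, hs, ← mul_assoc, ← mul_assoc, ← map_mul, ← map_mul, e1]
    · rw [mul_assoc, hq]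
    · intro x hx
      exact mul_emb_out v F (by decide) hx
    · show (emb v _ : Perm α) ((k : Perm α) _) = _
      rw [e, emb_apply]; rfl

/-- **C2**: disjoint pairs -/
theorem cent_disj (v : Fin 9 ↪ α) (k : alternatingGroup α)
    (h : ∀ l : alternatingGroup α, l * emb v (dt 0 1 2 3) = emb v (dt 0 1 2 3) * l →
      l * emb v (dt 4 5 6 7) = emb v (dt 4 5 6 7) * l → l * k = k * l) :
    k = 1 ∨ k = emb v (dt 0 1 2 3) ∨ k = emb v (dt 4 5 6 7) ∨
      k = emb v (dt 0 1 2 3 * dt 4 5 6 7) := by
  have hne : ∀ i j : Fin 9, i ≠ j → v i ≠ v j := fun i j h => v.injective.ne h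
  have nd : ∀ i j p q : Fin 9, [i, j, p, q].Nodup → [v i, v j, v p, v q].Nodup := by
    intro i j p q hd
    have : [v i, v j, v p, v q] = [i, j, p, q].map v := rfl
    rw [this]
    exact hd.map v.injective
  have hm : ∀ m : alternatingGroup (Fin 9), m * dt 0 1 2 3 = dt 0 1 2 3 * m →
      m * dt 4 5 6 7 = dt 4 5 6 7 * m → emb v m * k = k * emb v m := by
    intro m h1 h2
    apply h
    · rw [← map_mul, h1, map_mul]
    · rw [← map_mul, h2, map_mul]
  have c1 := hm (dt 0 1 2 3) (by decide) (by decide)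
  have c2 := hm (dt 0 2 1 3) (by decide) (by decide)
  have c3 := hm (dt 4 5 6 7) (by decide) (by decide)
  have c4 := hm (dt 4 6 5 7) (by decide) (by decide)
  have c5 := hm (dt 0 1 4 5) (by decide) (by decide)
  -- `v 0 ↦ v 0, v 1` and `v 4 ↦ v 4, v 5`
  have h0 : (k : Perm α) (v 0) = v 0 ∨ (k : Perm α) (v 0) = v 1 := by
    have h1 := (mem_iff_of_comm (k := k) (nd 0 1 2 3 (by decide))
      (by rw [← emb_dt v (by decide) (by decide)]; exact c1) (v 0)).2 (Or.inl rfl)
    have h2 := (mem_iff_of_comm (k := k) (nd 0 1 4 5 (by decide))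
      (by rw [← emb_dt v (by decide) (by decide)]; exact c5) (v 0)).2 (Or.inl rfl)
    rcases h2 with f | f | f | f
    · exact Or.inl f
    · exact Or.inr f
    · rcases h1 with e | e | e | e
      · exact Or.inl e
      · exact Or.inr e
      · exact absurd (e.symm.trans f) (hne _ _ (by decide))
      · exact absurd (e.symm.trans f) (hne _ _ (by decide))
    · rcases h1 with e | e | e | e
      · exact Or.inl e
      · exact Or.inr e
      · exact absurd (e.symm.trans f) (hne _ _ (by decide))
      · exact absurd (e.symm.trans f) (hne _ _ (by decide))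
  have h4 : (k : Perm α) (v 4) = v 4 ∨ (k : Perm α) (v 4) = v 5 := by
    have h1 := (mem_iff_of_comm (k := k) (nd 4 5 6 7 (by decide))
      (by rw [← emb_dt v (by decide) (by decide)]; exact c3) (v 4)).2 (Or.inl rfl)
    have h2 := (mem_iff_of_comm (k := k) (nd 0 1 4 5 (by decide))
      (by rw [← emb_dt v (by decide) (by decide)]; exact c5) (v 4)).2 (Or.inr (Or.inr (Or.inl rfl)))
    rcases h1 with f | f | f | f
    · exact Or.inl f
    · exact Or.inr f
    · rcases h2 with e | e | e | e
      · exact absurd (e.symm.trans f) (hne _ _ (by decide))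
      · exact absurd (e.symm.trans f) (hne _ _ (by decide))
      · exact Or.inl e
      · exact Or.inr e
    · rcases h2 with e | e | e | e
      · exact absurd (e.symm.trans f) (hne _ _ (by decide))
      · exact absurd (e.symm.trans f) (hne _ _ (by decide))
      · exact Or.inl e
      · exact Or.inr e
  -- finishing
  have fin : ∀ k' : alternatingGroup α, (∀ m : alternatingGroup (Fin 9),
      (m = dt 0 1 2 3 ∨ m = dt 0 2 1 3 ∨ m = dt 4 5 6 7 ∨ m = dt 4 6 5 7) →
      emb v m * k' = k' * emb v m) → (∀ x y, (∀ i : Fin 9, i < 8 → v i ≠ x) →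
      (∀ i : Fin 9, i < 8 → v i ≠ y) → dt (v 0) (v 1) x y * k' = k' * dt (v 0) (v 1) x y) →
      (k' : Perm α) (v 0) = v 0 → (k' : Perm α) (v 4) = v 4 → k' = 1 := by
    intro k' hc ho e0 e4
    have e1 : (k' : Perm α) (v 1) = v 1 := by
      have := apply_comm (hc _ (Or.inl rfl)) (v 0)
      rw [e0, emb_apply] at this
      exact this
    have e2 : (k' : Perm α) (v 2) = v 2 := by
      have := apply_comm (hc _ (Or.inr (Or.inl rfl))) (v 0)
      rw [e0, emb_apply] at this
      exact this
    have e3 : (k' : Perm α) (v 3) = v 3 := by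
      have := apply_comm (hc _ (Or.inl rfl)) (v 2)
      rw [e2, emb_apply] at this
      exact this
    have e5 : (k' : Perm α) (v 5) = v 5 := by
      have := apply_comm (hc _ (Or.inr (Or.inr (Or.inl rfl)))) (v 4)
      rw [e4, emb_apply] at this
      exact this
    have e6 : (k' : Perm α) (v 6) = v 6 := by
      have := apply_comm (hc _ (Or.inr (Or.inr (Or.inr rfl)))) (v 4)
      rw [e4, emb_apply] at this
      exact this
    have e7 : (k' : Perm α) (v 7) = v 7 := by
      have := apply_comm (hc _ (Or.inr (Or.inr (Or.inl rfl)))) (v 6)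
      rw [e6, emb_apply] at this
      exact this
    have E : ∀ i : Fin 9, i < 8 → (k' : Perm α) (v i) = v i := by
      intro i hi
      have : i = 0 ∨ i = 1 ∨ i = 2 ∨ i = 3 ∨ i = 4 ∨ i = 5 ∨ i = 6 ∨ i = 7 := by
        revert i; decide
      rcases this with rfl | rfl | rfl | rfl | rfl | rfl | rfl | rfl <;> assumption
    by_contra hk1
    have hx : ∃ x, (k' : Perm α) x ≠ x := by
      by_contra hc'
      push Not at hc'
      exact hk1 (Subtype.ext (Equiv.ext hc'))
    obtain ⟨x, hx⟩ := hx
    have hxo : ∀ i : Fin 9, i < 8 → v i ≠ x := by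
      rintro i hi rfl
      exact hx (E i hi)
    have hyo : ∀ i : Fin 9, i < 8 → v i ≠ (k' : Perm α) x := by
      intro i hi e
      have := E i hi
      rw [e] at this
      exact hx ((k' : Perm α).injective this)
    apply hk1
    apply eq_one_of_fix x ((k' : Perm α) x)
    intro z hz1 hz2
    by_cases hz : ∀ i : Fin 9, i < 8 → v i ≠ z
    · exfalso
      have h1 := (mem_iff_of_comm (nodup4 (hne 0 1 (by decide)) (hxo 0 (by decide))
        (hz 0 (by decide)) (hxo 1 (by decide)) (hz 1 (by decide)) (Ne.symm hz1))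
        (ho x z hxo hz) x).2 (Or.inr (Or.inr (Or.inl rfl)))
      rcases h1 with e | e | e | e
      · exact hyo 0 (by decide) e.symm
      · exact hyo 1 (by decide) e.symm
      · exact hx e
      · exact hz2 e.symm
    · push Not at hz
      obtain ⟨i, hi, rfl⟩ := hz
      exact E i hi
  have ho : ∀ x y, (∀ i : Fin 9, i < 8 → v i ≠ x) →
      (∀ i : Fin 9, i < 8 → v i ≠ y) → dt (v 0) (v 1) x y * k = k * dt (v 0) (v 1) x y := by
    intro x y hx hy
    apply h
    · rw [emb_dt v (by decide) (by decide)]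
      apply dt_comm (Commute.refl _) (sw_comm (hne _ _ (by decide)) (hne _ _ (by decide))
        (hne _ _ (by decide)) (hne _ _ (by decide)))
      · exact sw_comm (hx 0 (by decide)).symm (hx 1 (by decide)).symm (hy 0 (by decide)).symm
          (hy 1 (by decide)).symm
      · exact sw_comm (hx 2 (by decide)).symm (hx 3 (by decide)).symm (hy 2 (by decide)).symm
          (hy 3 (by decide)).symm
    · rw [emb_dt v (by decide) (by decide)]
      apply dt_comm (sw_comm (hne _ _ (by decide)) (hne _ _ (by decide))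
        (hne _ _ (by decide)) (hne _ _ (by decide))) (sw_comm (hne _ _ (by decide)) (hne _ _ (by decide))
        (hne _ _ (by decide)) (hne _ _ (by decide)))
      · exact sw_comm (hx 4 (by decide)).symm (hx 5 (by decide)).symm (hy 4 (by decide)).symm
          (hy 5 (by decide)).symm
      · exact sw_comm (hx 6 (by decide)).symm (hx 7 (by decide)).symm (hy 6 (by decide)).symm
          (hy 7 (by decide)).symm
  have hv : ∀ m : alternatingGroup (Fin 9), (m = 1 ∨ m = dt 0 1 2 3 ∨ m = dt 4 5 6 7 ∨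
      m = dt 0 1 2 3 * dt 4 5 6 7) → (emb v m * k : Perm α) (v 0) = v 0 →
      (emb v m * k : Perm α) (v 4) = v 4 → k = emb v m := by
    intro m hm1 e0 e4
    have hmm : m * m = 1 := by rcases hm1 with rfl | rfl | rfl | rfl <;> decide
    apply inv_of_sq v hmm
    apply fin _ _ _ e0 e4
    · intro m' hm'
      have h1 : emb v m' * k = k * emb v m' := by
        rcases hm' with rfl | rfl | rfl | rfl <;> assumption
      have h2 : emb v m' * emb v m = emb v m * emb v m' := by
        rw [← map_mul, ← map_mul]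
        congr 1
        rcases hm' with rfl | rfl | rfl | rfl <;> rcases hm1 with rfl | rfl | rfl | rfl <;> decide
      rw [← mul_assoc, h2, mul_assoc, h1, mul_assoc]
    · intro x y hx hy
      have h1 := ho x y hx hy
      have h2 : dt (v 0) (v 1) x y * emb v m = emb v m * dt (v 0) (v 1) x y := by
        have a1 : dt (v 0) (v 1) x y * emb v (dt 0 1 2 3) = emb v (dt 0 1 2 3) * dt (v 0) (v 1) x y := by
          rw [emb_dt v (by decide) (by decide)]
          apply dt_comm (Commute.refl _) (sw_comm (hne _ _ (by decide)) (hne _ _ (by decide))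
            (hne _ _ (by decide)) (hne _ _ (by decide)))
          · exact sw_comm (hx 0 (by decide)).symm (hx 1 (by decide)).symm (hy 0 (by decide)).symm
              (hy 1 (by decide)).symm
          · exact sw_comm (hx 2 (by decide)).symm (hx 3 (by decide)).symm (hy 2 (by decide)).symm
              (hy 3 (by decide)).symm
        have a2 : dt (v 0) (v 1) x y * emb v (dt 4 5 6 7) = emb v (dt 4 5 6 7) * dt (v 0) (v 1) x y := by
          rw [emb_dt v (by decide) (by decide)]
          apply dt_comm (sw_comm (hne _ _ (by decide)) (hne _ _ (by decide))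
            (hne _ _ (by decide)) (hne _ _ (by decide))) (sw_comm (hne _ _ (by decide))
            (hne _ _ (by decide)) (hne _ _ (by decide)) (hne _ _ (by decide)))
          · exact sw_comm (hx 4 (by decide)).symm (hx 5 (by decide)).symm (hy 4 (by decide)).symm
              (hy 5 (by decide)).symm
          · exact sw_comm (hx 6 (by decide)).symm (hx 7 (by decide)).symm (hy 6 (by decide)).symm
              (hy 7 (by decide)).symm
        rcases hm1 with rfl | rfl | rfl | rfl
        · rw [map_one (emb v), mul_one, one_mul]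
        · exact a1
        · exact a2
        · rw [map_mul, ← mul_assoc, a1, mul_assoc, a2, mul_assoc]
      rw [← mul_assoc, h2, mul_assoc, h1, mul_assoc]
  rcases h0 with e0 | e0 <;> rcases h4 with e4 | e4
  · left
    have := hv 1 (Or.inl rfl) (by rw [map_one]; exact e0) (by rw [map_one]; exact e4)
    rwa [map_one] at this
  · right; right; left
    apply hv _ (Or.inr (Or.inr (Or.inl rfl)))
    · show (emb v _ : Perm α) ((k : Perm α) _) = _
      rw [e0, emb_apply]; rfl
    · show (emb v _ : Perm α) ((k : Perm α) _) = _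
      rw [e4, emb_apply]; rfl
  · right; left
    apply hv _ (Or.inr (Or.inl rfl))
    · show (emb v _ : Perm α) ((k : Perm α) _) = _
      rw [e0, emb_apply]; rfl
    · show (emb v _ : Perm α) ((k : Perm α) _) = _
      rw [e4, emb_apply]; rfl
  · right; right; right
    apply hv _ (Or.inr (Or.inr (Or.inr rfl)))
    · show (emb v _ : Perm α) ((k : Perm α) _) = _
      rw [e0, emb_apply]; rfl
    · show (emb v _ : Perm α) ((k : Perm α) _) = _
      rw [e4, emb_apply]; rfl

end Cfsg.Agent.OddHalf.D5.Dbl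

end

-- merged: Cfsg.Agent.OddHalf.D5.DblCentB
section

/-!
# ODD D5, `K = Alt(α)`, `|α| ≥ 9`: 3-cycles, `C(L_B)`, generation (helper845)
-/

set_option autoImplicit false
set_option linter.unusedSectionVars false

namespace Cfsg.Agent.OddHalf.D5.Dbl

open Equiv

variable {α : Type*} [Fintype α] [DecidableEq α]

theorem tc_apply {a b c : α} (h1 : a ≠ b) (h2 : b ≠ c) (h3 : a ≠ c) :
    (tc a b c : Perm α) a = b ∧ (tc a b c : Perm α) b = c ∧ (tc a b c : Perm α) c = a := by
  rw [tc_coe h1 h2]
  refine ⟨?_, ?_, ?_⟩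
  · rw [Perm.mul_apply, swap_apply_of_ne_of_ne h1 h3, swap_apply_left]
  · rw [Perm.mul_apply, swap_apply_left, swap_apply_of_ne_of_ne h3.symm h2.symm]
  · rw [Perm.mul_apply, swap_apply_right, swap_apply_right]

theorem tc_apply_of_ne {a b c x : α} (h1 : a ≠ b) (h2 : b ≠ c) (ha : x ≠ a) (hb : x ≠ b)
    (hc : x ≠ c) : (tc a b c : Perm α) x = x := by
  rw [tc_coe h1 h2, Perm.mul_apply, swap_apply_of_ne_of_ne hb hc, swap_apply_of_ne_of_ne ha hb]

theorem tc_cube {a b c : α} (h1 : a ≠ b) (h2 : b ≠ c) (h3 : a ≠ c) :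
    (tc a b c) * tc a b c * tc a b c = 1 := by
  obtain ⟨e1, e2, e3⟩ := tc_apply h1 h2 h3
  apply Subtype.ext
  apply Equiv.ext
  intro x
  show (tc a b c : Perm α) ((tc a b c : Perm α) ((tc a b c : Perm α) x)) = x
  by_cases hxa : x = a
  · rw [hxa, e1, e2, e3]
  by_cases hxb : x = b
  · rw [hxb, e2, e3, e1]
  by_cases hxc : x = c
  · rw [hxc, e3, e1, e2]
  have := tc_apply_of_ne h1 h2 hxa hxb hxc
  rw [this, this, this]

theorem moved_tc {a b c x : α} (h1 : a ≠ b) (h2 : b ≠ c) (h3 : a ≠ c) :
    (tc a b c : Perm α) x ≠ x ↔ (x = a ∨ x = b ∨ x = c) := by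
  obtain ⟨e1, e2, e3⟩ := tc_apply h1 h2 h3
  constructor
  · intro h
    by_contra hc
    simp only [not_or] at hc
    exact h (tc_apply_of_ne h1 h2 hc.1 hc.2.1 hc.2.2)
  · rintro (rfl | rfl | rfl)
    · rw [e1]; exact h1.symm
    · rw [e2]; exact h2.symm
    · rw [e3]; exact h3

/-- letters outside the first four -/
def Out4 (v : Fin 9 ↪ α) (x : α) : Prop := ∀ i : Fin 9, i < 4 → v i ≠ x

theorem out4_v (v : Fin 9 ↪ α) (i : Fin 9) (hi : 4 ≤ i) : Out4 v (v i) := by
  intro j hj
  apply v.injective.ne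
  rintro rfl
  exact absurd hi (not_le.2 hj)

/-- four letters outside the first four, different from `x` -/
theorem four_more (v : Fin 9 ↪ α) (x : α) : ∃ y z w w' : α, [y, z, w, w'].Nodup ∧
    x ≠ y ∧ x ≠ z ∧ x ≠ w ∧ x ≠ w' ∧ Out4 v y ∧ Out4 v z ∧ Out4 v w ∧ Out4 v w' := by
  have hne : ∀ i j : Fin 9, i ≠ j → v i ≠ v j := fun i j h => v.injective.ne h
  have o := out4_v v
  have nd : ∀ i j p q : Fin 9, [i, j, p, q].Nodup → [v i, v j, v p, v q].Nodup := by
    intro i j p q hd
    have : [v i, v j, v p, v q] = [i, j, p, q].map v := rfl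
    rw [this]
    exact hd.map v.injective
  have key : ∀ i j p q : Fin 9, [i, j, p, q].Nodup → (4 ≤ i ∧ 4 ≤ j ∧ 4 ≤ p ∧ 4 ≤ q) →
      (x ≠ v i ∧ x ≠ v j ∧ x ≠ v p ∧ x ≠ v q) → ∃ y z w w' : α, [y, z, w, w'].Nodup ∧
    x ≠ y ∧ x ≠ z ∧ x ≠ w ∧ x ≠ w' ∧ Out4 v y ∧ Out4 v z ∧ Out4 v w ∧ Out4 v w' := by
    intro i j p q h1 h2 h3
    exact ⟨v i, v j, v p, v q, nd _ _ _ _ h1, h3.1, h3.2.1, h3.2.2.1, h3.2.2.2, o _ h2.1, o _ h2.2.1,
      o _ h2.2.2.1, o _ h2.2.2.2⟩
  by_cases h4 : x = v 4
  · exact key 5 6 7 8 (by decide) (by decide) (by rw [h4]; exact ⟨hne _ _ (by decide),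
      hne _ _ (by decide), hne _ _ (by decide), hne _ _ (by decide)⟩)
  by_cases h5 : x = v 5
  · exact key 4 6 7 8 (by decide) (by decide) (by rw [h5]; exact ⟨hne _ _ (by decide),
      hne _ _ (by decide), hne _ _ (by decide), hne _ _ (by decide)⟩)
  by_cases h6 : x = v 6
  · exact key 4 5 7 8 (by decide) (by decide) (by rw [h6]; exact ⟨hne _ _ (by decide),
      hne _ _ (by decide), hne _ _ (by decide), hne _ _ (by decide)⟩)
  by_cases h7 : x = v 7
  · exact key 4 5 6 8 (by decide) (by decide) (by rw [h7]; exact ⟨hne _ _ (by decide),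
      hne _ _ (by decide), hne _ _ (by decide), hne _ _ (by decide)⟩)
  · exact key 4 5 6 7 (by decide) (by decide) ⟨h4, h5, h6, h7⟩

/-- if `k` commutes with all 3-cycles outside the first four letters, it fixes `x` as soon as the
3-cycles `(x y z)` with `y, z` outside commute with `k` -/
theorem fix_of_tc (v : Fin 9 ↪ α) {k : alternatingGroup α} {x : α}
    (h : ∀ y z, Out4 v y → Out4 v z → x ≠ y → x ≠ z → y ≠ z → tc x y z * k = k * tc x y z) :
    (k : Perm α) x = x := by
  obtain ⟨y, z, w, w', hd, hxy, hxz, hxw, hxw', hy, hz, hw, hw'⟩ := four_more v x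
  simp only [List.nodup_cons, List.mem_cons, List.not_mem_nil, or_false, not_or,
    List.nodup_nil, and_true, not_false_eq_true] at hd
  obtain ⟨⟨hyz, hyw, hyw'⟩, ⟨hzw, hzw'⟩, hww'⟩ := hd
  have A : ∀ p q, Out4 v p → Out4 v q → x ≠ p → x ≠ q → p ≠ q →
      ((k : Perm α) x = x ∨ (k : Perm α) x = p ∨ (k : Perm α) x = q) := by
    intro p q hp hq h1 h2 h3
    have h' := congrArg Subtype.val (h p q hp hq h1 h2 h3)
    rw [← moved_tc h1 h3 h2]
    exact (moved_iff h' x).2 ((moved_tc h1 h3 h2).2 (Or.inl rfl))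
  rcases A y z hy hz hxy hxz hyz with e | e | e
  · exact e
  · rcases A w w' hw hw' hxw hxw' hww' with f | f | f
    · exact f
    · exact absurd (e.symm.trans f) hyw
    · exact absurd (e.symm.trans f) hyw'
  · rcases A w w' hw hw' hxw hxw' hww' with f | f | f
    · exact f
    · exact absurd (e.symm.trans f) hzw
    · exact absurd (e.symm.trans f) hzw'

theorem lt4 {i : Fin 9} (hi : i < 4) : i = 0 ∨ i = 1 ∨ i = 2 ∨ i = 3 := by
  revert i; decide

theorem lt3 {i : Fin 9} (hi : i < 3) : i = 0 ∨ i = 1 ∨ i = 2 := by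
  revert i; decide

/-- an even permutation fixing `x ∉ {v 0 … v 3}` and `v 0, v 1` is trivial -/
theorem eq_one_of_out4 (v : Fin 9 ↪ α) {k : alternatingGroup α}
    (hf : ∀ x, Out4 v x → (k : Perm α) x = x) (h0 : (k : Perm α) (v 0) = v 0)
    (h1 : (k : Perm α) (v 1) = v 1) : k = 1 := by
  apply eq_one_of_fix (v 2) (v 3)
  intro x hx2 hx3
  by_cases hx : Out4 v x
  · exact hf x hx
  rw [Out4] at hx
  push Not at hx
  obtain ⟨i, hi, rfl⟩ := hx
  rcases lt4 hi with rfl | rfl | rfl | rfl
  · exact h0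
  · exact h1
  · exact absurd rfl hx2
  · exact absurd rfl hx3

theorem mul_emb_out4 (v : Fin 9 ↪ α) {k : alternatingGroup α} (hk : ∀ x, Out4 v x → (k : Perm α) x = x)
    {m : alternatingGroup (Fin 9)} (hm : ∀ i : Fin 9, 4 ≤ i → (m : Perm (Fin 9)) i = i) {x : α}
    (hx : Out4 v x) : (emb v m * k : Perm α) x = x := by
  show (emb v m : Perm α) ((k : Perm α) x) = x
  rw [hk x hx]
  by_cases hr : x ∈ Set.range v
  · obtain ⟨i, rfl⟩ := hr
    rw [emb_apply, hm]
    by_contra hc
    exact hx i (not_le.1 hc) rfl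
  · exact emb_notMem v _ hr

/-- where a permutation commuting with `(01)(23)` can move `v 0` -/
theorem four_cases (v : Fin 9 ↪ α) {k : alternatingGroup α}
    (hr : emb v (dt 0 1 2 3) * k = k * emb v (dt 0 1 2 3)) :
    ∃ m : alternatingGroup (Fin 9), (m = 1 ∨ m = dt 0 1 2 3 ∨ m = dt 0 2 1 3 ∨ m = dt 0 3 1 2) ∧
      (emb v m * k : Perm α) (v 0) = v 0 ∧ (emb v m * k : Perm α) (v 1) = v 1 := by
  have hne : ∀ i j : Fin 9, i ≠ j → v i ≠ v j := fun i j h => v.injective.ne h
  have h1 := (mem_iff_of_comm (k := k) (a := v 0) (b := v 1) (c := v 2) (d := v 3)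
    (nodup4 (hne _ _ (by decide)) (hne _ _ (by decide)) (hne _ _ (by decide)) (hne _ _ (by decide))
      (hne _ _ (by decide)) (hne _ _ (by decide)))
    (by rw [← emb_dt v (by decide) (by decide)]; exact hr) (v 0)).2 (Or.inl rfl)
  have key : ∀ m : alternatingGroup (Fin 9), m * dt 0 1 2 3 = dt 0 1 2 3 * m →
      (emb v m * k : Perm α) (v 0) = v 0 → (emb v m * k : Perm α) (v 1) = v 1 := by
    intro m hm e0
    have h2 : emb v (dt 0 1 2 3) * (emb v m * k) = (emb v m * k) * emb v (dt 0 1 2 3) := by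
      rw [← mul_assoc, ← map_mul, ← hm, map_mul, mul_assoc, hr, mul_assoc]
    have := apply_comm h2 (v 0)
    rw [emb_apply] at this
    have e : ((dt 0 1 2 3 : alternatingGroup (Fin 9)) : Perm (Fin 9)) 0 = 1 := by decide
    rw [e] at this
    rw [show (emb v m * k : Perm α) (v 1) = ((emb v m * k : alternatingGroup α) : Perm α) (v 1) from rfl,
      this]
    rw [show ((emb v m * k : alternatingGroup α) : Perm α) (v 0) = v 0 from e0, emb_apply, e]
  rcases h1 with e | e | e | e
  · refine ⟨1, Or.inl rfl, ?_, ?_⟩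
    · rw [map_one]; exact e
    · apply key 1 (by decide); rw [map_one]; exact e
  · have : (emb v (dt 0 1 2 3) * k : Perm α) (v 0) = v 0 := by
      show (emb v _ : Perm α) ((k : Perm α) _) = _
      rw [e, emb_apply]; rfl
    exact ⟨_, Or.inr (Or.inl rfl), this, key _ (by decide) this⟩
  · have : (emb v (dt 0 2 1 3) * k : Perm α) (v 0) = v 0 := by
      show (emb v _ : Perm α) ((k : Perm α) _) = _
      rw [e, emb_apply]; rfl
    exact ⟨_, Or.inr (Or.inr (Or.inl rfl)), this, key _ (by decide) this⟩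
  · have : (emb v (dt 0 3 1 2) * k : Perm α) (v 0) = v 0 := by
      show (emb v _ : Perm α) ((k : Perm α) _) = _
      rw [e, emb_apply]; rfl
    exact ⟨_, Or.inr (Or.inr (Or.inr rfl)), this, key _ (by decide) this⟩

/-- **C6**: `C(L_B) ∩ C(r) = V_B` -/
theorem cent_four (v : Fin 9 ↪ α) (k : alternatingGroup α)
    (h : ∀ l : alternatingGroup α, l * l * l = 1 → (∀ i : Fin 9, i < 4 → (l : Perm α) (v i) = v i) →
      l * k = k * l) (hr : emb v (dt 0 1 2 3) * k = k * emb v (dt 0 1 2 3)) :
    k = 1 ∨ k = emb v (dt 0 1 2 3) ∨ k = emb v (dt 0 2 1 3) ∨ k = emb v (dt 0 3 1 2) := by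
  have F : ∀ x, Out4 v x → (k : Perm α) x = x := by
    intro x hx
    apply fix_of_tc v
    intro y z hy hz hxy hxz hyz
    apply h _ (tc_cube hxy hyz hxz)
    intro i hi
    exact tc_apply_of_ne hxy hyz (hx i hi) (hy i hi) (hz i hi)
  obtain ⟨m, hm, e0, e1⟩ := four_cases v hr
  have hmm : m * m = 1 := by rcases hm with rfl | rfl | rfl | rfl <;> decide
  have hmo : ∀ i : Fin 9, 4 ≤ i → (m : Perm (Fin 9)) i = i := by
    rcases hm with rfl | rfl | rfl | rfl <;> decide
  have h1 : emb v m * k = 1 := eq_one_of_out4 v (fun x hx => mul_emb_out4 v F hmo hx) e0 e1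
  have h2 := inv_of_sq v hmm h1
  rcases hm with rfl | rfl | rfl | rfl
  · left; rw [h2, map_one]
  · exact Or.inr (Or.inl h2)
  · exact Or.inr (Or.inr (Or.inl h2))
  · exact Or.inr (Or.inr (Or.inr h2))

/-- **C5**: `C(Alt(Ω ∖ {0,1,2}))` consists of elements of order 1 or 3 -/
theorem cent_three (v : Fin 9 ↪ α) (k : alternatingGroup α)
    (h : ∀ l : alternatingGroup α, (∀ i : Fin 9, i < 3 → (l : Perm α) (v i) = v i) →
      l * k = k * l) : k * k * k = 1 := by
  have hne : ∀ i j : Fin 9, i ≠ j → v i ≠ v j := fun i j h => v.injective.ne h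
  have F : ∀ x, (∀ i : Fin 9, i < 3 → v i ≠ x) → (k : Perm α) x = x := by
    intro x hx
    apply fix_of_tc v
    intro y z hy hz hxy hxz hyz
    apply h
    intro i hi
    have hi4 : i < 4 := lt_trans hi (by decide)
    exact tc_apply_of_ne hxy hyz (hx i hi) (hy i hi4) (hz i hi4)
  have M : ∀ i : Fin 9, i < 3 → ((k : Perm α) (v i) = v 0 ∨ (k : Perm α) (v i) = v 1 ∨
      (k : Perm α) (v i) = v 2) := by
    intro i hi
    by_contra hc
    simp only [not_or] at hc
    have h1 : ∀ j : Fin 9, j < 3 → v j ≠ (k : Perm α) (v i) := by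
      intro j hj
      have : j = 0 ∨ j = 1 ∨ j = 2 := by revert j; decide
      rcases this with rfl | rfl | rfl
      · exact Ne.symm hc.1
      · exact Ne.symm hc.2.1
      · exact Ne.symm hc.2.2
    have h2 := (k : Perm α).injective (F _ h1)
    exact h1 i hi h2.symm
  have inj := (k : Perm α).injective
  have fin : (k : Perm α) (v 0) = v 0 → k = 1 := by
    intro e
    apply eq_one_of_fix (v 1) (v 2)
    intro x h1 h2
    by_cases hx : ∀ i : Fin 9, i < 3 → v i ≠ x
    · exact F x hx
    push Not at hx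
    obtain ⟨i, hi, rfl⟩ := hx
    rcases lt3 hi with rfl | rfl | rfl
    · exact e
    · exact absurd rfl h1
    · exact absurd rfl h2
  have fin' : ∀ i j l : Fin 9, i < 3 → j < 3 → l < 3 → i ≠ j → i ≠ l → j ≠ l →
      (k : Perm α) (v l) = v l → (k : Perm α) (v i) = v j → False := by
    intro i j l hi hj hl hij hil hjl e1 e2
    have : k = 1 := by
      apply eq_one_of_fix (v i) (v j)
      intro x h1 h2
      by_cases hx : ∀ i : Fin 9, i < 3 → v i ≠ x
      · exact F x hx
      push Not at hx
      obtain ⟨p, hp, rfl⟩ := hx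
      have : p = i ∨ p = j ∨ p = l := by
        clear e1 e2 h1 h2
        revert i j l p; decide
      rcases this with rfl | rfl | rfl
      · exact absurd rfl h1
      · exact absurd rfl h2
      · exact e1
    rw [this] at e2
    exact hne i j hij e2
  have cyc : ∀ i j : Fin 9, i < 3 → j < 3 → 0 ≠ i → 0 ≠ j → i ≠ j → (k : Perm α) (v 0) = v i →
      k * k * k = 1 := by
    intro i j hi hj h0i h0j hij e0
    -- `k` is the 3-cycle `0 → i → j → 0`
    have ej : (k : Perm α) (v i) = v j := by
      have hall : ∀ x : Fin 9, x < 3 → x = 0 ∨ x = i ∨ x = j := by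
        clear e0 fin fin'
        revert i j; decide
      have h1 : ∃ x : Fin 9, x < 3 ∧ (k : Perm α) (v i) = v x := by
        rcases M i hi with e | e | e
        · exact ⟨0, by decide, e⟩
        · exact ⟨1, by decide, e⟩
        · exact ⟨2, by decide, e⟩
      obtain ⟨x, hx, e⟩ := h1
      rcases hall x hx with rfl | rfl | rfl
      · -- then `j` is fixed
        exfalso
        have h2 : ∃ y : Fin 9, y < 3 ∧ (k : Perm α) (v j) = v y := by
          rcases M j hj with e | e | e
          · exact ⟨0, by decide, e⟩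
          · exact ⟨1, by decide, e⟩
          · exact ⟨2, by decide, e⟩
        obtain ⟨y, hy, f⟩ := h2
        rcases hall y hy with rfl | rfl | rfl
        · exact hne _ _ hij (inj (e.trans f.symm))
        · exact hne _ _ h0j (inj (e0.trans f.symm))
        · exact fin' 0 i y (by decide) hi hj h0i h0j hij f e0
      · exact absurd (inj (e0.trans e.symm)) (hne _ _ h0i)
      · exact e
    have e2 : (k : Perm α) (v j) = v 0 := by
      have h2 : ∃ y : Fin 9, y < 3 ∧ (k : Perm α) (v j) = v y := by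
        rcases M j hj with e | e | e
        · exact ⟨0, by decide, e⟩
        · exact ⟨1, by decide, e⟩
        · exact ⟨2, by decide, e⟩
      obtain ⟨y, hy, f⟩ := h2
      have hall : y = 0 ∨ y = i ∨ y = j := by
        clear e0 ej fin fin' f
        revert i j y; decide
      rcases hall with rfl | rfl | rfl
      · exact f
      · exact absurd (inj (e0.trans f.symm)) (hne _ _ h0j)
      · exact absurd (inj (ej.trans f.symm)) (hne _ _ hij)
    apply Subtype.ext
    apply Equiv.ext
    intro x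
    show (k : Perm α) ((k : Perm α) ((k : Perm α) x)) = x
    by_cases hx : ∀ i : Fin 9, i < 3 → v i ≠ x
    · rw [F x hx, F x hx, F x hx]
    push Not at hx
    obtain ⟨p, hp, rfl⟩ := hx
    have : p = 0 ∨ p = i ∨ p = j := by
      clear e0 ej e2 fin fin'
      revert i j p; decide
    rcases this with rfl | rfl | rfl
    · rw [e0, ej, e2]
    · rw [ej, e2, e0]
    · rw [e2, e0, ej]
  rcases M 0 (by decide) with e | e | e
  · rw [fin e, mul_one, mul_one]
  · exact cyc 1 2 (by decide) (by decide) (by decide) (by decide) (by decide) e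
  · exact cyc 2 1 (by decide) (by decide) (by decide) (by decide) (by decide) e

/-- **generation of `C_K(r)`** -/
theorem mem_of_comm (v : Fin 9 ↪ α) (H : Subgroup (alternatingGroup α))
    (h1 : emb v (dt 0 1 2 3) ∈ H) (h2 : emb v (dt 0 2 1 3) ∈ H) (h3 : emb v (dt 2 3 4 5) ∈ H)
    (hL : ∀ l : alternatingGroup α, (∀ i : Fin 9, i < 4 → (l : Perm α) (v i) = v i) → l ∈ H)
    (k : alternatingGroup α) (hr : emb v (dt 0 1 2 3) * k = k * emb v (dt 0 1 2 3)) : k ∈ H := by
  have hne : ∀ i j : Fin 9, i ≠ j → v i ≠ v j := fun i j h => v.injective.ne h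
  obtain ⟨m, hm, e0, e1⟩ := four_cases v hr
  have hmH : emb v m ∈ H := by
    rcases hm with rfl | rfl | rfl | rfl
    · rw [map_one]; exact H.one_mem
    · exact h1
    · exact h2
    · have : (dt 0 3 1 2 : alternatingGroup (Fin 9)) = dt 0 1 2 3 * dt 0 2 1 3 := by decide
      rw [this, map_mul]
      exact H.mul_mem h1 h2
  have hmc : m * dt 0 1 2 3 = dt 0 1 2 3 * m := by rcases hm with rfl | rfl | rfl | rfl <;> decide
  have hc : emb v (dt 0 1 2 3) * (emb v m * k) = (emb v m * k) * emb v (dt 0 1 2 3) := by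
    rw [← mul_assoc, ← map_mul, ← hmc, map_mul, mul_assoc, hr, mul_assoc]
  suffices hs : emb v m * k ∈ H by
    have := H.mul_mem (H.inv_mem hmH) hs
    rwa [inv_mul_cancel_left] at this
  have f0 : ((emb v m * k : alternatingGroup α) : Perm α) (v 0) = v 0 := e0
  have f1 : ((emb v m * k : alternatingGroup α) : Perm α) (v 1) = v 1 := e1
  generalize emb v m * k = k' at hc f0 f1 ⊢
  have h4 := (mem_iff_of_comm (k := k') (a := v 0) (b := v 1) (c := v 2) (d := v 3)
    (nodup4 (hne _ _ (by decide)) (hne _ _ (by decide)) (hne _ _ (by decide)) (hne _ _ (by decide))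
      (hne _ _ (by decide)) (hne _ _ (by decide)))
    (by rw [← emb_dt v (by decide) (by decide)]; exact hc) (v 2)).2 (Or.inr (Or.inr (Or.inl rfl)))
  have f23 : (k' : Perm α) (v 3) = (emb v (dt 0 1 2 3) : Perm α) ((k' : Perm α) (v 2)) := by
    have := apply_comm hc (v 2)
    rw [emb_apply] at this
    exact this
  have L4 : ∀ l : alternatingGroup α, (l : Perm α) (v 0) = v 0 → (l : Perm α) (v 1) = v 1 →
      (l : Perm α) (v 2) = v 2 → (l : Perm α) (v 3) = v 3 → l ∈ H := by
    intro l e0 e1 e2 e3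
    apply hL
    intro i hi
    have : i = 0 ∨ i = 1 ∨ i = 2 ∨ i = 3 := by revert i; decide
    rcases this with rfl | rfl | rfl | rfl <;> assumption
  rcases h4 with e | e | e | e
  · exact absurd ((k' : Perm α).injective (e.trans f0.symm)) (hne _ _ (by decide))
  · exact absurd ((k' : Perm α).injective (e.trans f1.symm)) (hne _ _ (by decide))
  · apply L4 _ f0 f1 e
    rw [f23, e, emb_apply]; rfl
  · have f3 : (k' : Perm α) (v 3) = v 2 := by rw [f23, e, emb_apply]; rfl
    have : emb v (dt 2 3 4 5) * k' ∈ H := by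
      apply L4
      · show (emb v _ : Perm α) ((k' : Perm α) _) = _
        rw [f0, emb_apply]; rfl
      · show (emb v _ : Perm α) ((k' : Perm α) _) = _
        rw [f1, emb_apply]; rfl
      · show (emb v _ : Perm α) ((k' : Perm α) _) = _
        rw [e, emb_apply]; rfl
      · show (emb v _ : Perm α) ((k' : Perm α) _) = _
        rw [f3, emb_apply]; rfl
    have := H.mul_mem (H.inv_mem h3) this
    rwa [inv_mul_cancel_left] at this

/-- even permutations fixing the letters outside `p` are products of 3-cycles -/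
theorem mem_of_fix (p : α → Prop) [DecidablePred p] (H : Subgroup (alternatingGroup α))
    (hH : ∀ l : alternatingGroup α, l * l * l = 1 → (∀ x, ¬ p x → (l : Perm α) x = x) → l ∈ H)
    (k : alternatingGroup α) (hk : ∀ x, ¬ p x → (k : Perm α) x = x) : k ∈ H := by
  have hk' : ∀ x, p ((k : Perm α) x) ↔ p x := by
    intro x
    constructor
    · intro h1
      by_contra h2
      rw [hk x h2] at h1
      exact h2 h1
    · intro h1
      by_contra h2
      have := (k : Perm α).injective (hk _ h2)
      rw [this] at h2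
      exact h2 h1
  set k0 : Perm {x // p x} := (k : Perm α).subtypePerm hk' with hk0
  have e0 : Perm.ofSubtype k0 = (k : Perm α) := by
    apply Perm.ofSubtype_subtypePerm
    intro x hx
    by_contra h
    exact hx (hk x h)
  have hs : Perm.sign k0 = 1 := by
    rw [← Perm.sign_ofSubtype, e0]
    exact k.2
  have h1 : k0 ∈ Subgroup.closure {σ : Perm {x // p x} | σ.IsThreeCycle} := by
    rw [Perm.closure_three_cycles_eq_alternating]
    exact hs
  have h2 : ∀ σ ∈ Subgroup.closure {σ : Perm {x // p x} | σ.IsThreeCycle},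
      ∃ l : alternatingGroup α, (l : Perm α) = Perm.ofSubtype σ ∧ l ∈ H := by
    intro σ hσ
    induction hσ using Subgroup.closure_induction with
    | mem σ hσ =>
      refine ⟨⟨Perm.ofSubtype σ, ?_⟩, rfl, ?_⟩
      · rw [Perm.mem_alternatingGroup, Perm.sign_ofSubtype]
        exact Perm.IsThreeCycle.sign hσ
      · apply hH
        · apply Subtype.ext
          show Perm.ofSubtype σ * Perm.ofSubtype σ * Perm.ofSubtype σ = 1
          rw [← map_mul, ← map_mul]
          have : σ ^ 3 = 1 := by
            have := Perm.IsThreeCycle.orderOf hσ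
            rw [← this]; exact pow_orderOf_eq_one σ
          rw [show σ * σ * σ = σ ^ 3 by rw [pow_succ, pow_two], this, map_one]
        · intro x hx
          exact Perm.ofSubtype_apply_of_not_mem σ hx
    | one => exact ⟨1, by rw [map_one]; rfl, H.one_mem⟩
    | mul a b _ _ ha hb =>
      obtain ⟨l, e, hl⟩ := ha
      obtain ⟨l', e', hl'⟩ := hb
      exact ⟨l * l', by rw [map_mul, ← e, ← e']; rfl, H.mul_mem hl hl'⟩
    | inv a _ ha =>
      obtain ⟨l, e, hl⟩ := ha
      exact ⟨l⁻¹, by rw [map_inv, ← e]; rfl, H.inv_mem hl⟩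
  obtain ⟨l, e, hl⟩ := h2 k0 h1
  have : l = k := Subtype.ext (e.trans e0)
  rwa [this] at hl

end Cfsg.Agent.OddHalf.D5.Dbl

end

-- merged: Cfsg.Agent.OddHalf.D5.DblBase
section

/-!
# ODD D5, `C_G(t) = ⟨t⟩ × Alt(α)`, `|α| ≥ 9`, `t ~ t r` for a root `r`: the elements `y_r` (helper845)

`cj x g = g⁻¹ x g`.
-/

set_option autoImplicit false
set_option linter.unusedSectionVars false

namespace Cfsg.Agent.OddHalf.D5.Dbl

open Equiv

section Cj

variable {G H : Type*} [Group G] [Group H]

/-- conjugation on the right -/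
def cj (x g : G) : G := g⁻¹ * x * g

theorem cj_mul (x y g : G) : cj (x * y) g = cj x g * cj y g := by simp only [cj]; group

theorem cj_comp (x g h : G) : cj x (g * h) = cj (cj x g) h := by simp only [cj]; group

theorem cj_inv (x g : G) : cj x⁻¹ g = (cj x g)⁻¹ := by simp only [cj]; group

theorem cj_one (x : G) : cj x 1 = x := by simp only [cj]; group

theorem one_cj (g : G) : cj 1 g = 1 := by simp only [cj]; group

theorem cj_cancel (x g : G) : cj (cj x g) g⁻¹ = x := by simp only [cj]; group

theorem cj_cancel' (x g : G) : cj (cj x g⁻¹) g = x := by simp only [cj]; group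

theorem cj_inj {x y g : G} (h : cj x g = cj y g) : x = y := by
  rw [← cj_cancel x g, h, cj_cancel]

theorem cj_self_iff {x g : G} : cj x g = x ↔ x * g = g * x := by
  rw [cj, mul_assoc, inv_mul_eq_iff_eq_mul]

theorem cj_eq {x g : G} (h : x * g = g * x) : cj x g = x := cj_self_iff.2 h

theorem cj_eq_iff {x y g : G} : cj x g = y ↔ x * g = g * y := by
  rw [cj, mul_assoc, inv_mul_eq_iff_eq_mul]

theorem map_cj (f : G →* H) (x g : G) : f (cj x g) = cj (f x) (f g) := by
  simp only [cj, map_mul, map_inv]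

theorem isConj_cj (x g : G) : IsConj x (cj x g) := by
  rw [isConj_iff]
  exact ⟨g⁻¹, by rw [cj, inv_inv]⟩

end Cj

variable {α : Type*} [Fintype α] [DecidableEq α] {G : Type*} [Group G]

/-- `C_G(t) = ⟨t⟩ × ι(Alt(α))`, `|α| ≥ 9`, and `t` is not conjugate into `ι(Alt(α))` -/
structure Cl (t : G) (ι : alternatingGroup α →* G) : Prop where
  h9 : 9 ≤ Fintype.card α
  tt : t * t = 1
  inj : Function.Injective ι
  comm : ∀ a, t * ι a = ι a * t
  cent : ∀ g, g * t = t * g → ∃ a, g = ι a ∨ g = t * ι a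
  ne : ∀ a, ι a ≠ t
  hK : ∀ a, ¬ IsConj t (ι a)

/-- the four elements of `V_B` -/
def VB (m : alternatingGroup (Fin 9)) : Prop :=
  m = 1 ∨ m = dt 0 1 2 3 ∨ m = dt 0 2 1 3 ∨ m = dt 0 3 1 2

/-- elements of `L_B` of order 1 or 3 -/
def LB (v : Fin 9 ↪ α) (l : alternatingGroup α) : Prop :=
  l * l * l = 1 ∧ ∀ i : Fin 9, i < 4 → (l : Perm α) (v i) = v i

/-- permutations of the first letters commute with permutations fixing these -/
theorem comm_fix (v : Fin 9 ↪ α) {l : alternatingGroup α}
    (hl : ∀ i : Fin 9, i < 4 → (l : Perm α) (v i) = v i) {m : alternatingGroup (Fin 9)}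
    (hm : ∀ i : Fin 9, 4 ≤ i → (m : Perm (Fin 9)) i = i) : emb v m * l = l * emb v m := by
  apply Subtype.ext
  apply Equiv.ext
  intro x
  show (emb v m : Perm α) ((l : Perm α) x) = (l : Perm α) ((emb v m : Perm α) x)
  have hfix : ∀ x, (∀ i : Fin 9, i < 4 → v i ≠ x) → (emb v m : Perm α) x = x := by
    intro x hx
    by_cases hr : x ∈ Set.range v
    · obtain ⟨i, rfl⟩ := hr
      rw [emb_apply, hm]
      by_contra hc
      exact hx i (not_le.1 hc) rfl
    · exact emb_notMem v _ hr
  by_cases hx : ∀ i : Fin 9, i < 4 → v i ≠ x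
  · rw [hfix x hx, hfix]
    intro i hi e
    rw [← hl i hi] at e
    exact hx i hi ((l : Perm α).injective e)
  · push Not at hx
    obtain ⟨i, hi, rfl⟩ := hx
    have : (m : Perm (Fin 9)) i < 4 := by
      by_contra hc
      have h1 := hm _ (not_lt.1 hc)
      have h2 := (m : Perm (Fin 9)).injective h1
      rw [h2] at hc
      exact hc hi
    rw [hl i hi, emb_apply, hl _ this]

/-- an element of order 3 commuting with `(01)(23)` fixes `0, 1, 2, 3` -/
theorem fix_of_cube (v : Fin 9 ↪ α) {a : alternatingGroup α} (h3 : a * a * a = 1)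
    (hr : emb v (dt 0 1 2 3) * a = a * emb v (dt 0 1 2 3)) :
    ∀ i : Fin 9, i < 4 → (a : Perm α) (v i) = v i := by
  have hne : ∀ i j : Fin 9, i ≠ j → v i ≠ v j := fun i j h => v.injective.ne h
  have hmem : ∀ i : Fin 4, ∃ j : Fin 4, (a : Perm α) (v (Fin.castLE (by decide) i)) =
      v (Fin.castLE (by decide) j) := by
    intro i
    have h1 := (mem_iff_of_comm (k := a) (a := v 0) (b := v 1) (c := v 2) (d := v 3)
      (nodup4 (hne _ _ (by decide)) (hne _ _ (by decide)) (hne _ _ (by decide)) (hne _ _ (by decide))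
        (hne _ _ (by decide)) (hne _ _ (by decide)))
      (by rw [← emb_dt v (by decide) (by decide)]; exact hr) (v (Fin.castLE (by decide) i))).2 (by
        have : i = 0 ∨ i = 1 ∨ i = 2 ∨ i = 3 := by revert i; decide
        rcases this with rfl | rfl | rfl | rfl
        · exact Or.inl rfl
        · exact Or.inr (Or.inl rfl)
        · exact Or.inr (Or.inr (Or.inl rfl))
        · exact Or.inr (Or.inr (Or.inr rfl)))
    rcases h1 with e | e | e | e
    · exact ⟨0, e⟩
    · exact ⟨1, e⟩
    · exact ⟨2, e⟩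
    · exact ⟨3, e⟩
  choose f hf using hmem
  have inj4 : ∀ i j : Fin 4, v (Fin.castLE (by decide) i) = v (Fin.castLE (by decide) j) → i = j := by
    intro i j h
    exact Fin.castLE_injective _ (v.injective h)
  have h1 : ∀ i : Fin 4, f (swap 0 1 (swap 2 3 i)) = swap 0 1 (swap 2 3 (f i)) := by
    intro i
    apply inj4
    have h2 := apply_comm hr (v (Fin.castLE (by decide) i))
    rw [emb_apply, hf, emb_apply] at h2
    have e : ∀ i : Fin 4, ((dt 0 1 2 3 : alternatingGroup (Fin 9)) : Perm (Fin 9))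
        (Fin.castLE (by decide) i) = Fin.castLE (by decide) (swap (0 : Fin 4) 1 (swap 2 3 i)) := by
      decide
    rw [e, e, hf] at h2
    exact h2
  have h2 : ∀ i : Fin 4, f (f (f i)) = i := by
    intro i
    apply inj4
    rw [← hf, ← hf, ← hf]
    exact congrArg (fun g : alternatingGroup α => (g : Perm α) (v (Fin.castLE (by decide) i))) h3
  have h4 : ∀ f : Fin 4 → Fin 4, (∀ i : Fin 4, f (swap 0 1 (swap 2 3 i)) = swap 0 1 (swap 2 3 (f i))) →
      (∀ i : Fin 4, f (f (f i)) = i) → ∀ i, f i = i := by decide +kernel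
  have h5 := h4 f h1 h2
  intro i hi
  have h6 : ∀ i : Fin 9, i < 4 → ∃ j : Fin 4, i = Fin.castLE (by decide) j := by decide
  obtain ⟨j, rfl⟩ := h6 i hi
  rw [hf, h5]

end Cfsg.Agent.OddHalf.D5.Dbl

end
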