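import Cfsg.Agent.OddHalf.D5.DblBase

-- merged: Cfsg.Agent.OddHalf.D5.DblY
section

/-!
# ODD D5 (helper845): existence of `y_r`

Input: `y0` with `t^{y0} = t r`, `r^{y0} = r`, `r = (01)(23)`.
Output: `y` centralising `C_K(r)` with `t^y = t r`, `y y^ρ y^{ρ²} = 1`.
-/

set_option autoImplicit false
set_option linter.unusedSectionVars false

namespace Cfsg.Agent.OddHalf.D5.Dbl

open Equiv

variable {α : Type*} [Fintype α] [DecidableEq α] {G : Type*} [Group G]

/-- the 3-cycle of `B` -/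
def rh : alternatingGroup (Fin 9) := tc 1 3 2

/-- centralises `T_B` -/
def PT (ι : alternatingGroup α →* G) (v : Fin 9 ↪ α) (x : G) : Prop :=
  ∀ l, LB v l → x * ι l = ι l * x

namespace Cl

variable {t : G} {ι : alternatingGroup α →* G} (C : Cl t ι) (v : Fin 9 ↪ α)

/-- `A₉ → G` -/
noncomputable def jj (ι : alternatingGroup α →* G) (v : Fin 9 ↪ α) : alternatingGroup (Fin 9) →* G :=
  ι.comp (emb v)

theorem jj_inj (C : Cl t ι) (v : Fin 9 ↪ α) : Function.Injective (jj ι v) := C.inj.comp (emb_injective v)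

theorem jj_comm (C : Cl t ι) (m) : t * jj ι v m = jj ι v m * t := C.comm _

theorem jj_ne (C : Cl t ι) (m) : jj ι v m ≠ t := C.ne _

theorem t_inv (C : Cl t ι) : t⁻¹ = t := inv_eq_of_mul_eq_one_left C.tt

theorem cj_t_jj (C : Cl t ι) (m) : cj t (jj ι v m) = t := cj_eq (C.jj_comm v m)

theorem cj_jj (m n : alternatingGroup (Fin 9)) : cj (jj ι v m) (jj ι v n) = jj ι v (cj m n) :=
  (map_cj _ _ _).symm

theorem ne_one_t (C : Cl t ι) : t ≠ 1 := fun e => C.ne 1 (by rw [map_one, e])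

/-- an element of `⟨t⟩ × K` with cube 1 lies in `K` -/
theorem cube_mem (C : Cl t ι) {x : G} (hx : x * t = t * x) (h3 : x * x * x = 1) :
    ∃ a : alternatingGroup α, x = ι a ∧ a * a * a = 1 := by
  obtain ⟨a, ha | ha⟩ := C.cent x hx
  · refine ⟨a, ha, ?_⟩
    apply C.inj
    rw [map_mul, map_mul, map_one, ← ha, h3]
  · exfalso
    apply C.ne (a * a * a)⁻¹
    have h1 : x * x * x = t * ι (a * a * a) := by
      rw [ha, map_mul, map_mul]
      have h2 : t * ι a * (t * ι a) = ι a * ι a := by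
        calc t * ι a * (t * ι a) = t * (ι a * t) * ι a := by group
          _ = t * (t * ι a) * ι a := by rw [C.comm]
          _ = (t * t) * (ι a * ι a) := by group
          _ = ι a * ι a := by rw [C.tt, one_mul]
      rw [h2]
      calc ι a * ι a * (t * ι a) = ι a * (ι a * t) * ι a := by group
        _ = ι a * (t * ι a) * ι a := by rw [C.comm]
        _ = (ι a * t) * ι a * ι a := by group
        _ = t * ι a * ι a * ι a := by rw [C.comm]
        _ = t * (ι a * ι a * ι a) := by group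
    rw [h3] at h1
    rw [map_inv]
    exact (eq_inv_of_mul_eq_one_left h1.symm).symm

theorem jj_PT {m : alternatingGroup (Fin 9)} (hm : ∀ i : Fin 9, 4 ≤ i → (m : Perm (Fin 9)) i = i) :
    PT ι v (jj ι v m) := by
  intro l hl
  show ι (emb v m) * ι l = ι l * ι (emb v m)
  rw [← map_mul, ← map_mul, comm_fix v hl.2 hm]

theorem PT_mul {x y : G} (hx : PT ι v x) (hy : PT ι v y) : PT ι v (x * y) := by
  intro l hl
  rw [mul_assoc, hy l hl, ← mul_assoc, hx l hl, mul_assoc]

theorem PT_inv {x : G} (hx : PT ι v x) : PT ι v x⁻¹ := by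
  intro l hl
  exact ((show Commute x (ι l) from hx l hl).inv_left).eq

/-- `x` centralising `t`, `r` and `T_B` lies in `⟨t⟩ × V_B` -/
theorem mem_EB (C : Cl t ι) {x : G} (hx : x * t = t * x)
    (hr : jj ι v (dt 0 1 2 3) * x = x * jj ι v (dt 0 1 2 3)) (hT : PT ι v x) :
    ∃ m, VB m ∧ (x = jj ι v m ∨ x = t * jj ι v m) := by
  have key : ∀ a : alternatingGroup α, (x = ι a ∨ x = t * ι a) → ∃ m, VB m ∧ a = emb v m := by
    intro a ha
    have h1 : ∀ b : alternatingGroup α, ι b * x = x * ι b → b * a = a * b := by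
      intro b hb
      apply C.inj
      rw [map_mul, map_mul]
      rcases ha with ha | ha
      · rw [← ha, hb]
      · rw [ha] at hb
        have : t * (ι b * ι a) = t * (ι a * ι b) := by
          calc t * (ι b * ι a) = (t * ι b) * ι a := by group
            _ = ι b * (t * ι a) := by rw [C.comm]; group
            _ = t * ι a * ι b := hb
            _ = t * (ι a * ι b) := by group
        exact mul_left_cancel this
    have h2 : emb v (dt 0 1 2 3) * a = a * emb v (dt 0 1 2 3) := h1 _ hr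
    have h3 : ∀ l : alternatingGroup α, l * l * l = 1 →
        (∀ i : Fin 9, i < 4 → (l : Perm α) (v i) = v i) → l * a = a * l := fun l h3 hl => h1 l ((hT l ⟨h3, hl⟩).symm)
    rcases cent_four v a h3 h2 with e | e | e | e
    · exact ⟨1, Or.inl rfl, by rw [map_one]; exact e⟩
    · exact ⟨_, Or.inr (Or.inl rfl), e⟩
    · exact ⟨_, Or.inr (Or.inr (Or.inl rfl)), e⟩
    · exact ⟨_, Or.inr (Or.inr (Or.inr rfl)), e⟩
  obtain ⟨a, ha⟩ := C.cent x hx
  obtain ⟨m, hm, rfl⟩ := key a ha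
  exact ⟨m, hm, ha⟩

theorem VB_cj {m : alternatingGroup (Fin 9)} (hm : VB m) : VB (cj m rh) := by
  rcases hm with rfl | rfl | rfl | rfl <;> simp only [VB] <;> decide

theorem VB_mul {m n : alternatingGroup (Fin 9)} (hm : VB m) (hn : VB n) : VB (m * n) := by
  rcases hm with rfl | rfl | rfl | rfl <;> rcases hn with rfl | rfl | rfl | rfl <;>
    simp only [VB] <;> decide

theorem VB_sq {m : alternatingGroup (Fin 9)} (hm : VB m) : m * m = 1 := by
  rcases hm with rfl | rfl | rfl | rfl <;> decide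

theorem VB_comm {m n : alternatingGroup (Fin 9)} (hm : VB m) (hn : VB n) : m * n = n * m := by
  rcases hm with rfl | rfl | rfl | rfl <;> rcases hn with rfl | rfl | rfl | rfl <;> decide

theorem VB_fix {m : alternatingGroup (Fin 9)} (hm : VB m) :
    ∀ i : Fin 9, 4 ≤ i → (m : Perm (Fin 9)) i = i := by
  rcases hm with rfl | rfl | rfl | rfl <;> decide

/-! ### Step 1 -/

/-- `y0` conjugates `T_B` into `T_B` -/
theorem claimA (C : Cl t ι) {y0 : G} (ht : cj t y0⁻¹ = t * jj ι v (dt 0 1 2 3))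
    (hr : cj (jj ι v (dt 0 1 2 3)) y0⁻¹ = jj ι v (dt 0 1 2 3)) {l : alternatingGroup α}
    (hl : LB v l) : ∃ l', LB v l' ∧ cj (ι l) y0 = ι l' := by
  have hlr : jj ι v (dt 0 1 2 3) * ι l = ι l * jj ι v (dt 0 1 2 3) := jj_PT v (by decide) l hl
  have h1 : cj (ι l) y0 * t = t * cj (ι l) y0 := by
    have : cj (ι l * (t * jj ι v (dt 0 1 2 3))) y0 = cj ((t * jj ι v (dt 0 1 2 3)) * ι l) y0 := by
      congr 1
      rw [mul_assoc, hlr, ← mul_assoc, ← mul_assoc, C.comm]
    rw [← ht, cj_mul, cj_mul, cj_cancel'] at this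
    exact this
  have h2 : cj (ι l) y0 * jj ι v (dt 0 1 2 3) = jj ι v (dt 0 1 2 3) * cj (ι l) y0 := by
    have : cj (ι l * jj ι v (dt 0 1 2 3)) y0 = cj (jj ι v (dt 0 1 2 3) * ι l) y0 := by rw [hlr]
    rw [cj_mul, cj_mul] at this
    have e : cj (jj ι v (dt 0 1 2 3)) y0 = jj ι v (dt 0 1 2 3) := by
      conv_lhs => rw [← hr]
      exact cj_cancel' _ _
    rwa [e] at this
  have h3 : cj (ι l) y0 * cj (ι l) y0 * cj (ι l) y0 = 1 := by
    rw [← cj_mul, ← cj_mul, ← map_mul, ← map_mul, hl.1, map_one, one_cj]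
  obtain ⟨a, ha, ha3⟩ := C.cube_mem h1 h3
  refine ⟨a, ⟨ha3, ?_⟩, ha⟩
  apply fix_of_cube v ha3
  apply C.inj
  rw [map_mul, map_mul, ← ha]
  exact h2.symm

theorem exists_y1 (C : Cl t ι) {y0 : G} (ht : cj t y0 = t * jj ι v (dt 0 1 2 3))
    (hr : cj (jj ι v (dt 0 1 2 3)) y0 = jj ι v (dt 0 1 2 3)) :
    ∃ y1 : G, cj t y1 = t * jj ι v (dt 0 1 2 3) ∧ PT ι v y1 ∧
      cj (jj ι v (dt 0 1 2 3)) y1 = jj ι v (dt 0 1 2 3) ∧
      cj (jj ι v (dt 0 2 1 3)) y1 = jj ι v (dt 0 2 1 3) := by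
  set j := jj ι v with hj
  have jm : ∀ a b, j a * j b = j (a * b) := fun a b => (map_mul _ _ _).symm
  have jc : ∀ a b, cj (j a) (j b) = j (cj a b) := fun a b => cj_jj v a b
  have tj : ∀ a, cj t (j a) = t := fun a => C.cj_t_jj v a
  -- inverse of y0
  have hr' : cj (j (dt 0 1 2 3)) y0⁻¹ = j (dt 0 1 2 3) := by
    conv_lhs => rw [← hr]
    exact cj_cancel _ _
  have ht' : cj t y0⁻¹ = t * j (dt 0 1 2 3) := by
    have h1 : cj (t * j (dt 0 1 2 3)) y0 = t := by
      rw [cj_mul, ht, hr, mul_assoc, jm, show (dt 0 1 2 3 : alternatingGroup (Fin 9)) * dt 0 1 2 3 = 1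
        by decide, map_one, mul_one]
    conv_lhs => rw [← h1]
    exact cj_cancel _ _
  have ht'' : cj t (y0⁻¹)⁻¹ = t * j (dt 0 1 2 3) := by rw [inv_inv]; exact ht
  have hr'' : cj (j (dt 0 1 2 3)) (y0⁻¹)⁻¹ = j (dt 0 1 2 3) := by rw [inv_inv]; exact hr
  -- PT is preserved by conjugation
  have hPT : ∀ x, PT ι v x → PT ι v (cj x y0) := by
    intro x hx l hl
    obtain ⟨l', hl', e⟩ := C.claimA v ht'' hr'' hl
    have h1 : cj (x * cj (ι l) y0⁻¹) y0 = cj (cj (ι l) y0⁻¹ * x) y0 := by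
      rw [e, hx l' hl']
    rw [cj_mul, cj_mul, cj_cancel'] at h1
    exact h1
  -- all `t v` are conjugate to `t`
  have hconj : ∀ m, VB m → m ≠ 1 → IsConj t (t * j m) := by
    have h0 : IsConj t (t * j (dt 0 1 2 3)) := ht ▸ isConj_cj t y0
    have step : ∀ m, IsConj t (t * j m) → IsConj t (t * j (cj m rh)) := by
      intro m hm
      have := isConj_cj (t * j m) (j rh)
      rw [cj_mul, tj, jc] at this
      exact hm.trans this
    intro m hm h1
    rcases hm with rfl | rfl | rfl | rfl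
    · exact absurd rfl h1
    · exact h0
    · have := step _ h0
      rwa [show cj (dt 0 1 2 3) rh = (dt 0 2 1 3 : alternatingGroup (Fin 9)) by decide] at this
    · have := step _ (step _ h0)
      rwa [show cj (cj (dt 0 1 2 3) rh) rh = (dt 0 3 1 2 : alternatingGroup (Fin 9)) by decide] at this
  -- the image of `s`
  have hs0 : cj (j (dt 0 2 1 3)) y0 = j (dt 0 2 1 3) ∨ cj (j (dt 0 2 1 3)) y0 = j (dt 0 3 1 2) := by
    have h1 : cj (j (dt 0 2 1 3)) y0 * t = t * cj (j (dt 0 2 1 3)) y0 := by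
      have : cj (j (dt 0 2 1 3) * cj t y0⁻¹) y0 = cj (cj t y0⁻¹ * j (dt 0 2 1 3)) y0 := by
        congr 1
        rw [ht', mul_assoc t, jm, ← mul_assoc, ← C.jj_comm, mul_assoc, jm, show
          (dt 0 2 1 3 : alternatingGroup (Fin 9)) * dt 0 1 2 3 = dt 0 1 2 3 * dt 0 2 1 3 by decide]
      rw [cj_mul, cj_mul, cj_cancel'] at this
      exact this
    have h2 : j (dt 0 1 2 3) * cj (j (dt 0 2 1 3)) y0 = cj (j (dt 0 2 1 3)) y0 * j (dt 0 1 2 3) := by
      have : cj (j (dt 0 1 2 3) * j (dt 0 2 1 3)) y0 = cj (j (dt 0 2 1 3) * j (dt 0 1 2 3)) y0 := by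
        rw [jm, jm, show
          (dt 0 2 1 3 : alternatingGroup (Fin 9)) * dt 0 1 2 3 = dt 0 1 2 3 * dt 0 2 1 3 by decide]
      rw [cj_mul, cj_mul, hr] at this
      exact this
    obtain ⟨m, hm, e | e⟩ := C.mem_EB v h1 h2 (hPT _ (jj_PT v (by decide)))
    · rcases hm with rfl | rfl | rfl | rfl
      · exfalso
        have h3 : cj (j (dt 0 2 1 3)) y0 = cj (j 1) y0 := by
          rw [e, map_one, one_cj]
        exact absurd (C.jj_inj v (cj_inj h3)) (by decide)
      · exfalso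
        have h3 : cj (j (dt 0 2 1 3)) y0 = cj (j (dt 0 1 2 3)) y0 := by
          rw [e]; exact hr.symm
        exact absurd (C.jj_inj v (cj_inj h3)) (by decide)
      · exact Or.inl e
      · exact Or.inr e
    · exfalso
      have h3 : IsConj t (cj (j (dt 0 2 1 3)) y0) := by
        by_cases h1 : m = 1
        · rw [e, h1, map_one, mul_one]
        · rw [e]; exact hconj m hm h1
      exact C.hK _ (h3.trans (isConj_cj _ _).symm)
  -- rho
  have hρPT : PT ι v (j rh) := jj_PT v (by decide)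
  have hρ1 := hPT _ hρPT
  have e_sr : (dt 0 1 2 3 : alternatingGroup (Fin 9)) * dt 0 2 1 3 = dt 0 3 1 2 := by decide
  have e_ru : (dt 0 1 2 3 : alternatingGroup (Fin 9)) * dt 0 3 1 2 = dt 0 2 1 3 := by decide
  have c1 : cj (dt 0 1 2 3) rh = (dt 0 2 1 3 : alternatingGroup (Fin 9)) := by decide
  have c2 : cj (dt 0 2 1 3) rh = (dt 0 3 1 2 : alternatingGroup (Fin 9)) := by decide
  have c3 : cj (dt 0 3 1 2) rh = (dt 0 1 2 3 : alternatingGroup (Fin 9)) := by decide
  have d1 : cj (dt 0 1 2 3) rh⁻¹ = (dt 0 3 1 2 : alternatingGroup (Fin 9)) := by decide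
  have d2 : cj (dt 0 2 1 3) rh⁻¹ = (dt 0 1 2 3 : alternatingGroup (Fin 9)) := by decide
  have d3 : cj (dt 0 3 1 2) rh⁻¹ = (dt 0 2 1 3 : alternatingGroup (Fin 9)) := by decide
  rcases hs0 with hs | hs
  · have hu : cj (j (dt 0 3 1 2)) y0 = j (dt 0 3 1 2) := by
      rw [← e_sr, ← jm, cj_mul, hr, hs]
    have hs' : cj (j (dt 0 2 1 3)) y0⁻¹ = j (dt 0 2 1 3) := by
      conv_lhs => rw [← hs]
      exact cj_cancel _ _
    refine ⟨j rh * (cj (j rh) y0 * j rh⁻¹) * j rh⁻¹, ?_, ?_, ?_, ?_⟩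
    · have e : cj (j rh) y0 = y0⁻¹ * j rh * y0 := rfl
      rw [e]
      simp only [cj_comp, cj_mul, tj, ht', ht, jc, c1, c2, c3, d1, d2, d3, hr, hs, hu, hr']
      rw [mul_assoc, jm]
      congr 2
      decide
    · exact PT_mul v (PT_mul v hρPT (PT_mul v hρ1 (jj_PT v (by decide)))) (jj_PT v (by decide))
    · have e : cj (j rh) y0 = y0⁻¹ * j rh * y0 := rfl
      rw [e]
      simp only [cj_comp, jc, c1, c2, c3, d1, d2, d3, hr, hs, hu, hr', hs']
    · have hu' : cj (j (dt 0 3 1 2)) y0⁻¹ = j (dt 0 3 1 2) := by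
        conv_lhs => rw [← hu]
        exact cj_cancel _ _
      have e : cj (j rh) y0 = y0⁻¹ * j rh * y0 := rfl
      rw [e]
      simp only [cj_comp, jc, c1, c2, c3, d1, d2, d3, hr, hs, hu, hr', hs', hu']
  · have hu : cj (j (dt 0 3 1 2)) y0 = j (dt 0 2 1 3) := by
      rw [← e_sr, ← jm, cj_mul, hr, hs, jm, e_ru]
    have hs' : cj (j (dt 0 2 1 3)) y0⁻¹ = j (dt 0 3 1 2) := by
      conv_lhs => rw [← hu]
      exact cj_cancel _ _
    have hu' : cj (j (dt 0 3 1 2)) y0⁻¹ = j (dt 0 2 1 3) := by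
      conv_lhs => rw [← hs]
      exact cj_cancel _ _
    refine ⟨j rh⁻¹ * (cj (j rh) y0 * j rh) * j rh, ?_, ?_, ?_, ?_⟩
    · have e : cj (j rh) y0 = y0⁻¹ * j rh * y0 := rfl
      rw [e]
      simp only [cj_comp, cj_mul, tj, ht', ht, jc, c1, c2, c3, d1, d2, d3, hr, hs, hu, hr']
      rw [mul_assoc, jm]
      congr 2
      decide
    · exact PT_mul v (PT_mul v (jj_PT v (by decide)) (PT_mul v hρ1 hρPT)) hρPT
    · have e : cj (j rh) y0 = y0⁻¹ * j rh * y0 := rfl
      rw [e]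
      simp only [cj_comp, jc, c1, c2, c3, d1, d2, d3, hr, hs, hu, hr', hs', hu']
    · have e : cj (j rh) y0 = y0⁻¹ * j rh * y0 := rfl
      rw [e]
      simp only [cj_comp, jc, c1, c2, c3, d1, d2, d3, hr, hs, hu, hr', hs', hu']

/-! ### Step 2 -/

/-- centralises `V_B` and `T_B` -/
structure PV (ι : alternatingGroup α →* G) (v : Fin 9 ↪ α) (x : G) : Prop where
  T : PT ι v x
  V : ∀ m, VB m → x * jj ι v m = jj ι v m * x

theorem PV.mul {x y : G} (hx : PV ι v x) (hy : PV ι v y) : PV ι v (x * y) :=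
  ⟨PT_mul v hx.T hy.T, fun m hm => by rw [mul_assoc, hy.V m hm, ← mul_assoc, hx.V m hm, mul_assoc]⟩

theorem PV.inv {x : G} (hx : PV ι v x) : PV ι v x⁻¹ :=
  ⟨PT_inv v hx.T, fun m hm => ((show Commute x (jj ι v m) from hx.V m hm).inv_left).eq⟩

theorem PV.cjrh {x : G} (hx : PV ι v x) : PV ι v (cj x (jj ι v rh)) := by
  constructor
  · exact PT_mul v (PT_mul v (PT_inv v (jj_PT v (by decide))) hx.T) (jj_PT v (by decide))
  · intro m hm
    have h1 : VB (cj m rh⁻¹) := by
      rcases hm with rfl | rfl | rfl | rfl <;> simp only [VB] <;> decide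
    have h2 := congrArg (fun z => cj z (jj ι v rh)) (hx.V _ h1)
    simp only [cj_mul, cj_jj, cj_cancel'] at h2
    exact h2

theorem PV.jm {m : alternatingGroup (Fin 9)} (hm : VB m) : PV ι v (jj ι v m) :=
  ⟨jj_PT v (VB_fix hm), fun n hn => by rw [← map_mul, ← map_mul, VB_comm hm hn]⟩

/-- squares -/
theorem sq_mem (C : Cl t ι) {x : G} (hx : PV ι v x) {k : alternatingGroup (Fin 9)} (hk : VB k)
    (hk1 : k ≠ 1) (ht : cj t x = t * jj ι v k) : ∃ m, VB m ∧ x * x = jj ι v m := by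
  have h1 : cj t (x * x) = t := by
    rw [cj_comp, ht, cj_mul, ht, cj_eq (hx.V k hk).symm, mul_assoc, ← map_mul, VB_sq hk, map_one,
      mul_one]
  have h2 := cj_self_iff.1 h1
  obtain ⟨m, hm, e | e⟩ := C.mem_EB v h2.symm ((hx.mul v hx).V _ (Or.inr (Or.inl rfl))).symm
    (hx.mul v hx).T
  · exact ⟨m, hm, e⟩
  · exfalso
    have h3 : cj (x * x) x = x * x := cj_eq (by group)
    rw [e, cj_mul, ht, cj_eq (hx.V m hm).symm] at h3
    have h4 : jj ι v k = 1 := by
      have := mul_right_cancel h3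
      exact mul_eq_left.1 this
    exact hk1 (C.jj_inj v (h4.trans (map_one _).symm))

end Cl

end Cfsg.Agent.OddHalf.D5.Dbl

end

-- merged: Cfsg.Agent.OddHalf.D5.DblYb
section

/-!
# ODD D5 (helper845): existence of `y_r`, second step
-/

set_option autoImplicit false
set_option linter.unusedSectionVars false

namespace Cfsg.Agent.OddHalf.D5.Dbl

open Equiv

theorem cj_cj {G : Type*} [Group G] (x y g : G) : cj (cj x y) g = cj (cj x g) (cj y g) := by
  simp only [cj]; group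

variable {α : Type*} [Fintype α] [DecidableEq α] {G : Type*} [Group G]

namespace Cl

variable {t : G} {ι : alternatingGroup α →* G} (C : Cl t ι) (v : Fin 9 ↪ α)

/-- product of three conjugates with a `t` -/
theorem no_t (C : Cl t ι) {w w' w'' : G} {k r1 r2 r3 : alternatingGroup (Fin 9)}
    (h : w * w' * w'' = 1) (hc : w' * w'' = w'' * w')
    (hw : ∀ m, VB m → w * jj ι v m = jj ι v m * w) (hw' : ∀ m, VB m → w' * jj ι v m = jj ι v m * w')
    (hw'' : ∀ m, VB m → w'' * jj ι v m = jj ι v m * w'') (k1 : VB r1) (k2 : VB r2) (k3 : VB r3)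
    (hk : VB k) (ht'' : cj t w'' = t * jj ι v k)
    (e : w * (t * jj ι v r1) * (w'' * (t * jj ι v r2)) * (w' * (t * jj ι v r3)) = 1) : False := by
  have e1 : t * w'' = w'' * (t * jj ι v k) := cj_eq_iff.1 ht''
  have tc : ∀ m, jj ι v m * t = t * jj ι v m := fun m => (C.jj_comm v m).symm
  apply C.jj_ne v (k * r1 * r2 * r3)⁻¹
  have h1 : w * (t * jj ι v r1) * (w'' * (t * jj ι v r2)) * (w' * (t * jj ι v r3)) =
      t * jj ι v (k * r1 * r2 * r3) := by
    calc w * (t * jj ι v r1) * (w'' * (t * jj ι v r2)) * (w' * (t * jj ι v r3))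
        = w * t * (jj ι v r1 * w'') * t * jj ι v r2 * w' * t * jj ι v r3 := by group
      _ = w * t * (w'' * jj ι v r1) * t * jj ι v r2 * w' * t * jj ι v r3 := by rw [hw'' _ k1]
      _ = w * (t * w'') * (jj ι v r1 * t) * jj ι v r2 * w' * t * jj ι v r3 := by group
      _ = w * (w'' * (t * jj ι v k)) * (t * jj ι v r1) * jj ι v r2 * w' * t * jj ι v r3 := by
          rw [e1, tc]
      _ = w * w'' * (t * (jj ι v k * t)) * jj ι v r1 * jj ι v r2 * w' * t * jj ι v r3 := by group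
      _ = w * w'' * jj ι v k * jj ι v r1 * (jj ι v r2 * w') * t * jj ι v r3 := by
          rw [tc, ← mul_assoc t t, C.tt, one_mul]; group
      _ = w * w'' * jj ι v k * jj ι v r1 * (w' * jj ι v r2) * t * jj ι v r3 := by rw [hw' _ k2]
      _ = w * w'' * jj ι v k * (jj ι v r1 * w') * jj ι v r2 * t * jj ι v r3 := by group
      _ = w * w'' * jj ι v k * (w' * jj ι v r1) * jj ι v r2 * t * jj ι v r3 := by rw [hw' _ k1]
      _ = w * w'' * (jj ι v k * w') * jj ι v r1 * jj ι v r2 * t * jj ι v r3 := by group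
      _ = w * w'' * (w' * jj ι v k) * jj ι v r1 * jj ι v r2 * t * jj ι v r3 := by rw [hw' _ hk]
      _ = w * (w'' * w') * (jj ι v k * jj ι v r1 * jj ι v r2 * t) * jj ι v r3 := by group
      _ = w * (w' * w'') * (jj ι v (k * r1 * r2) * t) * jj ι v r3 := by
          rw [hc, map_mul, map_mul]
      _ = (w * w' * w'') * (t * (jj ι v (k * r1 * r2) * jj ι v r3)) := by rw [tc]; group
      _ = t * jj ι v (k * r1 * r2 * r3) := by rw [h, one_mul, ← map_mul]
  rw [e] at h1
  rw [map_inv]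
  exact (eq_inv_of_mul_eq_one_left h1.symm).symm

theorem exists_y (C : Cl t ι) {y1 : G} (ht : cj t y1 = t * jj ι v (dt 0 1 2 3)) (hP : PV ι v y1) :
    ∃ y : G, cj t y = t * jj ι v (dt 0 1 2 3) ∧
      (∀ k : alternatingGroup α, emb v (dt 0 1 2 3) * k = k * emb v (dt 0 1 2 3) →
        y * ι k = ι k * y) ∧
      y * cj y (jj ι v rh) * cj (cj y (jj ι v rh)) (jj ι v rh) = 1 := by
  set j := jj ι v with hj
  have jm : ∀ a b, j a * j b = j (a * b) := fun a b => (map_mul _ _ _).symm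
  have jc : ∀ a b, cj (j a) (j b) = j (cj a b) := fun a b => cj_jj v a b
  have tj : ∀ a, cj t (j a) = t := fun a => C.cj_t_jj v a
  have c1 : cj (dt 0 1 2 3) rh = (dt 0 2 1 3 : alternatingGroup (Fin 9)) := by decide
  have c2 : cj (dt 0 2 1 3) rh = (dt 0 3 1 2 : alternatingGroup (Fin 9)) := by decide
  have c3 : cj (dt 0 3 1 2) rh = (dt 0 1 2 3 : alternatingGroup (Fin 9)) := by decide
  have Vr : VB (dt 0 1 2 3) := Or.inr (Or.inl rfl)
  have Vs : VB (dt 0 2 1 3) := Or.inr (Or.inr (Or.inl rfl))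
  have Vu : VB (dt 0 3 1 2) := Or.inr (Or.inr (Or.inr rfl))
  have rot : ∀ x m, cj t x = t * j m → cj t (cj x (j rh)) = t * j (cj m rh) := by
    intro x m h
    have h1 : cj t (cj x (j rh)) = cj (cj t (j rh)) (cj x (j rh)) := by rw [tj]
    rw [h1, ← cj_cj, h, cj_mul, tj, jc]
  have r3 : ∀ x, cj (cj (cj x (j rh)) (j rh)) (j rh) = x := by
    intro x
    rw [← cj_comp, ← cj_comp, jm, jm, show rh * (rh * rh) = (1 : alternatingGroup (Fin 9))
      by decide, map_one, cj_one]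
  -- the three conjugates
  set a1 := cj y1 (j rh) with ha1
  set a2 := cj a1 (j rh) with ha2
  have ha0 : cj a2 (j rh) = y1 := r3 y1
  have P1 : PV ι v a1 := hP.cjrh v
  have P2 : PV ι v a2 := P1.cjrh v
  have t1 : cj t a1 = t * j (dt 0 2 1 3) := by rw [ha1, rot _ _ ht, c1]
  have t2 : cj t a2 = t * j (dt 0 3 1 2) := by rw [ha2, rot _ _ t1, c2]
  have inv_t : ∀ x m, VB m → PV ι v x → cj t x = t * j m → cj t x⁻¹ = t * j m := by
    intro x m hm hx h
    have h1 : cj (t * j m) x = t := by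
      rw [cj_mul, h, cj_eq (hx.V m hm).symm, mul_assoc, jm, VB_sq hm, map_one, mul_one]
    conv_lhs => rw [← h1]
    exact cj_cancel _ _
  have mul_t : ∀ x y m n, VB m → PV ι v y → cj t x = t * j m → cj t y = t * j n →
      cj t (x * y) = t * j (n * m) := by
    intro x y m n hm hy h1 h2
    rw [cj_comp, h1, cj_mul, h2, cj_eq (hy.V m hm).symm, mul_assoc, jm]
  set w := a1⁻¹ * a2 with hw
  set w' := a2⁻¹ * y1 with hw'
  set w'' := y1⁻¹ * a1 with hw''
  have Pw : PV ι v w := (P1.inv v).mul v P2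
  have Pw' : PV ι v w' := (P2.inv v).mul v hP
  have Pw'' : PV ι v w'' := (hP.inv v).mul v P1
  have cw : cj w (j rh) = w' := by rw [hw, cj_mul, cj_inv, ← ha2, ha0]
  have cw' : cj w' (j rh) = w'' := by rw [hw', cj_mul, cj_inv, ha0, ← ha1]
  have cw'' : cj w'' (j rh) = w := by rw [hw'', cj_mul, cj_inv, ← ha1, ← ha2]
  have tw : cj t w = t * j (dt 0 1 2 3) := by
    rw [hw, mul_t _ _ _ _ Vs P2 (inv_t _ _ Vs P1 t1) t2]
    congr 2
    decide
  have tw' : cj t w' = t * j (dt 0 2 1 3) := by rw [← cw, rot _ _ tw, c1]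
  have tw'' : cj t w'' = t * j (dt 0 3 1 2) := by rw [← cw', rot _ _ tw', c2]
  have www : w * w' * w'' = 1 := by rw [hw, hw', hw'']; group
  clear_value w w' w''
  -- squares
  obtain ⟨m1, hm1, e1⟩ := C.sq_mem v Pw Vr (by decide) tw
  obtain ⟨m2, hm2, e2⟩ := C.sq_mem v Pw' Vs (by decide) tw'
  obtain ⟨m3, hm3, e3⟩ := C.sq_mem v (Pw.mul v Pw') (k := dt 0 2 1 3 * dt 0 1 2 3)
    (VB_mul Vs Vr) (by decide) (mul_t _ _ _ _ Vr Pw' tw tw')
  -- `w' w = w w' e`
  have comm1 : w' * w = w * w' * j (m1 * m3 * m2) := by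
    have h1 : w⁻¹ = w * j m1 := by
      rw [inv_eq_iff_mul_eq_one, ← mul_assoc, e1, jm, VB_sq hm1, map_one]
    have h2 : w'⁻¹ = j m2 * w' := by
      rw [inv_eq_iff_mul_eq_one, ← Pw'.V m2 hm2, ← mul_assoc, e2, jm, VB_sq hm2, map_one]
    calc w' * w = w⁻¹ * (w * w' * (w * w')) * w'⁻¹ := by group
      _ = w * j m1 * j m3 * (j m2 * w') := by rw [e3, h1, h2]
      _ = w * (j (m1 * m3 * m2) * w') := by rw [← jm, ← jm]; group
      _ = w * (w' * j (m1 * m3 * m2)) := by rw [Pw'.V _ (VB_mul (VB_mul hm1 hm3) hm2)]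
      _ = w * w' * j (m1 * m3 * m2) := by group
  have hmm := VB_mul (VB_mul hm1 hm3) hm2
  generalize m1 * m3 * m2 = e at comm1 hmm
  have comm2 : w'' * w' = w' * w'' * j (cj e rh) := by
    have := congrArg (fun z => cj z (j rh)) comm1
    simp only [cj_mul, cw, cw', jc] at this
    exact this
  have he : e = cj e rh := by
    have h1 : w'' = w'⁻¹ * w⁻¹ := by
      rw [← mul_inv_rev]; exact (eq_inv_of_mul_eq_one_right www)
    rw [h1] at comm2
    have h2 : w'⁻¹ * w⁻¹ * w' = w⁻¹ * j (cj e rh) := by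
      rw [comm2]; group
    have h3 : w' * w = w * w' * j (cj e rh) := by
      calc w' * w = (w * w') * (w'⁻¹ * w⁻¹ * w') * w := by group
        _ = (w * w') * (w⁻¹ * j (cj e rh)) * w := by rw [h2]
        _ = (w * w') * w⁻¹ * (j (cj e rh) * w) := by group
        _ = (w * w') * w⁻¹ * (w * j (cj e rh)) := by rw [Pw.V _ (VB_cj hmm)]
        _ = w * w' * j (cj e rh) := by group
    rw [comm1] at h3
    exact C.jj_inj v (mul_left_cancel h3)
  have he1 : e = 1 := by
    rcases hmm with rfl | rfl | rfl | rfl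
    · rfl
    · exact absurd he (by decide)
    · exact absurd he (by decide)
    · exact absurd he (by decide)
  subst he1
  rw [map_one, mul_one] at comm1
  rw [one_cj, map_one, mul_one] at comm2
  -- the action of `σ`
  set sg : alternatingGroup (Fin 9) := dt 2 3 4 5 with hsg
  have sgLB : ∀ l, LB v l → LB v (emb v sg * l * (emb v sg)⁻¹) := by
    intro l hl
    refine ⟨?_, ?_⟩
    · calc emb v sg * l * (emb v sg)⁻¹ * (emb v sg * l * (emb v sg)⁻¹) *
          (emb v sg * l * (emb v sg)⁻¹) = emb v sg * (l * l * l) * (emb v sg)⁻¹ := by group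
        _ = 1 := by rw [hl.1]; group
    · intro i hi
      rw [← map_inv]
      show (emb v sg : Perm α) ((l : Perm α) ((emb v sg⁻¹ : Perm α) (v i))) = v i
      rw [emb_apply, hl.2 _ ((show ∀ i : Fin 9, i < 4 → ((sg⁻¹ : alternatingGroup (Fin 9)) :
        Perm (Fin 9)) i < 4 by decide) i hi), emb_apply]
      congr 1
      exact (show ∀ i : Fin 9, (sg : Perm (Fin 9)) (((sg⁻¹ : alternatingGroup (Fin 9)) :
        Perm (Fin 9)) i) = i by decide) i
  have sgPV : ∀ x, PV ι v x → PV ι v (cj x (j sg)) := by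
    intro x hx
    constructor
    · intro l hl
      have h1 := hx.T _ (sgLB l hl)
      have h2 : ι (emb v sg * l * (emb v sg)⁻¹) = cj (ι l) (j sg)⁻¹ := by
        rw [map_mul, map_mul, map_inv, cj, inv_inv]; rfl
      rw [h2] at h1
      have h3 := congrArg (fun z => cj z (j sg)) h1
      simp only [cj_mul, cj_cancel'] at h3
      exact h3
    · intro m hm
      have h1 : VB (cj m sg⁻¹) := by
        rcases hm with rfl | rfl | rfl | rfl <;> simp only [VB] <;> decide
      have h2 := congrArg (fun z => cj z (j sg)) (hx.V _ h1)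
      have h3 : cj (j (cj m sg⁻¹)) (j sg) = j m := by rw [jc, cj_cancel']
      simp only [cj_mul] at h2
      rw [← hj, h3] at h2
      exact h2
  have sgt : ∀ x m, cj t x = t * j m → cj t (cj x (j sg)) = t * j (cj m sg) := by
    intro x m h
    have h1 : cj t (cj x (j sg)) = cj (cj t (j sg)) (cj x (j sg)) := by rw [tj]
    rw [h1, ← cj_cj, h, cj_mul, tj, jc]
  have tws : cj t (cj w (j sg)) = t * j (dt 0 1 2 3) := by
    rw [sgt _ _ tw]
    congr 2
    decide
  have Pws := sgPV w Pw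
  -- `d`
  obtain ⟨k, hk, hd⟩ : ∃ k, VB k ∧ cj w (j sg) = w * j k := by
    have h1 : cj t (w⁻¹ * cj w (j sg)) = t := by
      rw [mul_t _ _ _ _ Vr Pws (inv_t _ _ Vr Pw tw) tws, show
        (dt 0 1 2 3 : alternatingGroup (Fin 9)) * dt 0 1 2 3 = 1 by decide, map_one, mul_one]
    have Pd : PV ι v (w⁻¹ * cj w (j sg)) := (Pw.inv v).mul v Pws
    obtain ⟨k, hk, e | e⟩ := C.mem_EB v (cj_self_iff.1 h1).symm (Pd.V _ Vr).symm Pd.T
    · exact ⟨k, hk, by rw [← hj] at e; rw [← e]; group⟩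
    · exfalso
      have hd : cj w (j sg) = w * (t * j k) := by rw [← hj] at e; rw [← e]; group
      have h2 : cj w' (j sg) = w'' * (t * j (cj k rh⁻¹)) := by
        have h3 : cj w' (j sg) = cj (cj w (j sg)) (j rh⁻¹) := by
          rw [← cw, ← cj_comp, ← cj_comp, jm, jm, show rh * sg = sg * rh⁻¹ by decide]
        have h4 : cj w (j rh⁻¹) = w'' := by
          rw [← cw'', map_inv]; exact cj_cancel _ _
        rw [h3, hd, cj_mul, cj_mul, h4, tj, jc]
      have h5 : cj w'' (j sg) = w' * (t * j (cj k rh)) := by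
        have h3 : cj w'' (j sg) = cj (cj w (j sg)) (j rh) := by
          have h4 : w'' = cj w (j rh⁻¹) := by
            rw [← cw'', map_inv]; exact (cj_cancel _ _).symm
          rw [h4, ← cj_comp, ← cj_comp, jm, jm, show rh⁻¹ * sg = sg * rh by decide]
        rw [h3, hd, cj_mul, cj_mul, cw, tj, jc]
      have h6 : w * (t * j k) * (w'' * (t * j (cj k rh⁻¹))) * (w' * (t * j (cj k rh))) = 1 := by
        rw [← hd, ← h2, ← h5, ← cj_mul, ← cj_mul, www, one_cj]
      have k2 : VB (cj k rh⁻¹) := by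
        rcases hk with rfl | rfl | rfl | rfl <;> simp only [VB] <;> decide
      exact C.no_t v www comm2.symm Pw.V Pw'.V Pw''.V hk k2 (VB_cj hk) Vu tw'' h6
  have hk1 : k = 1 ∨ k = dt 0 1 2 3 := by
    have h1 : cj (cj w (j sg)) (j sg) = w := by
      rw [← cj_comp, jm, show sg * sg = 1 by decide, map_one, cj_one]
    rw [hd, cj_mul, hd, jc, mul_assoc, jm] at h1
    have h2 : k * cj k sg = 1 := C.jj_inj v ((mul_eq_left.1 h1).trans (map_one _).symm)
    rcases hk with rfl | rfl | rfl | rfl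
    · exact Or.inl rfl
    · exact Or.inr rfl
    · exact absurd h2 (by decide)
    · exact absurd h2 (by decide)
  -- the final element
  have fin : ∀ m, VB m → cj (w * j m) (j sg) = w * j m →
      ∃ y : G, cj t y = t * j (dt 0 1 2 3) ∧
      (∀ k : alternatingGroup α, emb v (dt 0 1 2 3) * k = k * emb v (dt 0 1 2 3) →
        y * ι k = ι k * y) ∧
      y * cj y (j rh) * cj (cj y (j rh)) (j rh) = 1 := by
    intro m hm h
    have Py : PV ι v (w * j m) := Pw.mul v (PV.jm v hm)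
    refine ⟨w * j m, ?_, ?_, ?_⟩
    · rw [cj_comp, tw, cj_mul, tj, jc]
      congr 2
      rcases hm with rfl | rfl | rfl | rfl <;> decide
    · intro k hk
      have hmem : ∀ k : alternatingGroup α, k ∈ (Subgroup.centralizer {w * j m}).comap ι ↔
          (w * j m) * ι k = ι k * (w * j m) := by
        intro k
        rw [Subgroup.mem_comap, Subgroup.mem_centralizer_singleton_iff]
        exact eq_comm
      rw [← hmem]
      apply mem_of_comm v _ _ _ _ _ k hk
      · rw [hmem]; exact Py.V _ Vr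
      · rw [hmem]; exact Py.V _ Vs
      · rw [hmem]; exact cj_self_iff.1 h
      · intro l hl
        classical
        apply mem_of_fix (fun x => ∀ i : Fin 9, i < 4 → v i ≠ x)
        · intro l h3 hf
          rw [hmem]
          apply Py.T l
          refine ⟨h3, fun i hi => hf _ ?_⟩
          push Not
          exact ⟨i, hi, rfl⟩
        · intro x hx
          push Not at hx
          obtain ⟨i, hi, rfl⟩ := hx
          exact hl i hi
    · rw [cj_mul, cj_mul, cw, cw', jc, jc]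
      calc w * j m * (w' * j (cj m rh)) * (w'' * j (cj (cj m rh) rh))
          = w * (j m * w') * j (cj m rh) * w'' * j (cj (cj m rh) rh) := by group
        _ = w * (w' * j m) * j (cj m rh) * w'' * j (cj (cj m rh) rh) := by rw [Pw'.V _ hm]
        _ = w * w' * j m * (j (cj m rh) * w'') * j (cj (cj m rh) rh) := by group
        _ = w * w' * j m * (w'' * j (cj m rh)) * j (cj (cj m rh) rh) := by
            rw [Pw''.V _ (VB_cj hm)]
        _ = w * w' * (j m * w'') * j (cj m rh) * j (cj (cj m rh) rh) := by group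
        _ = w * w' * (w'' * j m) * j (cj m rh) * j (cj (cj m rh) rh) := by rw [Pw''.V _ hm]
        _ = (w * w' * w'') * j (m * cj m rh * cj (cj m rh) rh) := by rw [← jm, ← jm]; group
        _ = 1 := by
            rw [www, one_mul, show m * cj m rh * cj (cj m rh) rh = 1 by
              rcases hm with rfl | rfl | rfl | rfl <;> decide, map_one]
  rcases hk1 with rfl | rfl
  · apply fin 1 (Or.inl rfl)
    rw [map_one, mul_one, hd, map_one, mul_one]
  · apply fin (dt 0 2 1 3) Vs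
    rw [cj_mul, hd, jc, mul_assoc, jm, show
      (dt 0 1 2 3 : alternatingGroup (Fin 9)) * cj (dt 0 2 1 3) sg = dt 0 2 1 3 by decide]

end Cl

end Cfsg.Agent.OddHalf.D5.Dbl

end

-- merged: Cfsg.Agent.OddHalf.D5.DblFam
section

/-!
# ODD D5 (helper845): the `K`-equivariant family `r ↦ y_r`
-/

set_option autoImplicit false
set_option linter.unusedSectionVars false

namespace Cfsg.Agent.OddHalf.D5.Dbl

open Equiv

variable {α : Type*} [Fintype α] [DecidableEq α] {G : Type*} [Group G]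

/-- the family `y_r` -/
structure Fam (t : G) (ι : alternatingGroup α →* G) (Y : alternatingGroup α → G) : Prop where
  equi : ∀ (v : Fin 9 ↪ α) (k : alternatingGroup α),
    cj (Y (emb v (dt 0 1 2 3))) (ι k) = Y (cj (emb v (dt 0 1 2 3)) k)
  mv : ∀ v : Fin 9 ↪ α, cj t (Y (emb v (dt 0 1 2 3))) = t * ι (emb v (dt 0 1 2 3))
  vb : ∀ v : Fin 9 ↪ α, Y (emb v (dt 0 1 2 3)) * Y (emb v (dt 0 2 1 3)) * Y (emb v (dt 0 3 1 2)) = 1

/-- transport of `emb` by `Alt(α)` -/
theorem cj_emb {v w : Fin 9 ↪ α} {k : alternatingGroup α}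
    (hk : ∀ i : Fin 9, i < 7 → (k : Perm α) (v i) = w i) {a b c d : Fin 9} (ha : a < 7) (hb : b < 7)
    (hc : c < 7) (hd : d < 7) (h1 : a ≠ b) (h2 : c ≠ d) :
    cj (emb w (dt a b c d)) k = emb v (dt a b c d) := by
  have e : ∀ i : Fin 9, i < 7 → ((k : Perm α)⁻¹) (w i) = v i := by
    intro i hi
    rw [← hk i hi]
    exact (k : Perm α).symm_apply_apply (v i)
  rw [emb_dt w h1 h2, emb_dt v h1 h2, cj, dt_conj', e a ha, e b hb, e c hc, e d hd]

theorem exists_fam {t : G} {ι : alternatingGroup α →* G} (C : Cl t ι) (v0 : Fin 9 ↪ α) {y : G}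
    (ht : cj t y = t * Cl.jj ι v0 (dt 0 1 2 3))
    (hc : ∀ k : alternatingGroup α, emb v0 (dt 0 1 2 3) * k = k * emb v0 (dt 0 1 2 3) →
        y * ι k = ι k * y)
    (h3 : y * cj y (Cl.jj ι v0 rh) * cj (cj y (Cl.jj ι v0 rh)) (Cl.jj ι v0 rh) = 1) :
    ∃ Y : alternatingGroup α → G, Fam t ι Y := by
  classical
  set r0 := emb v0 (dt 0 1 2 3) with hr0
  let Y : alternatingGroup α → G := fun x =>
    if h : ∃ k, x = cj r0 k then cj y (ι h.choose) else 1
  have hY : ∀ k, Y (cj r0 k) = cj y (ι k) := by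
    intro k
    have h : ∃ k', cj r0 k = cj r0 k' := ⟨k, rfl⟩
    have h1 : Y (cj r0 k) = cj y (ι h.choose) := dif_pos h
    rw [h1]
    have h2 := h.choose_spec
    generalize h.choose = k' at h2 ⊢
    have h4 : r0 * (k * k'⁻¹) = (k * k'⁻¹) * r0 := by
      rw [← cj_self_iff, cj_comp, h2, cj_cancel]
    have h5 := hc _ h4
    rw [← cj_self_iff, map_mul, cj_comp, map_inv] at h5
    have h6 := congrArg (fun z => cj z (ι k')) h5
    simp only [cj_cancel'] at h6
    exact h6.symm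
  refine ⟨Y, ?_, ?_, ?_⟩
  · intro v k
    obtain ⟨g, hg⟩ := trans_seven v v0
    rw [← cj_emb hg (by decide) (by decide) (by decide) (by decide) (by decide) (by decide),
      ← hr0, hY, ← cj_comp, ← cj_comp, hY, map_mul]
  · intro v
    obtain ⟨g, hg⟩ := trans_seven v v0
    rw [← cj_emb hg (by decide) (by decide) (by decide) (by decide) (by decide) (by decide),
      ← hr0, hY]
    have h1 : cj t (ι g) = t := cj_eq (C.comm g)
    have h2 : cj t (cj y (ι g)) = cj (cj t (ι g)) (cj y (ι g)) := by rw [h1]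
    rw [h2, ← cj_cj, ht, cj_mul, h1, map_cj]
    rfl
  · intro v
    obtain ⟨g, hg⟩ := trans_seven v v0
    have e1 : Y (emb v (dt 0 1 2 3)) = cj y (ι g) := by
      rw [← cj_emb hg (by decide) (by decide) (by decide) (by decide) (by decide) (by decide),
      ← hr0, hY]
    have e2 : Y (emb v (dt 0 2 1 3)) = cj (cj y (Cl.jj ι v0 rh)) (ι g) := by
      rw [← cj_emb hg (by decide) (by decide) (by decide) (by decide) (by decide) (by decide),
        show (dt 0 2 1 3 : alternatingGroup (Fin 9)) = cj (dt 0 1 2 3) rh by decide, map_cj,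
        ← hr0, ← cj_comp, hY, map_mul, cj_comp]
      rfl
    have e3 : Y (emb v (dt 0 3 1 2)) = cj (cj (cj y (Cl.jj ι v0 rh)) (Cl.jj ι v0 rh)) (ι g) := by
      rw [← cj_emb hg (by decide) (by decide) (by decide) (by decide) (by decide) (by decide),
        show (dt 0 3 1 2 : alternatingGroup (Fin 9)) = cj (cj (dt 0 1 2 3) rh) rh by decide, map_cj,
        map_cj, ← hr0, ← cj_comp, ← cj_comp, hY, map_mul, map_mul, cj_comp, cj_comp]
      rfl
    rw [e1, e2, e3, ← cj_mul, ← cj_mul, h3, one_cj]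

/-- a double transposition in `A₉` -/
def Rt (m : alternatingGroup (Fin 9)) : Prop :=
  ∃ π : Perm (Fin 9), m = dt (π 0) (π 1) (π 2) (π 3)

/-- permutations of `Fin 9` with prescribed first values -/
theorem exists_pi {m : ℕ} (x : Fin m → Fin 9) (hx : Function.Injective x) (hm : m ≤ 9) :
    ∃ π : Perm (Fin 9), ∀ i : Fin m, π (Fin.castLE hm i) = x i :=
  exists_perm_extending _ x (Fin.castLE_injective hm) hx

theorem rt_dt {a b c d : Fin 9} (h : Function.Injective ![a, b, c, d]) : Rt (dt a b c d) := by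
  obtain ⟨π, hπ⟩ := exists_pi _ h (by decide)
  refine ⟨π, ?_⟩
  have h0 := hπ 0
  have h1 := hπ 1
  have h2 := hπ 2
  have h3 := hπ 3
  have e0 : π 0 = a := h0
  have e1 : π 1 = b := h1
  have e2 : π 2 = c := h2
  have e3 : π 3 = d := h3
  rw [e0, e1, e2, e3]

theorem emb_rt (v : Fin 9 ↪ α) (π : Perm (Fin 9)) :
    emb v (dt (π 0) (π 1) (π 2) (π 3)) = emb (π.toEmbedding.trans v) (dt 0 1 2 3) :=
  (emb_comp_dt v π (by decide) (by decide)).symm

namespace Fam

variable {t : G} {ι : alternatingGroup α →* G} {Y : alternatingGroup α → G}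

/-- equivariance, all of `Alt(α)` -/
theorem equi_rt (F : Fam t ι Y) (v : Fin 9 ↪ α) {m : alternatingGroup (Fin 9)} (hm : Rt m)
    (k : alternatingGroup α) : cj (Y (emb v m)) (ι k) = Y (cj (emb v m) k) := by
  obtain ⟨π, rfl⟩ := hm
  rw [emb_rt]
  exact F.equi _ k

/-- equivariance, `A₉` -/
theorem eq9 (F : Fam t ι Y) (v : Fin 9 ↪ α) {m : alternatingGroup (Fin 9)} (hm : Rt m)
    {m' : alternatingGroup (Fin 9)} (n : alternatingGroup (Fin 9)) (h : cj m n = m') :
    cj (Y (emb v m)) (Cl.jj ι v n) = Y (emb v m') := by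
  rw [← h, map_cj]
  exact F.equi_rt v hm _

theorem mv_rt (F : Fam t ι Y) (v : Fin 9 ↪ α) {m : alternatingGroup (Fin 9)} (hm : Rt m) :
    cj t (Y (emb v m)) = t * Cl.jj ι v m := by
  obtain ⟨π, rfl⟩ := hm
  show _ = t * ι (emb v _)
  rw [emb_rt]
  exact F.mv _

/-- `y_r` centralises `C_K(r)` -/
theorem comm_rt (F : Fam t ι Y) (v : Fin 9 ↪ α) {m : alternatingGroup (Fin 9)} (hm : Rt m)
    {k : alternatingGroup α} (h : emb v m * k = k * emb v m) :
    Y (emb v m) * ι k = ι k * Y (emb v m) := by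
  rw [← cj_self_iff, F.equi_rt v hm, cj_eq h]

theorem comm9 (F : Fam t ι Y) (v : Fin 9 ↪ α) {m n : alternatingGroup (Fin 9)} (hm : Rt m)
    (h : m * n = n * m) : Y (emb v m) * Cl.jj ι v n = Cl.jj ι v n * Y (emb v m) := by
  apply F.comm_rt v hm
  rw [← map_mul, ← map_mul, h]

end Fam

end Cfsg.Agent.OddHalf.D5.Dbl

end

-- merged: Cfsg.Agent.OddHalf.D5.DblRel
section

/-!
# ODD D5 (helper845): relations between the `y_r`, part 1: squares, disjoint supports
-/

set_option autoImplicit false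
set_option linter.unusedSectionVars false

namespace Cfsg.Agent.OddHalf.D5.Dbl

open Equiv

variable {α : Type*} [Fintype α] [DecidableEq α] {G : Type*} [Group G]

/-- a commutator of two `y`'s has no `t`-part -/
theorem no_t_comm {t a b y y' e : G} (ht : cj t y = t * a) (ht' : cj t y' = t * b) (hab : a ≠ b)
    (h2 : (y * y) * y' = y' * (y * y)) (h2' : (y' * y') * y = y * (y' * y'))
    (hc : y * y' * y⁻¹ * y'⁻¹ = t * e) (he : e * y = y * e) (he' : e * y' = y' * e) : False := by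
  generalize hcc : y * y' * y⁻¹ * y'⁻¹ = c at hc
  have e1 : c * y⁻¹ * c = y⁻¹ := by
    have h5 : y⁻¹ * c = y' * y⁻¹ * y'⁻¹ := by rw [← hcc]; group
    have h6 : y⁻¹ * c * (y⁻¹ * c) = y⁻¹ * y⁻¹ := by
      rw [h5]
      have h7 : y' * (y * y)⁻¹ = (y * y)⁻¹ * y' :=
        ((show Commute y' (y * y) from h2.symm).inv_right).eq
      calc y' * y⁻¹ * y'⁻¹ * (y' * y⁻¹ * y'⁻¹) = (y' * (y * y)⁻¹) * y'⁻¹ := by group
        _ = y⁻¹ * y⁻¹ := by rw [h7]; group
    calc c * y⁻¹ * c = y * (y⁻¹ * c * (y⁻¹ * c)) := by group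
      _ = y⁻¹ := by rw [h6]; group
  have e2 : c * y' * c = y' := by
    have h5 : c * y' = y * y' * y⁻¹ := by rw [← hcc]; group
    have h6 : (c * y') * (c * y') = y' * y' := by
      rw [h5]
      calc y * y' * y⁻¹ * (y * y' * y⁻¹) = (y * (y' * y')) * y⁻¹ := by group
        _ = y' * y' := by rw [← h2']; group
    calc c * y' * c = (c * y' * (c * y')) * y'⁻¹ := by group
      _ = y' := by rw [h6]; group
  have f1 : cj c y = c⁻¹ := by
    rw [cj, eq_comm, inv_eq_iff_mul_eq_one]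
    calc c * (y⁻¹ * c * y) = (c * y⁻¹ * c) * y := by group
      _ = 1 := by rw [e1]; group
  have f2 : cj c y' = c⁻¹ := by
    rw [cj]
    calc y'⁻¹ * c * y' = y'⁻¹ * (c * y' * c) * c⁻¹ := by group
      _ = c⁻¹ := by rw [e2]; group
  have f3 := f1.trans f2.symm
  rw [hc, cj_mul, cj_mul, ht, ht', cj_eq he, cj_eq he'] at f3
  exact hab (mul_left_cancel (mul_right_cancel f3))

/-- `C_G(t)` -/
theorem Cl.cent_key {t : G} {ι : alternatingGroup α →* G} (C : Cl t ι) {x : G} (hx : x * t = t * x) :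
    ∃ k, (x = ι k ∨ x = t * ι k) ∧ ∀ b, ι b * x = x * ι b → b * k = k * b := by
  obtain ⟨a, ha⟩ := C.cent x hx
  refine ⟨a, ha, fun b hb => ?_⟩
  apply C.inj
  rw [map_mul, map_mul]
  rcases ha with ha | ha
  · rw [← ha, hb]
  · rw [ha] at hb
    have : t * (ι b * ι a) = t * (ι a * ι b) := by
      calc t * (ι b * ι a) = (t * ι b) * ι a := by group
        _ = ι b * (t * ι a) := by rw [C.comm]; group
        _ = t * ι a * ι b := hb
        _ = t * (ι a * ι b) := by group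
    exact mul_left_cancel this

theorem Cl.mul_inv_t {t : G} {x y : G} (h : cj t x = cj t y) : (x * y⁻¹) * t = t * (x * y⁻¹) := by
  rw [← cj_self_iff_comm, cj_comp, h, cj_cancel]
where
  cj_self_iff_comm {x g : G} : cj x g = x ↔ g * x = x * g := by
    rw [cj_self_iff]; exact eq_comm

theorem jj_trans {ι : alternatingGroup α →* G} (v : Fin 9 ↪ α) (π : Perm (Fin 9)) {i j k l : Fin 9}
    (h1 : i ≠ j) (h2 : k ≠ l) :
    Cl.jj ι (π.toEmbedding.trans v) (dt i j k l) = Cl.jj ι v (dt (π i) (π j) (π k) (π l)) := by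
  show ι (emb _ _) = ι (emb _ _)
  rw [emb_comp_dt v π h1 h2]

namespace Fam

variable {t : G} {ι : alternatingGroup α →* G} {Y : alternatingGroup α → G}

/-- squares -/
theorem sq_cases (C : Cl t ι) (F : Fam t ι Y) (v : Fin 9 ↪ α) :
    Y (emb v (dt 0 1 2 3)) * Y (emb v (dt 0 1 2 3)) = 1 ∨
      Y (emb v (dt 0 1 2 3)) * Y (emb v (dt 0 1 2 3)) = Cl.jj ι v (dt 0 1 2 3) := by
  have R0 : Rt (dt 0 1 2 3) := rt_dt (by decide)
  have ht := F.mv_rt v R0
  have hc : ∀ k, emb v (dt 0 1 2 3) * k = k * emb v (dt 0 1 2 3) →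
      Y (emb v (dt 0 1 2 3)) * ι k = ι k * Y (emb v (dt 0 1 2 3)) := fun k => F.comm_rt v R0
  have hcr := F.comm9 v R0 (n := dt 0 1 2 3) rfl
  generalize Y (emb v (dt 0 1 2 3)) = y at ht hc hcr
  have h1 : cj t (y * y) = t := by
    rw [cj_comp, ht, cj_mul, ht, cj_eq hcr.symm, mul_assoc, ← map_mul, show
      (dt 0 1 2 3 : alternatingGroup (Fin 9)) * dt 0 1 2 3 = 1 by decide, map_one, mul_one]
  obtain ⟨k, hk, hkc⟩ := C.cent_key (x := y * y) (cj_self_iff.1 h1).symm
  have h2 : ∀ b, emb v (dt 0 1 2 3) * b = b * emb v (dt 0 1 2 3) → b * k = k * b := by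
    intro b hb
    apply hkc
    rw [← mul_assoc, ← hc b hb, mul_assoc, ← hc b hb, mul_assoc]
  have hk4 := cent_disj v k (fun l hl _ => h2 l hl.symm)
  have hk2 : k = 1 ∨ k = emb v (dt 0 1 2 3) := by
    have h3 := h2 (emb v (tc 4 5 6)) (by rw [← map_mul, ← map_mul]; exact congrArg _ (by decide))
    rcases hk4 with e | e | e | e
    · exact Or.inl e
    · exact Or.inr e
    · rw [e, ← map_mul, ← map_mul] at h3
      exact absurd (emb_injective v h3) (by decide)
    · rw [e, ← map_mul, ← map_mul] at h3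
      exact absurd (emb_injective v h3) (by decide)
  have hkr : emb v (dt 0 1 2 3) * k = k * emb v (dt 0 1 2 3) := by
    rcases hk2 with rfl | rfl
    · rw [mul_one, one_mul]
    · rfl
  rcases hk with hk | hk
  · rcases hk2 with rfl | rfl
    · left; rw [hk, map_one]
    · right; rw [hk]; rfl
  · exfalso
    have h3 : cj (y * y) y = y * y := cj_eq (by group)
    rw [hk, cj_mul, ht, cj_eq (hc k hkr).symm] at h3
    have h4 := mul_eq_left.1 (mul_right_cancel h3)
    exact absurd (C.jj_inj v (h4.trans (map_one _).symm)) (by decide)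

theorem sq_rt (C : Cl t ι) (F : Fam t ι Y) (v : Fin 9 ↪ α) {m : alternatingGroup (Fin 9)} (hm : Rt m) :
    Y (emb v m) * Y (emb v m) = 1 ∨ Y (emb v m) * Y (emb v m) = Cl.jj ι v m := by
  obtain ⟨π, rfl⟩ := hm
  have h := F.sq_cases C (π.toEmbedding.trans v)
  rw [emb_comp_dt v π (by decide) (by decide), jj_trans v π (by decide) (by decide)] at h
  exact h

/-- the square of `y_m` commutes with everything `m` commutes with -/
theorem sq_comm (C : Cl t ι) (F : Fam t ι Y) (v : Fin 9 ↪ α) {m n : alternatingGroup (Fin 9)}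
    (hm : Rt m) (hn : Rt n) (hmn : m * n = n * m) :
    (Y (emb v m) * Y (emb v m)) * Y (emb v n) = Y (emb v n) * (Y (emb v m) * Y (emb v m)) := by
  rcases F.sq_rt C v hm with e | e
  · rw [e, one_mul, mul_one]
  · rw [e]
    exact (F.comm9 v hn hmn.symm).symm

/-- **commutators of commuting `y`'s lie in `K`** -/
theorem comm_key (C : Cl t ι) (F : Fam t ι Y) (v : Fin 9 ↪ α) {m n : alternatingGroup (Fin 9)}
    (hm : Rt m) (hn : Rt n) (hmn : m * n = n * m) (hne : m ≠ n) :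
    ∃ k : alternatingGroup α, Y (emb v m) * Y (emb v n) = ι k * Y (emb v n) * Y (emb v m) ∧
      ∀ l, l * emb v m = emb v m * l → l * emb v n = emb v n * l → l * k = k * l := by
  have t0 := F.mv_rt v hm
  have t1 := F.mv_rt v hn
  have c01 := F.comm9 v hm hmn
  have c10 := F.comm9 v hn hmn.symm
  have jmn : Cl.jj ι v n * Cl.jj ι v m = Cl.jj ι v m * Cl.jj ι v n := by
    rw [← map_mul, ← map_mul, hmn]
  have s0 := F.sq_comm C v hm hn hmn
  have s1 := F.sq_comm C v hn hm hmn.symm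
  have a0 : ∀ l, l * emb v m = emb v m * l → Y (emb v m) * ι l = ι l * Y (emb v m) :=
    fun l hl => F.comm_rt v hm hl.symm
  have a1 : ∀ l, l * emb v n = emb v n * l → Y (emb v n) * ι l = ι l * Y (emb v n) :=
    fun l hl => F.comm_rt v hn hl.symm
  have hj : Cl.jj ι v m ≠ Cl.jj ι v n := fun h => hne (C.jj_inj v h)
  generalize Y (emb v m) = y at *
  generalize Y (emb v n) = y' at *
  generalize Cl.jj ι v m = a at *
  generalize Cl.jj ι v n = b at *
  have h1 : cj t (y * y') = cj t (y' * y) := by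
    rw [cj_comp, cj_comp, t0, t1, cj_mul, cj_mul, t0, t1, cj_eq c10.symm, cj_eq c01.symm, mul_assoc,
      mul_assoc, jmn]
  obtain ⟨k, hk, hkc⟩ := C.cent_key (Cl.mul_inv_t h1)
  have hkl : ∀ l, l * emb v m = emb v m * l → l * emb v n = emb v n * l → l * k = k * l := by
    intro l h1 h2
    apply hkc
    have b0 : Commute y (ι l) := a0 l h1
    have b1 : Commute y' (ι l) := a1 l h2
    exact ((b0.mul_left b1).mul_left (b1.mul_left b0).inv_left).eq.symm
  have e1 : y * y' * (y' * y)⁻¹ = y * y' * y⁻¹ * y'⁻¹ := by group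
  rw [e1] at hk
  have hmm : emb v m * emb v n = emb v n * emb v m := by rw [← map_mul, ← map_mul, hmn]
  have km : emb v m * k = k * emb v m := hkl _ rfl hmm
  have kn : emb v n * k = k * emb v n := hkl _ hmm.symm rfl
  refine ⟨k, ?_, hkl⟩
  rcases hk with hk | hk
  · rw [← hk]; group
  · exfalso
    exact no_t_comm t0 t1 hj s0 s1 hk (a0 k km.symm).symm (a1 k kn.symm).symm

/-- `V_B`-lines, transported -/
theorem vb_pi (F : Fam t ι Y) (v : Fin 9 ↪ α) (π : Perm (Fin 9)) :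
    Y (emb v (dt (π 0) (π 1) (π 2) (π 3))) * Y (emb v (dt (π 0) (π 2) (π 1) (π 3))) *
      Y (emb v (dt (π 0) (π 3) (π 1) (π 2))) = 1 := by
  have h := F.vb (π.toEmbedding.trans v)
  rw [emb_comp_dt v π (by decide) (by decide), emb_comp_dt v π (by decide) (by decide),
    emb_comp_dt v π (by decide) (by decide)] at h
  exact h

end Fam

theorem trilin {y w1 w2 w3 a1 a2 a3 : G} (vb : w1 * w2 * w3 = 1) (r1 : y * w1 = a1 * w1 * y)
    (r2 : y * w2 = a2 * w2 * y) (r3 : y * w3 = a3 * w3 * y) (d2 : w1 * a2 = a2 * w1)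
    (d3 : w1 * a3 = a3 * w1) (d4 : w2 * a3 = a3 * w2) : a1 * a2 * a3 = 1 := by
  have : y = a1 * a2 * a3 * (w1 * w2 * w3) * y := by
    calc y = y * (w1 * w2 * w3) := by rw [vb, mul_one]
      _ = (y * w1) * w2 * w3 := by group
      _ = a1 * w1 * (y * w2) * w3 := by rw [r1]; group
      _ = a1 * (w1 * a2) * w2 * (y * w3) := by rw [r2]; group
      _ = a1 * a2 * w1 * (w2 * a3) * w3 * y := by rw [r3, d2]; group
      _ = a1 * a2 * (w1 * a3) * w2 * w3 * y := by rw [d4]; group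
      _ = a1 * a2 * a3 * (w1 * w2 * w3) * y := by rw [d3]; group
  rw [vb, mul_one] at this
  exact mul_eq_right.1 this.symm

namespace Fam

variable {t : G} {ι : alternatingGroup α →* G} {Y : alternatingGroup α → G}

/-- the permutation exchanging `0123` and `4567` -/
def sw4 : Perm (Fin 9) := swap 0 4 * swap 1 5 * swap 2 6 * swap 3 7

theorem disj_pre (C : Cl t ι) (F : Fam t ι Y) (v : Fin 9 ↪ α) :
    ∃ k : alternatingGroup (Fin 9), (k = 1 ∨ k = dt 4 5 6 7) ∧
      Y (emb v (dt 0 1 2 3)) * Y (emb v (dt 4 5 6 7)) =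
      Cl.jj ι v k * Y (emb v (dt 4 5 6 7)) * Y (emb v (dt 0 1 2 3)) := by
  have R0 : Rt (dt 0 1 2 3) := rt_dt (by decide)
  have R1 : Rt (dt 4 5 6 7) := rt_dt (by decide)
  have R2 : Rt (dt 4 6 5 7) := rt_dt (by decide)
  obtain ⟨k, hk, hkc⟩ := F.comm_key C v R0 R1 (by decide) (by decide)
  obtain ⟨k0, hk0, rfl⟩ : ∃ k0 : alternatingGroup (Fin 9), (k0 = 1 ∨ k0 = dt 0 1 2 3 ∨ k0 = dt 4 5 6 7 ∨
      k0 = dt 0 1 2 3 * dt 4 5 6 7) ∧ k = emb v k0 := by
    rcases cent_disj v k hkc with e | e | e | e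
    · exact ⟨1, Or.inl rfl, by rw [map_one]; exact e⟩
    · exact ⟨_, Or.inr (Or.inl rfl), e⟩
    · exact ⟨_, Or.inr (Or.inr (Or.inl rfl)), e⟩
    · exact ⟨_, Or.inr (Or.inr (Or.inr rfl)), e⟩
  have hrel : ∀ n m' : alternatingGroup (Fin 9), cj (dt 0 1 2 3) n = dt 0 1 2 3 →
      cj (dt 4 5 6 7) n = m' → Y (emb v (dt 0 1 2 3)) * Y (emb v m') =
        Cl.jj ι v (cj k0 n) * Y (emb v m') * Y (emb v (dt 0 1 2 3)) := by
    intro n m' h1 h2
    have h4 := congrArg (fun z => cj z (Cl.jj ι v n)) hk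
    simp only [cj_mul] at h4
    rw [F.eq9 v R0 n h1, F.eq9 v R1 n h2] at h4
    rw [h4, ← Cl.cj_jj]
    rfl
  have prod : k0 * cj k0 (tc 5 7 6) * cj k0 (tc 5 6 7) = 1 := by
    apply C.jj_inj v
    rw [map_one, map_mul, map_mul]
    exact trilin (F.vb_pi v sw4) hk (hrel (tc 5 7 6) _ (by decide) (by decide))
      (hrel (tc 5 6 7) _ (by decide) (by decide))
      (F.comm9 v R1 (by rcases hk0 with rfl | rfl | rfl | rfl <;> decide))
      (F.comm9 v R1 (by rcases hk0 with rfl | rfl | rfl | rfl <;> decide))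
      (F.comm9 v R2 (by rcases hk0 with rfl | rfl | rfl | rfl <;> decide))
  refine ⟨k0, ?_, hk⟩
  rcases hk0 with rfl | rfl | rfl | rfl
  · exact Or.inl rfl
  · exact absurd prod (by decide)
  · exact Or.inr rfl
  · exact absurd prod (by decide)

/-- **disjoint supports commute** -/
theorem disj0 (C : Cl t ι) (F : Fam t ι Y) (v : Fin 9 ↪ α) :
    Y (emb v (dt 0 1 2 3)) * Y (emb v (dt 4 5 6 7)) =
      Y (emb v (dt 4 5 6 7)) * Y (emb v (dt 0 1 2 3)) := by
  obtain ⟨k, hk, e⟩ := F.disj_pre C v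
  have h : ∃ k2 : alternatingGroup (Fin 9), (k2 = 1 ∨ k2 = dt 0 1 2 3) ∧
      Y (emb v (dt 4 5 6 7)) * Y (emb v (dt 0 1 2 3)) =
      Cl.jj ι v k2 * Y (emb v (dt 0 1 2 3)) * Y (emb v (dt 4 5 6 7)) := by
    obtain ⟨k', hk', e'⟩ := F.disj_pre C (sw4.toEmbedding.trans v)
    rw [emb_comp_dt v sw4 (by decide) (by decide), emb_comp_dt v sw4 (by decide) (by decide)] at e'
    rcases hk' with rfl | rfl
    · refine ⟨1, Or.inl rfl, ?_⟩
      rw [map_one (Cl.jj ι _)] at e' ⊢
      exact e'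
    · rw [jj_trans v sw4 (by decide) (by decide)] at e'
      exact ⟨_, Or.inr rfl, e'⟩
  obtain ⟨k2, hk2, e2⟩ := h
  have h1 : k * k2 = 1 := by
    apply C.jj_inj v
    rw [map_mul, map_one]
    rw [mul_assoc, e2, ← mul_assoc, ← mul_assoc, mul_assoc _ (Y _) (Y _)] at e
    exact mul_eq_right.1 e.symm
  have h2 : k = 1 := by
    rcases hk with rfl | rfl
    · rfl
    · rcases hk2 with rfl | rfl
      · exact absurd h1 (by decide)
      · exact absurd h1 (by decide)
  rw [h2, map_one, one_mul] at e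
  exact e

/-- letters given by a permutation of `Fin 9` -/
theorem disj_pi (C : Cl t ι) (F : Fam t ι Y) (v : Fin 9 ↪ α) (π : Perm (Fin 9)) :
    Y (emb v (dt (π 0) (π 1) (π 2) (π 3))) * Y (emb v (dt (π 4) (π 5) (π 6) (π 7))) =
      Y (emb v (dt (π 4) (π 5) (π 6) (π 7))) * Y (emb v (dt (π 0) (π 1) (π 2) (π 3))) := by
  have h := F.disj0 C (π.toEmbedding.trans v)
  rw [emb_comp_dt v π (by decide) (by decide), emb_comp_dt v π (by decide) (by decide)] at h
  exact h

/-! ### Lines -/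

/-- the four elements of the line group `⟨(01)(23), (23)(45)⟩` -/
def LN (m : alternatingGroup (Fin 9)) : Prop :=
  m = 1 ∨ m = dt 0 1 2 3 ∨ m = dt 2 3 4 5 ∨ m = dt 0 1 4 5

theorem LN_of {v : Fin 9 ↪ α} {k : alternatingGroup α}
    (h : ∀ l : alternatingGroup α, l * emb v (dt 0 1 2 3) = emb v (dt 0 1 2 3) * l →
      l * emb v (dt 2 3 4 5) = emb v (dt 2 3 4 5) * l → l * k = k * l) :
    ∃ m, LN m ∧ k = emb v m := by
  rcases cent_line v k h with e | e | e | e
  · exact ⟨1, Or.inl rfl, by rw [map_one]; exact e⟩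
  · exact ⟨_, Or.inr (Or.inl rfl), e⟩
  · exact ⟨_, Or.inr (Or.inr (Or.inl rfl)), e⟩
  · exact ⟨_, Or.inr (Or.inr (Or.inr rfl)), e⟩

/-- `[y_12, y_23] = r_13^κ` -/
theorem line_comm_pre (C : Cl t ι) (F : Fam t ι Y) (v : Fin 9 ↪ α) :
    ∃ k : alternatingGroup (Fin 9), (k = 1 ∨ k = dt 0 1 4 5) ∧
      Y (emb v (dt 0 1 2 3)) * Y (emb v (dt 2 3 4 5)) =
      Cl.jj ι v k * Y (emb v (dt 2 3 4 5)) * Y (emb v (dt 0 1 2 3)) := by
  have R0 : Rt (dt 0 1 2 3) := rt_dt (by decide)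
  have R1 : Rt (dt 2 3 4 5) := rt_dt (by decide)
  obtain ⟨k, hk, hkc⟩ := F.comm_key C v R0 R1 (by decide) (by decide)
  obtain ⟨m, hm, rfl⟩ := LN_of hkc
  have hk' : Y (emb v (dt 0 1 2 3)) * Y (emb v (dt 2 3 4 5)) =
      Cl.jj ι v m * Y (emb v (dt 2 3 4 5)) * Y (emb v (dt 0 1 2 3)) := hk
  have h4 := congrArg (fun z => cj z (Cl.jj ι v (dt 0 4 1 5))) hk'
  simp only [cj_mul] at h4
  rw [F.eq9 v R0 (m' := dt 2 3 4 5) (dt 0 4 1 5) (by decide),
    F.eq9 v R1 (m' := dt 0 1 2 3) (dt 0 4 1 5) (by decide), Cl.cj_jj] at h4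
  have h1 : m * cj m (dt 0 4 1 5) = 1 := by
    apply C.jj_inj v
    rw [map_mul, map_one]
    rw [mul_assoc, h4, ← mul_assoc, ← mul_assoc, mul_assoc _ (Y _) (Y _)] at hk'
    exact mul_eq_right.1 hk'.symm
  refine ⟨m, ?_, hk'⟩
  rcases hm with rfl | rfl | rfl | rfl
  · exact Or.inl rfl
  · exact absurd h1 (by decide)
  · exact absurd h1 (by decide)
  · exact Or.inr rfl

/-- `y_12 y_23 y_13 ∈ ⟨t⟩ × ⟨r_12, r_23⟩` -/
theorem line_prod_pre (C : Cl t ι) (F : Fam t ι Y) (v : Fin 9 ↪ α) :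
    ∃ m : alternatingGroup (Fin 9), LN m ∧
      (Y (emb v (dt 0 1 2 3)) * Y (emb v (dt 2 3 4 5)) * Y (emb v (dt 0 1 4 5)) = Cl.jj ι v m ∨
       Y (emb v (dt 0 1 2 3)) * Y (emb v (dt 2 3 4 5)) * Y (emb v (dt 0 1 4 5)) =
        t * Cl.jj ι v m) := by
  have R0 : Rt (dt 0 1 2 3) := rt_dt (by decide)
  have R1 : Rt (dt 2 3 4 5) := rt_dt (by decide)
  have R2 : Rt (dt 0 1 4 5) := rt_dt (by decide)
  have t0 := F.mv_rt v R0
  have t1 := F.mv_rt v R1
  have t2 := F.mv_rt v R2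
  have c10 := F.comm9 v R1 (n := dt 0 1 2 3) (by decide)
  have c20 := F.comm9 v R2 (n := dt 0 1 2 3) (by decide)
  have c21 := F.comm9 v R2 (n := dt 2 3 4 5) (by decide)
  have jjj : Cl.jj ι v (dt 0 1 4 5) * Cl.jj ι v (dt 2 3 4 5) * Cl.jj ι v (dt 0 1 2 3) = 1 := by
    rw [← map_mul, ← map_mul, show (dt 0 1 4 5 : alternatingGroup (Fin 9)) * dt 2 3 4 5 * dt 0 1 2 3 = 1
      by decide, map_one]
  have a0 : ∀ l, l * emb v (dt 0 1 2 3) = emb v (dt 0 1 2 3) * l → Commute (Y (emb v (dt 0 1 2 3))) (ι l) :=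
    fun l hl => F.comm_rt v R0 hl.symm
  have a1 : ∀ l, l * emb v (dt 2 3 4 5) = emb v (dt 2 3 4 5) * l → Commute (Y (emb v (dt 2 3 4 5))) (ι l) :=
    fun l hl => F.comm_rt v R1 hl.symm
  have a2 : ∀ l, l * emb v (dt 0 1 4 5) = emb v (dt 0 1 4 5) * l → Commute (Y (emb v (dt 0 1 4 5))) (ι l) :=
    fun l hl => F.comm_rt v R2 hl.symm
  have e3 : emb v (dt 0 1 4 5) = emb v (dt 0 1 2 3) * emb v (dt 2 3 4 5) := by
    rw [← map_mul]; exact congrArg _ (by decide)
  have h1 : cj t (Y (emb v (dt 0 1 2 3)) * Y (emb v (dt 2 3 4 5)) * Y (emb v (dt 0 1 4 5))) = t := by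
    rw [cj_comp, cj_comp, t0, cj_mul, t1, cj_eq c10.symm, cj_mul, cj_mul, t2, cj_eq c21.symm,
      cj_eq c20.symm, mul_assoc, mul_assoc, ← mul_assoc (Cl.jj ι v _), jjj, mul_one]
  obtain ⟨k, hk, hkc⟩ := C.cent_key (cj_self_iff.1 h1).symm
  obtain ⟨m, hm, rfl⟩ := LN_of (k := k) (v := v) (by
    intro l h2 h3
    apply hkc
    exact (((a0 l h2).mul_left (a1 l h3)).mul_left (a2 l (by
      rw [e3, ← mul_assoc, h2, mul_assoc, h3, mul_assoc]))).eq.symm)
  exact ⟨m, hm, hk⟩

end Fam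

/-- the line computation -/
theorem line_abs {y12 y23 y13 y34 f a1 a2 a3 : G} (hf : y12 * y23 * y13 = f)
    (d : y34 * y12 = y12 * y34) (h1 : y13 * y34 = a1 * y34 * y13) (h2 : y23 * y34 = a2 * y34 * y23)
    (h3 : cj f y34 = f * a3) (c1 : a1 * y34 = y34 * a1) (c2 : a2 * y34 = y34 * a2)
    (c3 : a2 * y12 = y12 * a2) (c4 : a2 * f = f * a2) (c5 : a1 * y13 = y13 * a1)
    (c6 : a2 * y23 = y23 * a2) : a1 = a2⁻¹ * a3 := by
  have e13 : cj y13 y34 = y13 * a1 := by
    rw [cj, mul_assoc, h1, ← c5, ← mul_assoc, ← mul_assoc, mul_assoc y34⁻¹, c1]; group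
  have e23 : cj y23 y34 = y23 * a2 := by
    rw [cj, mul_assoc, h2, ← c6, ← mul_assoc, ← mul_assoc, mul_assoc y34⁻¹, c2]; group
  have e12 : cj y12 y34 = y12 := cj_eq d.symm
  have e := congrArg (fun z => cj z y34) hf
  simp only [cj_mul] at e
  rw [e12, e23, e13, h3, ← hf] at e
  have c7 : a2 * y13 = y13 * a2 := by
    have h5 : Commute a2 (y23⁻¹ * y12⁻¹ * f) :=
      (((show Commute a2 y23 from c6).inv_right).mul_right
        ((show Commute a2 y12 from c3).inv_right)).mul_right c4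
    have h6 : y23⁻¹ * y12⁻¹ * f = y13 := by rw [← hf]; group
    rw [h6] at h5
    exact h5
  have h4 : y12 * (y23 * a2) * (y13 * a1) = y12 * y23 * y13 * (a2 * a1) := by
    calc y12 * (y23 * a2) * (y13 * a1) = y12 * y23 * (a2 * y13) * a1 := by group
      _ = y12 * y23 * y13 * (a2 * a1) := by rw [c7]; group
  rw [h4] at e
  rw [← mul_left_cancel e]
  group

namespace Fam

variable {t : G} {ι : alternatingGroup α →* G} {Y : alternatingGroup α → G}

/-- permutes the pairs `1 → 1, 2 → 3, 3 → 4, 4 → 2` -/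
def n1 : alternatingGroup (Fin 9) := tc 2 6 4 * tc 3 7 5

/-- permutes the pairs `1 → 2 → 3 → 4 → 1` -/
def n2 : alternatingGroup (Fin 9) := dt 0 6 1 7 * dt 6 4 7 5 * dt 4 2 5 3

theorem line_pre (C : Cl t ι) (F : Fam t ι Y) (v : Fin 9 ↪ α) :
    Y (emb v (dt 0 1 2 3)) * Y (emb v (dt 2 3 4 5)) = Y (emb v (dt 2 3 4 5)) * Y (emb v (dt 0 1 2 3)) ∧
    ∃ m, LN m ∧ Y (emb v (dt 0 1 2 3)) * Y (emb v (dt 2 3 4 5)) * Y (emb v (dt 0 1 4 5)) =
      Cl.jj ι v m := by
  have R12 : Rt (dt 0 1 2 3) := rt_dt (by decide)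
  have R23 : Rt (dt 2 3 4 5) := rt_dt (by decide)
  have R13 : Rt (dt 0 1 4 5) := rt_dt (by decide)
  have R34 : Rt (dt 4 5 6 7) := rt_dt (by decide)
  obtain ⟨k, hk, ek⟩ := F.line_comm_pre C v
  obtain ⟨m, hm, em⟩ := F.line_prod_pre C v
  have h1 : Y (emb v (dt 0 1 4 5)) * Y (emb v (dt 4 5 6 7)) =
      Cl.jj ι v (cj k n1) * Y (emb v (dt 4 5 6 7)) * Y (emb v (dt 0 1 4 5)) := by
    have h4 := congrArg (fun z => cj z (Cl.jj ι v n1)) ek
    simp only [cj_mul] at h4
    rwa [F.eq9 v R12 (m' := dt 0 1 4 5) n1 (by decide), F.eq9 v R23 (m' := dt 4 5 6 7) n1 (by decide),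
      Cl.cj_jj] at h4
  have h2 : Y (emb v (dt 2 3 4 5)) * Y (emb v (dt 4 5 6 7)) =
      Cl.jj ι v (cj k n2) * Y (emb v (dt 4 5 6 7)) * Y (emb v (dt 2 3 4 5)) := by
    have h4 := congrArg (fun z => cj z (Cl.jj ι v n2)) ek
    simp only [cj_mul] at h4
    rwa [F.eq9 v R12 (m' := dt 2 3 4 5) n2 (by decide), F.eq9 v R23 (m' := dt 4 5 6 7) n2 (by decide),
      Cl.cj_jj] at h4
  have d : Y (emb v (dt 4 5 6 7)) * Y (emb v (dt 0 1 2 3)) =
      Y (emb v (dt 0 1 2 3)) * Y (emb v (dt 4 5 6 7)) := (F.disj0 C v).symm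
  -- commutations
  have a1y34 : Cl.jj ι v (cj k n1) * Y (emb v (dt 4 5 6 7)) =
      Y (emb v (dt 4 5 6 7)) * Cl.jj ι v (cj k n1) :=
    (F.comm9 v R34 (by rcases hk with rfl | rfl <;> decide)).symm
  have a2y34 : Cl.jj ι v (cj k n2) * Y (emb v (dt 4 5 6 7)) =
      Y (emb v (dt 4 5 6 7)) * Cl.jj ι v (cj k n2) :=
    (F.comm9 v R34 (by rcases hk with rfl | rfl <;> decide)).symm
  have a2y12 : Cl.jj ι v (cj k n2) * Y (emb v (dt 0 1 2 3)) =
      Y (emb v (dt 0 1 2 3)) * Cl.jj ι v (cj k n2) :=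
    (F.comm9 v R12 (by rcases hk with rfl | rfl <;> decide)).symm
  have a1y13 : Cl.jj ι v (cj k n1) * Y (emb v (dt 0 1 4 5)) =
      Y (emb v (dt 0 1 4 5)) * Cl.jj ι v (cj k n1) :=
    (F.comm9 v R13 (by rcases hk with rfl | rfl <;> decide)).symm
  have a2y23 : Cl.jj ι v (cj k n2) * Y (emb v (dt 2 3 4 5)) =
      Y (emb v (dt 2 3 4 5)) * Cl.jj ι v (cj k n2) :=
    (F.comm9 v R23 (by rcases hk with rfl | rfl <;> decide)).symm
  have a2m : Cl.jj ι v (cj k n2) * Cl.jj ι v m = Cl.jj ι v m * Cl.jj ι v (cj k n2) := by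
    rw [← map_mul, ← map_mul]
    congr 1
    rcases hk with rfl | rfl <;> rcases hm with rfl | rfl | rfl | rfl <;> decide
  have my34 : Y (emb v (dt 4 5 6 7)) * Cl.jj ι v m = Cl.jj ι v m * Y (emb v (dt 4 5 6 7)) :=
    F.comm9 v R34 (by rcases hm with rfl | rfl | rfl | rfl <;> decide)
  have t34 := F.mv_rt v R34
  rcases em with em | em
  · have h := line_abs (a3 := 1) em d h1 h2 (by rw [cj_eq my34.symm, mul_one]) a1y34 a2y34 a2y12
      a2m a1y13 a2y23
    have hk1 : k = 1 := by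
      rw [mul_one, ← map_inv] at h
      have h' := C.jj_inj v h
      rcases hk with rfl | rfl
      · rfl
      · exact absurd h' (by decide)
    rw [hk1, map_one, one_mul] at ek
    exact ⟨ek, m, hm, em⟩
  · exfalso
    have a2f : Cl.jj ι v (cj k n2) * (t * Cl.jj ι v m) = t * Cl.jj ι v m * Cl.jj ι v (cj k n2) := by
      rw [← mul_assoc, ← C.jj_comm, mul_assoc, a2m, mul_assoc]
    have h := line_abs (a3 := Cl.jj ι v (dt 4 5 6 7)) em d h1 h2 (by
      rw [cj_mul, t34, cj_eq my34.symm, mul_assoc, mul_assoc, ← map_mul, ← map_mul]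
      congr 2
      rcases hm with rfl | rfl | rfl | rfl <;> decide) a1y34 a2y34 a2y12 a2f a1y13 a2y23
    rw [← map_inv, ← map_mul] at h
    have h' := C.jj_inj v h
    rcases hk with rfl | rfl
    · exact absurd h' (by decide)
    · exact absurd h' (by decide)

/-- collinear `y`'s commute -/
theorem line_comm (C : Cl t ι) (F : Fam t ι Y) (v : Fin 9 ↪ α) (π : Perm (Fin 9)) :
    Y (emb v (dt (π 0) (π 1) (π 2) (π 3))) * Y (emb v (dt (π 2) (π 3) (π 4) (π 5))) =
      Y (emb v (dt (π 2) (π 3) (π 4) (π 5))) * Y (emb v (dt (π 0) (π 1) (π 2) (π 3))) := by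
  have h := (F.line_pre C (π.toEmbedding.trans v)).1
  rw [emb_comp_dt v π (by decide) (by decide), emb_comp_dt v π (by decide) (by decide)] at h
  exact h

/-- **lines** -/
theorem line0 (C : Cl t ι) (F : Fam t ι Y) (v : Fin 9 ↪ α) :
    Y (emb v (dt 0 1 2 3)) * Y (emb v (dt 2 3 4 5)) * Y (emb v (dt 0 1 4 5)) = 1 := by
  have R12 : Rt (dt 0 1 2 3) := rt_dt (by decide)
  have R23 : Rt (dt 2 3 4 5) := rt_dt (by decide)
  have R13 : Rt (dt 0 1 4 5) := rt_dt (by decide)
  obtain ⟨h12, m, hm, e⟩ := F.line_pre C v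
  -- the other commutation, conjugating by elements of `A₉`
  have h23 : Y (emb v (dt 2 3 4 5)) * Y (emb v (dt 0 1 4 5)) =
      Y (emb v (dt 0 1 4 5)) * Y (emb v (dt 2 3 4 5)) := by
    have h4 := congrArg (fun z => cj z (Cl.jj ι v (tc 0 4 2 * tc 1 5 3))) h12
    simp only [cj_mul] at h4
    rwa [F.eq9 v R12 (m' := dt 2 3 4 5) _ (by decide),
      F.eq9 v R23 (m' := dt 0 1 4 5) _ (by decide)] at h4
  have c1 : cj m (dt 0 4 1 5) = m := by
    apply C.jj_inj v
    rw [← Cl.cj_jj, ← e]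
    simp only [cj_mul]
    rw [F.eq9 v R12 (m' := dt 2 3 4 5) (dt 0 4 1 5) (by decide),
      F.eq9 v R23 (m' := dt 0 1 2 3) (dt 0 4 1 5) (by decide),
      F.eq9 v R13 (m' := dt 0 1 4 5) (dt 0 4 1 5) (by decide), h12]
  have c2 : cj m (dt 0 2 1 3) = m := by
    apply C.jj_inj v
    rw [← Cl.cj_jj, ← e]
    simp only [cj_mul]
    rw [F.eq9 v R12 (m' := dt 0 1 2 3) (dt 0 2 1 3) (by decide),
      F.eq9 v R23 (m' := dt 0 1 4 5) (dt 0 2 1 3) (by decide),
      F.eq9 v R13 (m' := dt 2 3 4 5) (dt 0 2 1 3) (by decide), mul_assoc, ← h23, ← mul_assoc]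
  have hm1 : m = 1 := by
    rcases hm with rfl | rfl | rfl | rfl
    · rfl
    · exact absurd c1 (by decide)
    · exact absurd c1 (by decide)
    · exact absurd c2 (by decide)
  rw [e, hm1, map_one]

/-- lines, transported -/
theorem line_pi (C : Cl t ι) (F : Fam t ι Y) (v : Fin 9 ↪ α) (π : Perm (Fin 9)) :
    Y (emb v (dt (π 0) (π 1) (π 2) (π 3))) * Y (emb v (dt (π 2) (π 3) (π 4) (π 5))) *
      Y (emb v (dt (π 0) (π 1) (π 4) (π 5))) = 1 := by
  have h := F.line0 C (π.toEmbedding.trans v)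
  rw [emb_comp_dt v π (by decide) (by decide), emb_comp_dt v π (by decide) (by decide),
    emb_comp_dt v π (by decide) (by decide)] at h
  exact h

end Fam

/-- the four lines in `⟨r_ij⟩` -/
theorem four_abs {a b c d e f : G} (h1 : a * b * c = 1) (h2 : a * d * e = 1) (h3 : c * f * e = 1)
    (h4 : b * f * d = 1) (cbc : b * c = c * b) (cce : e * c = c * e) (cde : d * e = e * d)
    (cbe : b * e = e * b) : c * c = d * d := by
  have e1 : b * c = d * e := by
    have h5 : a * (b * c) = a * (d * e) := by rw [← mul_assoc, h1, ← mul_assoc, h2]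
    exact mul_left_cancel h5
  have e2 : e * c = d * b := by
    have f1 : f = c⁻¹ * e⁻¹ := by
      calc f = c⁻¹ * (c * f * e) * e⁻¹ := by group
        _ = c⁻¹ * e⁻¹ := by rw [h3]; group
    have f2 : f = b⁻¹ * d⁻¹ := by
      calc f = b⁻¹ * (b * f * d) * d⁻¹ := by group
        _ = b⁻¹ * d⁻¹ := by rw [h4]; group
    have f3 := congrArg (fun z => z⁻¹) (f1.symm.trans f2)
    simpa using f3
  have e3 : c * c * (b * e) = d * d * (b * e) := by
    calc c * c * (b * e) = c * (c * b) * e := by group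
      _ = c * (b * c) * e := by rw [cbc]
      _ = (c * b) * (c * e) := by group
      _ = (b * c) * (e * c) := by rw [cbc, cce]
      _ = (d * e) * (d * b) := by rw [e1, e2]
      _ = d * (e * d) * b := by group
      _ = d * (d * e) * b := by rw [cde]
      _ = d * d * (e * b) := by group
      _ = d * d * (b * e) := by rw [cbe]
  exact mul_right_cancel e3

theorem inj_of {m k : ℕ} (hm : m ≤ 9) {x : Fin m → Fin 9} {π : Perm (Fin 9)}
    (h : ∀ i : Fin m, π (Fin.castLE hm i) = x i) (i : Fin m) (j : Fin 9) (hj : Fin.castLE hm i = j)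
    (_ : k = 0) : π j = x i := by
  rw [← hj, h]

namespace Fam

variable {t : G} {ι : alternatingGroup α →* G} {Y : alternatingGroup α → G}

/-- disjoint supports, any letters -/
theorem disj (C : Cl t ι) (F : Fam t ι Y) (v : Fin 9 ↪ α) (a b c d e f g h : Fin 9)
    (hi : Function.Injective ![a, b, c, d, e, f, g, h]) {m m' : alternatingGroup (Fin 9)}
    (hm : dt a b c d = m) (hm' : dt e f g h = m') :
    Y (emb v m) * Y (emb v m') = Y (emb v m') * Y (emb v m) := by
  obtain ⟨π, hπ⟩ := exists_pi _ hi (by decide)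
  have e0 : π 0 = a := hπ 0
  have e1 : π 1 = b := hπ 1
  have e2 : π 2 = c := hπ 2
  have e3 : π 3 = d := hπ 3
  have e4 : π 4 = e := hπ 4
  have e5 : π 5 = f := hπ 5
  have e6 : π 6 = g := hπ 6
  have e7 : π 7 = h := hπ 7
  have := F.disj_pi C v π
  rw [e0, e1, e2, e3, e4, e5, e6, e7, hm, hm'] at this
  exact this

/-- collinear `y`'s commute, any letters -/
theorem col (C : Cl t ι) (F : Fam t ι Y) (v : Fin 9 ↪ α) (a b c d e f : Fin 9)
    (hi : Function.Injective ![a, b, c, d, e, f]) {m m' : alternatingGroup (Fin 9)}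
    (hm : dt a b c d = m) (hm' : dt c d e f = m') :
    Y (emb v m) * Y (emb v m') = Y (emb v m') * Y (emb v m) := by
  obtain ⟨π, hπ⟩ := exists_pi _ hi (by decide)
  have e0 : π 0 = a := hπ 0
  have e1 : π 1 = b := hπ 1
  have e2 : π 2 = c := hπ 2
  have e3 : π 3 = d := hπ 3
  have e4 : π 4 = e := hπ 4
  have e5 : π 5 = f := hπ 5
  have := F.line_comm C v π
  rw [e0, e1, e2, e3, e4, e5, hm, hm'] at this
  exact this

/-- lines, any letters -/
theorem line (C : Cl t ι) (F : Fam t ι Y) (v : Fin 9 ↪ α) (a b c d e f : Fin 9)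
    (hi : Function.Injective ![a, b, c, d, e, f]) {m m' m'' : alternatingGroup (Fin 9)}
    (hm : dt a b c d = m) (hm' : dt c d e f = m') (hm'' : dt a b e f = m'') :
    Y (emb v m) * Y (emb v m') * Y (emb v m'') = 1 := by
  obtain ⟨π, hπ⟩ := exists_pi _ hi (by decide)
  have e0 : π 0 = a := hπ 0
  have e1 : π 1 = b := hπ 1
  have e2 : π 2 = c := hπ 2
  have e3 : π 3 = d := hπ 3
  have e4 : π 4 = e := hπ 4
  have e5 : π 5 = f := hπ 5
  have := F.line_pi C v π
  rw [e0, e1, e2, e3, e4, e5, hm, hm', hm''] at this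
  exact this

/-- `V_B`-lines, any letters -/
theorem vbl (F : Fam t ι Y) (v : Fin 9 ↪ α) (a b c d : Fin 9)
    (hi : Function.Injective ![a, b, c, d]) {m m' m'' : alternatingGroup (Fin 9)}
    (hm : dt a b c d = m) (hm' : dt a c b d = m') (hm'' : dt a d b c = m'') :
    Y (emb v m) * Y (emb v m') * Y (emb v m'') = 1 := by
  obtain ⟨π, hπ⟩ := exists_pi _ hi (by decide)
  have e0 : π 0 = a := hπ 0
  have e1 : π 1 = b := hπ 1
  have e2 : π 2 = c := hπ 2
  have e3 : π 3 = d := hπ 3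
  have := F.vb_pi v π
  rw [e0, e1, e2, e3, hm, hm', hm''] at this
  exact this

/-- **`y_r` is an involution** -/
theorem invol0 (C : Cl t ι) (F : Fam t ι Y) (v : Fin 9 ↪ α) :
    Y (emb v (dt 0 1 4 5)) * Y (emb v (dt 0 1 4 5)) = 1 := by
  have h := four_abs (F.line C v 0 1 2 3 4 5 (by decide) rfl rfl rfl)
    (F.line C v 0 1 2 3 6 7 (by decide) rfl rfl rfl)
    (F.line C v 0 1 4 5 6 7 (by decide) rfl rfl rfl)
    (F.line C v 2 3 4 5 6 7 (by decide) rfl rfl rfl)
    (F.col C v 2 3 4 5 0 1 (by decide) rfl (by decide))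
    (F.col C v 6 7 0 1 4 5 (by decide) (by decide) rfl)
    (F.col C v 2 3 6 7 0 1 (by decide) rfl (by decide))
    (F.disj C v 2 3 4 5 0 1 6 7 (by decide) rfl rfl)
  rcases F.sq_rt C v (m := dt 0 1 4 5) (rt_dt (by decide)) with e | e
  · exact e
  · exfalso
    rcases F.sq_rt C v (m := dt 2 3 6 7) (rt_dt (by decide)) with e' | e'
    · rw [e, e', ← map_one (Cl.jj ι v)] at h
      exact absurd (C.jj_inj v h) (by decide)
    · rw [e, e'] at h
      exact absurd (C.jj_inj v h) (by decide)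

theorem invol (C : Cl t ι) (F : Fam t ι Y) (v : Fin 9 ↪ α) {m : alternatingGroup (Fin 9)}
    (hm : Rt m) : Y (emb v m) * Y (emb v m) = 1 := by
  obtain ⟨π, rfl⟩ := hm
  have h := F.invol0 C ((π * (swap 4 2 * swap 5 3) : Perm (Fin 9)).toEmbedding.trans v)
  rw [emb_comp_dt v _ (by decide) (by decide)] at h
  exact h

end Fam

end Cfsg.Agent.OddHalf.D5.Dbl

end

-- merged: Cfsg.Agent.OddHalf.D5.DblSpec
section

/-!
# ODD D5 (helper845): special pairs `r = (01)(45)`, `s = (02)(13)`, `q = [r, s] = (01)(23)`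
-/

set_option autoImplicit false
set_option linter.unusedSectionVars false

namespace Cfsg.Agent.OddHalf.D5.Dbl

open Equiv

variable {α : Type*} [Fintype α] [DecidableEq α] {G : Type*} [Group G]

/-- rules for a special pair -/
structure SpR (t r s q yr ys yq : G) : Prop where
  T1 : cj t yr = t * r
  T2 : cj t ys = t * s
  T3 : cj t yq = t * q
  R1 : cj r yr = r
  R2 : cj r ys = r * yq
  R3 : cj r yq = r
  S1 : cj s yr = s * yq
  S2 : cj s ys = s
  S3 : cj s yq = s
  Q1 : cj q yr = q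
  Q2 : cj q ys = q
  Q3 : cj q yq = q
  Z1 : cj yq yr = yq
  Z2 : cj yq ys = yq
  ss : s * s = 1
  qq : q * q = 1
  zz : yq * yq = 1
  rsr : r * s * r = s * q
  zr : yq * r = r * yq

theorem SpR.t_eq {t r s q yr ys yq : G} (h : SpR t r s q yr ys yq) :
    cj t (yr * ys * yr * ys * yq) = t := by
  have h1 : cj t (yr * ys * yr) = t * s * q := by
    rw [cj_comp, cj_comp, h.T1, cj_mul, h.T2, h.R2, cj_mul, cj_mul, cj_mul, h.T1, h.S1, h.R1, h.Z1]
    calc t * r * (s * yq) * (r * yq) = t * r * s * (yq * r) * yq := by group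
      _ = t * (r * s * r) * (yq * yq) := by rw [h.zr]; group
      _ = t * s * q := by rw [h.rsr, h.zz]; group
  have h2 : cj t (yr * ys * yr * ys) = t * q := by
    rw [cj_comp, h1, cj_mul, cj_mul, h.T2, h.S2, h.Q2]
    calc t * s * s * q = t * (s * s) * q := by group
      _ = t * q := by rw [h.ss]; group
  rw [cj_comp, h2, cj_mul, h.T3, h.Q3, mul_assoc, h.qq, mul_one]

theorem SpR.r_eq {t r s q yr ys yq : G} (h : SpR t r s q yr ys yq) :
    cj r (yr * ys * yr * ys * yq) = r := by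
  rw [cj_comp, cj_comp, cj_comp, cj_comp, h.R1, h.R2, cj_mul, h.R1, h.Z1, cj_mul, h.R2, h.Z2,
    mul_assoc, h.zz, mul_one, h.R3]

theorem SpR.s_eq {t r s q yr ys yq : G} (h : SpR t r s q yr ys yq) :
    cj s (yr * ys * yr * ys * yq) = s := by
  rw [cj_comp, cj_comp, cj_comp, cj_comp, h.S1, cj_mul, h.S2, h.Z2, cj_mul, h.S1, h.Z1,
    mul_assoc s, h.zz, mul_one, h.S2, h.S3]

/-- the `t`-case is impossible -/
theorem SpR.no_t {t r s q yr ys yq e : G} (h : SpR t r s q yr ys yq) (hrs : r ≠ s)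
    (hrr : yr * yr = 1) (hss : ys * ys = 1) (he1 : cj e yr = e) (he2 : cj e ys = e)
    (hx : yr * ys * yr * ys * yq = t * e) : False := by
  have i1 : yr⁻¹ = yr := inv_eq_of_mul_eq_one_left hrr
  have i2 : ys⁻¹ = ys := inv_eq_of_mul_eq_one_left hss
  have ha : yr * ys * yr * ys = t * e * yq := by
    rw [← hx]
    calc yr * ys * yr * ys = yr * ys * yr * ys * (yq * yq) := by rw [h.zz, mul_one]
      _ = yr * ys * yr * ys * yq * yq := by group
  have h1 : cj (yr * ys * yr * ys) yr = ys * yr * ys * yr := by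
    rw [cj]; group
  have h2 : cj (yr * ys * yr * ys) ys = ys * yr * ys * yr := by
    rw [cj, i2]
    calc ys * (yr * ys * yr * ys) * ys = ys * yr * ys * yr * (ys * ys) := by group
      _ = ys * yr * ys * yr := by rw [hss, mul_one]
  have h3 := h1.trans h2.symm
  rw [ha, cj_mul, cj_mul, cj_mul, cj_mul, h.T1, h.T2, he1, he2, h.Z1, h.Z2] at h3
  exact hrs (mul_left_cancel (mul_right_cancel (mul_right_cancel h3)))

namespace Fam

variable {t : G} {ι : alternatingGroup α →* G} {Y : alternatingGroup α → G}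

theorem inv_eq (C : Cl t ι) (F : Fam t ι Y) (v : Fin 9 ↪ α) {m : alternatingGroup (Fin 9)}
    (hm : Rt m) : (Y (emb v m))⁻¹ = Y (emb v m) :=
  inv_eq_of_mul_eq_one_left (F.invol C v hm)

/-- three involutions with product one -/
theorem three_abs {a b c : G} (h : a * b * c = 1) (ha : a * a = 1) (hb : b * b = 1)
    (hc : c * c = 1) : a * b = c ∧ b * c = a ∧ a * b = b * a ∧ b * a = c := by
  have ic : c⁻¹ = c := inv_eq_of_mul_eq_one_left hc
  have ia : a⁻¹ = a := inv_eq_of_mul_eq_one_left ha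
  have ib : b⁻¹ = b := inv_eq_of_mul_eq_one_left hb
  have h1 : a * b = c := by rw [mul_eq_one_iff_eq_inv.1 h, ic]
  have h2 : b * c = a := by
    rw [mul_assoc] at h
    rw [← ia]; exact (inv_eq_of_mul_eq_one_right h).symm
  have h3 : b * a = c := by
    have := congrArg (fun z => z⁻¹) h1
    simpa [ia, ib, ic] using this
  exact ⟨h1, h2, h1.trans h3.symm, h3⟩

theorem conj_rule {y r y' z : G} (hy : y * y = 1) (h : cj y r = y') (hz : y' * y = z) :
    cj r y = r * z := by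
  have iy : y⁻¹ = y := inv_eq_of_mul_eq_one_left hy
  rw [cj_eq_iff] at h
  rw [cj, iy, h, mul_assoc, hz]

/-- the rules for the special pair -/
theorem spR (C : Cl t ι) (F : Fam t ι Y) (v : Fin 9 ↪ α) :
    SpR t (Cl.jj ι v (dt 0 1 4 5)) (Cl.jj ι v (dt 0 2 1 3)) (Cl.jj ι v (dt 0 1 2 3))
      (Y (emb v (dt 0 1 4 5))) (Y (emb v (dt 0 2 1 3))) (Y (emb v (dt 0 1 2 3))) := by
  have Rr : Rt (dt 0 1 4 5) := rt_dt (by decide)
  have Rs : Rt (dt 0 2 1 3) := rt_dt (by decide)
  have Rq : Rt (dt 0 1 2 3) := rt_dt (by decide)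
  have Rsq : Rt (dt 0 3 1 2) := rt_dt (by decide)
  have Rrq : Rt (dt 2 3 4 5) := rt_dt (by decide)
  have hl := three_abs (F.line C v 0 1 2 3 4 5 (by decide) rfl rfl rfl) (F.invol C v Rq)
    (F.invol C v Rrq) (F.invol C v Rr)
  have hv := three_abs (F.vbl v 0 1 2 3 (by decide) rfl rfl rfl) (F.invol C v Rq)
    (F.invol C v Rs) (F.invol C v Rsq)
  have sq : ∀ m : alternatingGroup (Fin 9), m * m = 1 → Cl.jj ι v m * Cl.jj ι v m = 1 := by
    intro m hm
    rw [← map_mul, hm, map_one]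
  exact
    { T1 := F.mv_rt v Rr
      T2 := F.mv_rt v Rs
      T3 := F.mv_rt v Rq
      R1 := cj_eq (F.comm9 v Rr (by decide)).symm
      R2 := by
        apply conj_rule (F.invol C v Rs) (F.eq9 v Rs (m' := dt 0 3 1 2) _ (by decide))
        rw [← hv.1, mul_assoc, F.invol C v Rs, mul_one]
      R3 := cj_eq (F.comm9 v Rq (by decide)).symm
      S1 := by
        apply conj_rule (F.invol C v Rr) (F.eq9 v Rr (m' := dt 2 3 4 5) _ (by decide))
        exact hl.2.1
      S2 := cj_eq (F.comm9 v Rs (by decide)).symm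
      S3 := cj_eq (F.comm9 v Rq (by decide)).symm
      Q1 := cj_eq (F.comm9 v Rr (by decide)).symm
      Q2 := cj_eq (F.comm9 v Rs (by decide)).symm
      Q3 := cj_eq (F.comm9 v Rq (by decide)).symm
      Z1 := cj_eq (F.col C v 2 3 0 1 4 5 (by decide) (by decide) rfl)
      Z2 := cj_eq hv.2.2.1
      ss := sq _ (by decide)
      qq := sq _ (by decide)
      zz := F.invol C v Rq
      rsr := by rw [← map_mul, ← map_mul, ← map_mul]; exact congrArg _ (by decide)
      zr := F.comm9 v Rq (by decide) }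

/-- **special pairs**: `(y_r y_s)² = y_q q^δ` -/
theorem special (C : Cl t ι) (F : Fam t ι Y) (v : Fin 9 ↪ α) :
    ∃ m : alternatingGroup (Fin 9), (m = 1 ∨ m = dt 0 1 2 3) ∧
      Y (emb v (dt 0 1 4 5)) * Y (emb v (dt 0 2 1 3)) * Y (emb v (dt 0 1 4 5)) *
        Y (emb v (dt 0 2 1 3)) * Y (emb v (dt 0 1 2 3)) = Cl.jj ι v m := by
  have Rr : Rt (dt 0 1 4 5) := rt_dt (by decide)
  have Rs : Rt (dt 0 2 1 3) := rt_dt (by decide)
  have Rq : Rt (dt 0 1 2 3) := rt_dt (by decide)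
  have S := F.spR C v
  obtain ⟨k, hk, hkc⟩ := C.cent_key (cj_self_iff.1 S.t_eq).symm
  have h1 : k * emb v (dt 0 1 4 5) = emb v (dt 0 1 4 5) * k :=
    (hkc _ (cj_self_iff.1 S.r_eq)).symm
  have h2 : k * emb v (dt 0 2 1 3) = emb v (dt 0 2 1 3) * k :=
    (hkc _ (cj_self_iff.1 S.s_eq)).symm
  have eq : emb v (dt 0 1 2 3) = emb v (dt 0 1 4 5) * emb v (dt 0 2 1 3) * emb v (dt 0 1 4 5) *
      emb v (dt 0 2 1 3) := by
    rw [← map_mul, ← map_mul, ← map_mul]; exact congrArg _ (by decide)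
  have h3 : ∀ l : alternatingGroup α, l * emb v (dt 0 1 4 5) = emb v (dt 0 1 4 5) * l →
      l * emb v (dt 0 2 1 3) = emb v (dt 0 2 1 3) * l → l * k = k * l := by
    intro l ha hb
    have hq : l * emb v (dt 0 1 2 3) = emb v (dt 0 1 2 3) * l := by
      rw [eq]
      have c1 : Commute l (emb v (dt 0 1 4 5)) := ha
      have c2 : Commute l (emb v (dt 0 2 1 3)) := hb
      exact (((c1.mul_right c2).mul_right c1).mul_right c2).eq
    apply hkc
    have b1 : Commute (Y (emb v (dt 0 1 4 5))) (ι l) := F.comm_rt v Rr ha.symm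
    have b2 : Commute (Y (emb v (dt 0 2 1 3))) (ι l) := F.comm_rt v Rs hb.symm
    have b3 : Commute (Y (emb v (dt 0 1 2 3))) (ι l) := F.comm_rt v Rq hq.symm
    exact ((((b1.mul_left b2).mul_left b1).mul_left b2).mul_left b3).eq.symm
  obtain ⟨m, hm, rfl⟩ : ∃ m : alternatingGroup (Fin 9), (m = 1 ∨ m = dt 0 1 2 3) ∧ k = emb v m := by
    rcases cent_special v k h3 h1 h2 with e | e
    · exact ⟨1, Or.inl rfl, by rw [map_one]; exact e⟩
    · exact ⟨_, Or.inr rfl, e⟩
  refine ⟨m, hm, ?_⟩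
  rcases hk with hk | hk
  · exact hk
  · exfalso
    apply S.no_t (e := Cl.jj ι v m) _ (F.invol C v Rr) (F.invol C v Rs) _ _ hk
    · intro h
      exact absurd (C.jj_inj v h) (by decide)
    · exact cj_eq (F.comm9 v Rr (by rcases hm with rfl | rfl <;> decide)).symm
    · exact cj_eq (F.comm9 v Rs (by rcases hm with rfl | rfl <;> decide)).symm

end Fam

end Cfsg.Agent.OddHalf.D5.Dbl

end

-- merged: Cfsg.Agent.OddHalf.D5.DblInd
section

/-!
# ODD D5 (helper845): `y_{(ab)(xy)} y_{(bc)(xy)}` does not depend on `{x, y}`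
-/

set_option autoImplicit false
set_option linter.unusedSectionVars false

namespace Cfsg.Agent.OddHalf.D5.Dbl

open Equiv

variable {α : Type*} [Fintype α] [DecidableEq α] {G : Type*} [Group G]

/-- embeddings with prescribed first values, from a list without repetitions -/
theorem exists_emb_list (hn : 9 ≤ Fintype.card α) {m : ℕ} (x : Fin m → α)
    (hx : (List.ofFn x).Nodup) (hm : m ≤ 9) : ∃ v : Fin 9 ↪ α, ∀ i : Fin m, v (Fin.castLE hm i) = x i :=
  exists_emb hn x (List.nodup_ofFn.1 hx) hm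

/-- two letters outside a set of at most 7 letters -/
theorem two_fresh (hn : 9 ≤ Fintype.card α) (l : List α) (hl : l.length ≤ 7) :
    ∃ p q : α, p ∉ l ∧ q ∉ l ∧ p ≠ q := by
  have h1 : 1 < (Finset.univ \ l.toFinset).card := by
    have h2 := Finset.le_card_sdiff l.toFinset (Finset.univ : Finset α)
    have h3 : l.toFinset.card ≤ l.length := l.toFinset_card_le
    rw [Finset.card_univ] at h2
    omega
  obtain ⟨p, hp, q, hq, hpq⟩ := Finset.one_lt_card.1 h1
  simp only [Finset.mem_sdiff, Finset.mem_univ, List.mem_toFinset, true_and] at hp hq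
  exact ⟨p, q, hp, hq, hpq⟩

theorem dt_symm {β : Type*} [Fintype β] [DecidableEq β] {a b c d : β} (h : [a, b, c, d].Nodup) :
    dt a b c d = dt c d a b := by
  simp only [List.nodup_cons, List.mem_cons, List.not_mem_nil, or_false, not_or,
    List.nodup_nil, and_true, not_false_eq_true] at h
  obtain ⟨⟨hab, hac, had⟩, ⟨hbc, hbd⟩, hcd⟩ := h
  apply Subtype.ext
  rw [dt_coe hab hcd, dt_coe hcd hab]
  exact (sw_comm hac had hbc hbd).eq

theorem dt_swap_left {β : Type*} [Fintype β] [DecidableEq β] (a b c d : β) :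
    dt a b c d = dt b a c d := by
  rw [dt, dt]
  by_cases h : a ≠ b ∧ c ≠ d
  · rw [dif_pos h, dif_pos ⟨h.1.symm, h.2⟩]
    simp only [swap_comm a b]
  · rw [dif_neg h, dif_neg (fun h' => h ⟨h'.1.symm, h'.2⟩)]

theorem dt_swap_right {β : Type*} [Fintype β] [DecidableEq β] (a b c d : β) :
    dt a b c d = dt a b d c := by
  rw [dt, dt]
  by_cases h : a ≠ b ∧ c ≠ d
  · rw [dif_pos h, dif_pos ⟨h.1, h.2.symm⟩]
    simp only [swap_comm c d]
  · rw [dif_neg h, dif_neg (fun h' => h ⟨h'.1, h'.2.symm⟩)]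

namespace Fam

variable {t : G} {ι : alternatingGroup α →* G} {Y : alternatingGroup α → G}

theorem ind_abs {a b c d e : G} (h1 : a * e * c = 1) (h2 : b * e * d = 1) (hd : d * d = 1)
    (hc : c * c = 1) (he : e * e = 1) (ha : a * a = 1) (hb : b * b = 1) : a * b = c * d := by
  have h3 := (three_abs h1 ha he hc).1
  have h4 := (three_abs h2 hb he hd).2.1
  have h6 : a = c * e := by rw [← h3, mul_assoc, he, mul_one]
  rw [h6, ← h4, mul_assoc, ← mul_assoc e e d, he, one_mul]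

theorem ind_w (C : Cl t ι) (F : Fam t ι Y) (w : Fin 9 ↪ α) :
    Y (emb w (dt 0 1 3 4)) * Y (emb w (dt 1 2 3 4)) =
      Y (emb w (dt 0 1 5 6)) * Y (emb w (dt 1 2 5 6)) :=
  ind_abs (F.line C w 0 1 3 4 5 6 (by decide) rfl rfl rfl)
    (F.line C w 1 2 3 4 5 6 (by decide) rfl rfl rfl) (F.invol C w (rt_dt (by decide)))
    (F.invol C w (rt_dt (by decide))) (F.invol C w (rt_dt (by decide)))
    (F.invol C w (rt_dt (by decide))) (F.invol C w (rt_dt (by decide)))

/-- first form, five plus two letters -/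
theorem ind7 (C : Cl t ι) (F : Fam t ι Y) {a b c x y p q : α} (h : [a, b, c, x, y, p, q].Nodup) :
    Y (dt a b x y) * Y (dt b c x y) = Y (dt a b p q) * Y (dt b c p q) := by
  obtain ⟨w, hw⟩ := exists_emb_list C.h9 ![a, b, c, x, y, p, q] h (by decide)
  have e0 : w 0 = a := hw 0
  have e1 : w 1 = b := hw 1
  have e2 : w 2 = c := hw 2
  have e3 : w 3 = x := hw 3
  have e4 : w 4 = y := hw 4
  have e5 : w 5 = p := hw 5
  have e6 : w 6 = q := hw 6
  have h1 := F.ind_w C w
  rw [emb_dt w (by decide) (by decide), emb_dt w (by decide) (by decide),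
    emb_dt w (by decide) (by decide), emb_dt w (by decide) (by decide), e0, e1, e2, e3, e4, e5,
    e6] at h1
  exact h1

/-- **independence** -/
theorem ind (C : Cl t ι) (F : Fam t ι Y) {a b c x y x' y' : α} (h : [a, b, c, x, y].Nodup)
    (h' : [a, b, c, x', y'].Nodup) :
    Y (dt a b x y) * Y (dt b c x y) = Y (dt a b x' y') * Y (dt b c x' y') := by
  obtain ⟨p, q, hp, hq, hpq⟩ := two_fresh C.h9 [a, b, c, x, y, x', y'] (by simp)
  simp only [List.mem_cons, List.not_mem_nil, or_false, not_or] at hp hq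
  simp only [List.nodup_cons, List.mem_cons, List.not_mem_nil, or_false, not_or,
    List.nodup_nil, and_true, not_false_eq_true] at h h'
  rw [F.ind7 C (p := p) (q := q), F.ind7 C (x := x') (p := p) (q := q)]
  · simp only [List.nodup_cons, List.mem_cons, List.not_mem_nil, or_false, not_or,
      List.nodup_nil, and_true, not_false_eq_true]
    refine ⟨⟨h'.1.1, h'.1.2.1, h'.1.2.2.1, h'.1.2.2.2, Ne.symm hp.1, Ne.symm hq.1⟩,
      ⟨h'.2.1.1, h'.2.1.2.1, h'.2.1.2.2, Ne.symm hp.2.1, Ne.symm hq.2.1⟩,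
      ⟨h'.2.2.1.1, h'.2.2.1.2, Ne.symm hp.2.2.1, Ne.symm hq.2.2.1⟩,
      ⟨h'.2.2.2, Ne.symm hp.2.2.2.2.2.1, Ne.symm hq.2.2.2.2.2.1⟩,
      ⟨Ne.symm hp.2.2.2.2.2.2, Ne.symm hq.2.2.2.2.2.2⟩, hpq⟩
  · simp only [List.nodup_cons, List.mem_cons, List.not_mem_nil, or_false, not_or,
      List.nodup_nil, and_true, not_false_eq_true]
    refine ⟨⟨h.1.1, h.1.2.1, h.1.2.2.1, h.1.2.2.2, Ne.symm hp.1, Ne.symm hq.1⟩,
      ⟨h.2.1.1, h.2.1.2.1, h.2.1.2.2, Ne.symm hp.2.1, Ne.symm hq.2.1⟩,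
      ⟨h.2.2.1.1, h.2.2.1.2, Ne.symm hp.2.2.1, Ne.symm hq.2.2.1⟩,
      ⟨h.2.2.2, Ne.symm hp.2.2.2.1, Ne.symm hq.2.2.2.1⟩,
      ⟨Ne.symm hp.2.2.2.2.1, Ne.symm hq.2.2.2.2.1⟩, hpq⟩

theorem nodup5 (v : Fin 9 ↪ α) {i j k l m : Fin 9} (h : [i, j, k, l, m].Nodup) :
    [v i, v j, v k, v l, v m].Nodup := by
  have : [v i, v j, v k, v l, v m] = [i, j, k, l, m].map v := rfl
  rw [this]
  exact h.map v.injective

/-- `y_{(ab)(xy)} y_{(bc)(xy)}` commutes with the permutations fixing `a, b, c` -/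
theorem ind_comm (C : Cl t ι) (F : Fam t ι Y) (v : Fin 9 ↪ α) {i j l m n : Fin 9}
    (hd : [i, j, l, m, n].Nodup) {k : alternatingGroup α}
    (hi : (k : Perm α) (v i) = v i) (hj : (k : Perm α) (v j) = v j) (hl : (k : Perm α) (v l) = v l) :
    (Y (emb v (dt i j m n)) * Y (emb v (dt j l m n))) * ι k =
      ι k * (Y (emb v (dt i j m n)) * Y (emb v (dt j l m n))) := by
  have hd' := hd
  simp only [List.nodup_cons, List.mem_cons, List.not_mem_nil, or_false, not_or,
    List.nodup_nil, and_true, not_false_eq_true] at hd'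
  have R1 : Rt (dt i j m n) := rt_dt (List.nodup_ofFn.1 (show [i, j, m, n].Nodup by
    simp [hd'.1.1, hd'.1.2.2.1, hd'.1.2.2.2, hd'.2.1.2.1, hd'.2.1.2.2, hd'.2.2.2]))
  have R2 : Rt (dt j l m n) := rt_dt (List.nodup_ofFn.1 (show [j, l, m, n].Nodup by
    simp [hd'.2.1.1, hd'.2.2.1.1, hd'.2.2.1.2, hd'.2.1.2.1, hd'.2.1.2.2, hd'.2.2.2]))
  rw [← cj_self_iff, cj_mul, F.equi_rt v R1, F.equi_rt v R2]
  have kf : ∀ x : α, (k : Perm α) x = x → ((k : Perm α)⁻¹) x = x := by
    intro x hx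
    conv_lhs => rw [← hx]
    exact (k : Perm α).symm_apply_apply x
  rw [emb_dt v hd'.1.1 hd'.2.2.2, emb_dt v hd'.2.1.1 hd'.2.2.2, cj, cj, dt_conj', dt_conj',
    kf _ hi, kf _ hj, kf _ hl]
  apply F.ind C _ (nodup5 v hd)
  have h1 : [v i, v j, v l, ((k : Perm α)⁻¹) (v m), ((k : Perm α)⁻¹) (v n)] =
      [v i, v j, v l, v m, v n].map (⇑((k : Perm α)⁻¹ : Perm α)) := by
    simp only [List.map_cons, List.map_nil, kf _ hi, kf _ hj, kf _ hl]
  rw [h1]
  exact (nodup5 v hd).map ((k : Perm α)⁻¹).injective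

end Fam

end Cfsg.Agent.OddHalf.D5.Dbl

end

-- merged: Cfsg.Agent.OddHalf.D5.DblDelta
section

/-!
# ODD D5 (helper845): `δ = 0`
-/

set_option autoImplicit false
set_option linter.unusedSectionVars false

namespace Cfsg.Agent.OddHalf.D5.Dbl

open Equiv

/-- an involution whose centraliser has the form `⟨t⟩ × (exponent 3)` -/
theorem exists_odd_kernel {X : Type*} [Group X] [Finite X] {t : X} (tt : t * t = 1) (t1 : t ≠ 1)
    (hc : ∀ g : X, g * t = t * g → g * g * g = 1 ∨ (t * g) * (t * g) * (t * g) = 1) :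
    ∃ N : Subgroup X, ¬ 2 ∣ Nat.card N ∧ (∀ x, x * x ∈ N) ∧ (∀ x, x * x * x = 1 → x ∈ N) := by
  have : Fact (Nat.Prime 2) := ⟨Nat.prime_two⟩
  have ot : orderOf t = 2 := orderOf_eq_prime (by rw [pow_two, tt]) t1
  have hp : IsPGroup 2 (Subgroup.zpowers t) :=
    IsPGroup.of_card (n := 1) (by rw [Nat.card_zpowers, ot, pow_one])
  obtain ⟨P, hP⟩ := hp.exists_le_sylow
  have htP : t ∈ (P : Subgroup X) := hP (Subgroup.mem_zpowers t)
  -- a 2-element of order dividing 3 is trivial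
  have key : ∀ g ∈ (P : Subgroup X), g * g * g = 1 → g = 1 := by
    intro g hg h3
    obtain ⟨k, hk⟩ := P.isPGroup'.exists_card_eq
    have h1 : orderOf g ∣ 3 := orderOf_dvd_of_pow_eq_one (by rw [pow_succ, pow_two, h3])
    have h2 : orderOf g ∣ 2 ^ k := by
      rw [← hk, ← Subgroup.orderOf_mk g hg]
      exact orderOf_dvd_natCard _
    have h4 : Nat.Coprime 3 (2 ^ k) := Nat.Coprime.pow_right _ (by decide)
    have h5 : orderOf g ∣ 1 := by
      have := Nat.dvd_gcd h1 h2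
      rwa [Nat.Coprime.gcd_eq_one h4] at this
    exact orderOf_eq_one_iff.1 (Nat.dvd_one.1 h5)
  have key2 : ∀ g ∈ (P : Subgroup X), g * t = t * g → g = 1 ∨ g = t := by
    intro g hg hgt
    rcases hc g hgt with h | h
    · exact Or.inl (key g hg h)
    · right
      have h1 := key _ (mul_mem htP hg) h
      rw [mul_eq_one_iff_inv_eq] at h1
      rw [← h1, inv_eq_iff_mul_eq_one, tt]
  -- the centre
  have hnt : Nontrivial (P : Subgroup X) := ⟨⟨⟨t, htP⟩, 1, fun h => t1 (congrArg Subtype.val h)⟩⟩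
  have hZ : Nontrivial (Subgroup.center (P : Subgroup X)) := P.isPGroup'.center_nontrivial
  obtain ⟨z, hz⟩ := exists_ne (1 : Subgroup.center (P : Subgroup X))
  have hz1 : ((z : (P : Subgroup X)) : X) ≠ 1 := by
    intro h
    exact hz (Subtype.ext (Subtype.ext h))
  have hzc : ∀ g ∈ (P : Subgroup X), g * ((z : (P : Subgroup X)) : X) = ((z : (P : Subgroup X)) : X) * g := by
    intro g hg
    have := Subgroup.mem_center_iff.1 z.2 ⟨g, hg⟩
    exact congrArg Subtype.val this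
  have hzt : ((z : (P : Subgroup X)) : X) = t := by
    rcases key2 _ z.1.2 (hzc t htP).symm with h | h
    · exact absurd h hz1
    · exact h
  rw [hzt] at hzc
  have hall : ∀ g ∈ (P : Subgroup X), g = 1 ∨ g = t := fun g hg => key2 g hg (hzc g hg)
  have hsq : ∀ g : (P : Subgroup X), g * g = 1 := by
    intro g
    apply Subtype.ext
    rcases hall g.1 g.2 with h | h
    · show g.1 * g.1 = 1
      rw [h, one_mul]
    · show g.1 * g.1 = 1
      rw [h, tt]
  have hcyc : IsCyclic (P : Subgroup X) := by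
    refine ⟨⟨⟨t, htP⟩, ?_⟩⟩
    intro g
    rcases hall g.1 g.2 with h | h
    · rw [show g = 1 from Subtype.ext h]
      exact (Subgroup.zpowers (⟨t, htP⟩ : (P : Subgroup X))).one_mem
    · rw [show g = ⟨t, htP⟩ from Subtype.ext h]; exact Subgroup.mem_zpowers _
  have hmin : (Nat.card X).minFac = 2 := by
    rw [Nat.minFac_eq_two_iff, ← ot]
    exact orderOf_dvd_natCard t
  have hle := hcyc.normalizer_le_centralizer hmin
  refine ⟨(MonoidHom.transferSylow P hle).ker, MonoidHom.not_dvd_card_ker_transferSylow P hle, ?_, ?_⟩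
  · intro x
    rw [MonoidHom.mem_ker, map_mul]
    exact hsq _
  · intro x hx
    have h1 : MonoidHom.transferSylow P hle (x * x * x) = 1 := by rw [hx, map_one]
    rw [map_mul, map_mul, hsq, one_mul] at h1
    exact h1

/-- `h` of odd order commutes with what `h²` commutes with -/
theorem comm_of_sq {G : Type*} [Group G] {h A : G} (ho : ¬ 2 ∣ orderOf h)
    (hA : A * (h * h) = (h * h) * A) : A * h = h * A := by
  obtain ⟨k, hk⟩ : ∃ k, orderOf h = 2 * k + 1 := by
    refine ⟨orderOf h / 2, by omega⟩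
  have h1 : h = (h * h) ^ (k + 1) := by
    rw [← pow_two, ← pow_mul]
    have : 2 * (k + 1) = orderOf h + 1 := by omega
    rw [this, pow_succ, pow_orderOf_eq_one, one_mul]
  have h2 : Commute A (h * h) := hA
  have h3 := (h2.pow_right (k + 1)).eq
  rwa [← h1] at h3

section Abs

variable {G : Type*} [Group G]

/-- commuting involutions -/
structure Ab4 (A B a b : G) : Prop where
  AA : A * A = 1
  BB : B * B = 1
  aa : a * a = 1
  bb : b * b = 1
  AB : B * A = A * B
  Aa : a * A = A * a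
  Ab : b * A = A * b
  Ba : a * B = B * a
  Bb : b * B = B * b
  ab : b * a = a * b

theorem asc {x y z : G} (h : x * y = y * x) : x * (y * z) = y * (x * z) := by
  rw [← mul_assoc, h, mul_assoc]

theorem sqc {x z : G} (h : x * x = 1) : x * (x * z) = z := by
  rw [← mul_assoc, h, one_mul]

theorem delta_abs {A B a b x y ρ : G} (W : Ab4 A B a b)
    (A1 : cj A x = A) (a1 : cj a x = a) (B1 : cj B x = B * a) (b1 : cj b x = b * a * A)
    (B2 : cj B y = B) (b2 : cj b y = b) (A2 : cj A y = A * b) (a2 : cj a y = a * b * B)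
    (A3 : cj A ρ = B) (B3 : cj B ρ = A * B) (a3 : cj a ρ = b) :
    cj A (x * y * x * y * ρ) = A * B * b ∧ cj B (x * y * x * y * ρ) = B ∧
      cj b (x * y * x * y * ρ) = b := by
  obtain ⟨AA, BB, aa, bb, AB, Aa, Ab, Ba, Bb, ab⟩ := W
  have s1 : cj A (x * y * x * y) = B * a := by
    simp only [cj_comp, A1, cj_mul, a1, B1, b1, B2, b2, A2, a2]
    simp only [mul_assoc, AA, BB, aa, bb, AB, Aa, Ab, Ba, Bb, ab, asc AB, asc Aa, asc Ab, asc Ba,
      asc Bb, asc ab, sqc AA, sqc BB, sqc aa, sqc bb, mul_one, one_mul]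
  have s2 : cj B (x * y * x * y) = A := by
    simp only [cj_comp, A1, cj_mul, a1, B1, b1, B2, b2, A2, a2]
    simp only [mul_assoc, AA, BB, aa, bb, AB, Aa, Ab, Ba, Bb, ab, asc AB, asc Aa, asc Ab, asc Ba,
      asc Bb, asc ab, sqc AA, sqc BB, sqc aa, sqc bb, mul_one, one_mul]
  have s3 : cj b (x * y * x * y) = a := by
    simp only [cj_comp, A1, cj_mul, a1, B1, b1, B2, b2, A2, a2]
    simp only [mul_assoc, AA, BB, aa, bb, AB, Aa, Ab, Ba, Bb, ab, asc AB, asc Aa, asc Ab, asc Ba,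
      asc Bb, asc ab, sqc AA, sqc BB, sqc aa, sqc bb, mul_one, one_mul]
  refine ⟨?_, ?_, ?_⟩
  · rw [cj_comp, s1, cj_mul, B3, a3]
  · rw [cj_comp, s2, A3]
  · rw [cj_comp, s3, a3]

theorem delta_false {t A B a b x y ρ : G} (W : Ab4 A B a b)
    (A1 : cj A x = A) (a1 : cj a x = a) (B1 : cj B x = B * a) (b1 : cj b x = b * a * A)
    (B2 : cj B y = B) (b2 : cj b y = b) (A2 : cj A y = A * b) (a2 : cj a y = a * b * B)
    (A3 : cj A ρ = B) (B3 : cj B ρ = A * B) (a3 : cj a ρ = b)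
    (ho : ¬ 2 ∣ orderOf (x * y * x * y * ρ)) (tb : cj t b = t * B) (tB : t * B = B * t)
    (B1 : B ≠ 1) : False := by
  obtain ⟨e1, e2, e3⟩ := delta_abs W A1 a1 ‹_› b1 B2 b2 A2 a2 A3 B3 a3
  obtain ⟨AA, BB, aa, bb, AB, Aa, Ab, Ba, Bb, ab⟩ := W
  generalize x * y * x * y * ρ = h at *
  have h1 : cj A (h * h) = A := by
    rw [cj_comp, e1, cj_mul, cj_mul, e1, e2, e3]
    simp only [mul_assoc, AA, BB, aa, bb, AB, Aa, Ab, Ba, Bb, ab, asc AB, asc Aa, asc Ab, asc Ba,
      asc Bb, asc ab, sqc AA, sqc BB, sqc aa, sqc bb, mul_one, one_mul]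
  have h2 := comm_of_sq ho (cj_self_iff.1 h1)
  have h3 : A * B * b = A := e1.symm.trans (cj_eq h2)
  rw [mul_assoc, mul_eq_left] at h3
  have h4 : b = B := by
    have := congrArg (fun z => B * z) h3
    simp only [sqc BB, mul_one] at this
    exact this
  rw [h4, cj_eq tB] at tb
  exact B1 (mul_eq_left.1 tb.symm)

end Abs

variable {α : Type*} [Fintype α] [DecidableEq α] {G : Type*} [Group G]

/-- permutations of the first letters commute with permutations fixing these -/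
theorem comm_fix3 (v : Fin 9 ↪ α) {l : alternatingGroup α}
    (hl : ∀ i : Fin 9, i < 3 → (l : Perm α) (v i) = v i) {m : alternatingGroup (Fin 9)}
    (hm : ∀ i : Fin 9, 3 ≤ i → (m : Perm (Fin 9)) i = i) : emb v m * l = l * emb v m := by
  apply Subtype.ext
  apply Equiv.ext
  intro x
  show (emb v m : Perm α) ((l : Perm α) x) = (l : Perm α) ((emb v m : Perm α) x)
  have hfix : ∀ x, (∀ i : Fin 9, i < 3 → v i ≠ x) → (emb v m : Perm α) x = x := by
    intro x hx
    by_cases hr : x ∈ Set.range v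
    · obtain ⟨i, rfl⟩ := hr
      rw [emb_apply, hm]
      by_contra hc
      exact hx i (not_le.1 hc) rfl
    · exact emb_notMem v _ hr
  by_cases hx : ∀ i : Fin 9, i < 3 → v i ≠ x
  · rw [hfix x hx, hfix]
    intro i hi e
    rw [← hl i hi] at e
    exact hx i hi ((l : Perm α).injective e)
  · push Not at hx
    obtain ⟨i, hi, rfl⟩ := hx
    have : (m : Perm (Fin 9)) i < 3 := by
      by_contra hc
      have h1 := hm _ (not_lt.1 hc)
      have h2 := (m : Perm (Fin 9)).injective h1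
      rw [h2] at hc
      exact hc hi
    rw [hl i hi, emb_apply, hl _ this]

/-- the centraliser of `L₃` -/
def XC (ι : alternatingGroup α →* G) (v : Fin 9 ↪ α) : Subgroup G :=
  Subgroup.centralizer (ι '' {k | ∀ i : Fin 9, i < 3 → (k : Perm α) (v i) = v i})

theorem mem_XC {ι : alternatingGroup α →* G} {v : Fin 9 ↪ α} {g : G} :
    g ∈ XC ι v ↔ ∀ k : alternatingGroup α, (∀ i : Fin 9, i < 3 → (k : Perm α) (v i) = v i) →
      g * ι k = ι k * g := by
  rw [XC, Subgroup.mem_centralizer_iff]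
  constructor
  · intro h k hk
    exact (h _ ⟨k, hk, rfl⟩).symm
  · rintro h _ ⟨k, hk, rfl⟩
    exact (h k hk).symm

theorem Cl.odd_XC [Finite G] {t : G} {ι : alternatingGroup α →* G} (C : Cl t ι) (v : Fin 9 ↪ α)
    {g h : G} (hg : g ∈ XC ι v) (hh : h ∈ XC ι v) (h3 : h * h * h = 1) :
    ¬ 2 ∣ orderOf (g * g * h) := by
  have htX : t ∈ XC ι v := mem_XC.2 (fun k _ => C.comm k)
  obtain ⟨N, hN, h1, h2⟩ := exists_odd_kernel (X := XC ι v) (t := ⟨t, htX⟩)
    (Subtype.ext C.tt) (by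
      intro h
      have h1 : t = 1 := congrArg Subtype.val h
      exact C.ne 1 (by rw [map_one, h1])) (by
      rintro ⟨x, hx⟩ hxt
      have hxt' : x * t = t * x := congrArg Subtype.val hxt
      obtain ⟨a, ha, hb⟩ := C.cent_key hxt'
      have h3 : a * a * a = 1 := by
        apply cent_three v a
        intro l hl
        exact hb l ((mem_XC.1 hx l hl).symm)
      rcases ha with ha | ha
      · left
        apply Subtype.ext
        show x * x * x = 1
        rw [ha, ← map_mul, ← map_mul, h3, map_one]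
      · right
        apply Subtype.ext
        show (t * x) * (t * x) * (t * x) = 1
        have e : t * x = ι a := by rw [ha, ← mul_assoc, C.tt, one_mul]
        rw [e, ← map_mul, ← map_mul, h3, map_one])
  have hm : (⟨g, hg⟩ * ⟨g, hg⟩ * ⟨h, hh⟩ : XC ι v) ∈ N :=
    mul_mem (h1 _) (h2 _ (Subtype.ext h3))
  intro h2'
  apply hN
  have e : orderOf (g * g * h) = orderOf (⟨g, hg⟩ * ⟨g, hg⟩ * ⟨h, hh⟩ : XC ι v) :=
    (Subgroup.orderOf_coe (⟨g, hg⟩ * ⟨g, hg⟩ * ⟨h, hh⟩ : XC ι v))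
  rw [e, ← Subgroup.orderOf_mk _ hm] at h2'
  exact h2'.trans (orderOf_dvd_natCard _)

namespace Fam

variable {t : G} {ι : alternatingGroup α →* G} {Y : alternatingGroup α → G}

theorem b_abs {a s' b x A : G} (h : x * s' * x * s' * a = A) (hx : x * x = 1) (hs : s' * s' = 1)
    (ha : a * a = 1) (hb : a * s' = b) (as : a * s' = s' * a) (xa : a * x = x * a)
    (Aa : A * a = a * A) (Ab : A * s' = s' * A) : cj b x = b * a * A := by
  have ix : x⁻¹ = x := inv_eq_of_mul_eq_one_left hx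
  have h1 : x * s' * x = A * a * s' := by
    have h2 : x * s' * x = (x * s' * x * s' * a) * (a * s') := by
      calc x * s' * x = x * s' * x * (s' * s') := by rw [hs, mul_one]
        _ = x * s' * x * s' * (a * a) * s' := by rw [ha]; group
        _ = (x * s' * x * s' * a) * (a * s') := by group
    rw [h2, h]; group
  rw [← hb, cj_mul, cj_eq xa, cj, ix, h1]
  simp only [mul_assoc, Aa.symm, asc Aa.symm, Ab.symm, asc Ab.symm, as.symm, asc as.symm, ha,
    sqc ha, mul_one]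

theorem spcj (C : Cl t ι) (F : Fam t ι Y) [Finite G] (v : Fin 9 ↪ α)
    (h : Y (emb v (dt 0 1 4 5)) * Y (emb v (dt 0 2 1 3)) * Y (emb v (dt 0 1 4 5)) *
        Y (emb v (dt 0 2 1 3)) * Y (emb v (dt 0 1 2 3)) = Cl.jj ι v (dt 0 1 2 3)) : False := by
  have Rx : Rt (dt 0 1 4 5) := rt_dt (by decide)
  have Ry : Rt (dt 1 2 4 5) := rt_dt (by decide)
  have Rs : Rt (dt 0 2 1 3) := rt_dt (by decide)
  have Ra : Rt (dt 0 1 2 3) := rt_dt (by decide)
  have Rb : Rt (dt 0 3 1 2) := rt_dt (by decide)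
  have S := F.spR C v
  have ix := F.invol C v Rx
  have iy := F.invol C v Ry
  have is := F.invol C v Rs
  have ia := F.invol C v Ra
  have ib := F.invol C v Rb
  have hv := three_abs (F.vbl v 0 1 2 3 (by decide) rfl rfl rfl) ia is ib
  have xa : Y (emb v (dt 0 1 2 3)) * Y (emb v (dt 0 1 4 5)) =
      Y (emb v (dt 0 1 4 5)) * Y (emb v (dt 0 1 2 3)) := cj_self_iff.1 S.Z1
  -- conjugation by the three-cycle
  have hn := congrArg (fun z => cj z (Cl.jj ι v (tc 0 2 1))) h
  simp only [cj_mul] at hn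
  rw [F.eq9 v Rx (m' := dt 1 2 4 5) _ (by decide), F.eq9 v Rs (m' := dt 0 1 2 3) _ (by decide),
    F.eq9 v Ra (m' := dt 0 3 1 2) _ (by decide), ← map_cj,
    show cj (dt 0 1 2 3) (tc 0 2 1) = (dt 0 3 1 2 : alternatingGroup (Fin 9)) by decide] at hn
  have hs1 := congrArg (fun z => cj z (Cl.jj ι v (tc 0 2 1))) S.S1
  simp only [cj_mul] at hs1
  rw [cj_cj, F.eq9 v Rx (m' := dt 1 2 4 5) _ (by decide), F.eq9 v Ra (m' := dt 0 3 1 2) _ (by decide),
    ← map_cj, show cj (dt 0 2 1 3) (tc 0 2 1) = (dt 0 1 2 3 : alternatingGroup (Fin 9)) by decide]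
    at hs1
  have hB : Cl.jj ι v (dt 0 3 1 2) = Cl.jj ι v (dt 0 1 2 3) * Cl.jj ι v (dt 0 2 1 3) := by
    rw [← map_mul]; exact congrArg _ (by decide)
  have Aa := F.comm9 v Ra (n := dt 0 1 2 3) (by decide)
  have Ab := F.comm9 v Rb (n := dt 0 1 2 3) (by decide)
  have Ba := F.comm9 v Ra (n := dt 0 3 1 2) (by decide)
  have Bb := F.comm9 v Rb (n := dt 0 3 1 2) (by decide)
  have As := F.comm9 v Rs (n := dt 0 1 2 3) (by decide)
  have ab : Y (emb v (dt 0 3 1 2)) * Y (emb v (dt 0 1 2 3)) =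
      Y (emb v (dt 0 1 2 3)) * Y (emb v (dt 0 3 1 2)) := by
    rw [← hv.1, mul_assoc, hv.2.2.2, hv.1]
  have sq : ∀ m : alternatingGroup (Fin 9), m * m = 1 → Cl.jj ι v m * Cl.jj ι v m = 1 := by
    intro m hm
    rw [← map_mul, hm, map_one]
  have W : Ab4 (Cl.jj ι v (dt 0 1 2 3)) (Cl.jj ι v (dt 0 3 1 2)) (Y (emb v (dt 0 1 2 3)))
      (Y (emb v (dt 0 3 1 2))) :=
    { AA := sq _ (by decide)
      BB := sq _ (by decide)
      aa := ia
      bb := ib
      AB := by rw [← map_mul, ← map_mul]; exact congrArg _ (by decide)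
      Aa := Aa
      Ab := Ab
      Ba := Ba
      Bb := Bb
      ab := ab }
  have iy' : (Y (emb v (dt 1 2 4 5)))⁻¹ = Y (emb v (dt 1 2 4 5)) := inv_eq_of_mul_eq_one_left iy
  refine delta_false (t := t) (ρ := Cl.jj ι v (tc 0 2 1)) W S.Q1 S.Z1 ?_
    (b_abs h ix is ia hv.1 hv.2.2.1 xa Aa.symm As.symm)
    (cj_eq (F.comm9 v Ry (by decide)).symm) (cj_eq (F.col C v 0 3 1 2 4 5 (by decide) rfl rfl))
    hs1 ?_ ?_ ?_ (F.eq9 v Ra _ (by decide)) ?_ (F.mv_rt v Rb) (C.comm _) ?_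
  · rw [hB, cj_mul, S.Q1, S.S1, ← mul_assoc]
  · rw [cj, iy']
    generalize Y (emb v (dt 1 2 4 5)) = y at *
    generalize Y (emb v (dt 0 1 2 3)) = a at *
    generalize Y (emb v (dt 0 3 1 2)) = b at *
    generalize Cl.jj ι v (dt 0 3 1 2) = B at *
    have h1 : y * a * y = (y * a * y * a * b) * (b * a) := by
      calc y * a * y = y * a * y * (a * a) := by rw [ia, mul_one]
        _ = y * a * y * a * (b * b) * a := by rw [ib]; group
        _ = (y * a * y * a * b) * (b * a) := by group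
    rw [h1, hn, ab]
    calc B * (a * b) = (B * a) * b := by group
      _ = a * (B * b) := by rw [← Ba]; group
      _ = a * b * B := by rw [← Bb]; group
  · rw [← map_cj]; exact congrArg _ (by decide)
  · rw [← map_cj, ← map_mul]; exact congrArg _ (by decide)
  · have hg : Y (emb v (dt 0 1 4 5)) * Y (emb v (dt 1 2 4 5)) ∈ XC ι v := by
      rw [mem_XC]
      intro k hk
      exact F.ind_comm C v (i := 0) (j := 1) (l := 2) (m := 4) (n := 5) (by decide)
        (hk 0 (by decide)) (hk 1 (by decide)) (hk 2 (by decide))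
    have hh : Cl.jj ι v (tc 0 2 1) ∈ XC ι v := by
      rw [mem_XC]
      intro k hk
      show ι _ * ι k = ι k * ι _
      rw [← map_mul, ← map_mul, comm_fix3 v hk (by decide)]
    have h3 : Cl.jj ι v (tc 0 2 1) * Cl.jj ι v (tc 0 2 1) * Cl.jj ι v (tc 0 2 1) = 1 := by
      rw [← map_mul, ← map_mul, show tc 0 2 1 * tc 0 2 1 * tc 0 2 1 =
        (1 : alternatingGroup (Fin 9)) by decide, map_one]
    have := C.odd_XC v hg hh h3
    rwa [← mul_assoc] at this
  · intro h1
    have h2 : Cl.jj ι v (dt 0 3 1 2) = Cl.jj ι v 1 := by rw [h1, map_one]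
    exact absurd (C.jj_inj v h2) (by decide)

/-- **δ = 0** -/
theorem delta (C : Cl t ι) (F : Fam t ι Y) [Finite G] (v : Fin 9 ↪ α) :
    Y (emb v (dt 0 1 4 5)) * Y (emb v (dt 0 2 1 3)) * Y (emb v (dt 0 1 4 5)) *
        Y (emb v (dt 0 2 1 3)) * Y (emb v (dt 0 1 2 3)) = 1 := by
  obtain ⟨m, hm, e⟩ := F.special C v
  rcases hm with rfl | rfl
  · rw [e, map_one]
  · exact (F.spcj C v e).elim

end Fam

end Cfsg.Agent.OddHalf.D5.Dbl

end

-- merged: Cfsg.Agent.OddHalf.D5.DblGen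
section

/-!
# ODD D5 (helper845): generation of `Alt(α)` by `L₃` and the four-groups `V_{012b}`
-/

set_option autoImplicit false
set_option linter.unusedSectionVars false

namespace Cfsg.Agent.OddHalf.D5.Dbl

open Equiv

variable {α : Type*} [Fintype α] [DecidableEq α]

theorem tc_conj (k : alternatingGroup α) (a b c : α) :
    k * tc a b c * k⁻¹ = tc ((k : Perm α) a) ((k : Perm α) b) ((k : Perm α) c) := by
  by_cases h : a ≠ b ∧ b ≠ c
  · apply Subtype.ext
    rw [tc_coe ((k : Perm α).injective.ne h.1) ((k : Perm α).injective.ne h.2), swap_apply_apply,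
      swap_apply_apply]
    show (k : Perm α) * (tc a b c : Perm α) * (k : Perm α)⁻¹ = _
    rw [tc_coe h.1 h.2]
    group
  · have h' : ¬ ((k : Perm α) a ≠ (k : Perm α) b ∧ (k : Perm α) b ≠ (k : Perm α) c) := by
      rintro ⟨h1, h2⟩
      exact h ⟨fun e => h1 (by rw [e]), fun e => h2 (by rw [e])⟩
    rw [tc, dif_neg h, tc, dif_neg h', mul_one, mul_inv_cancel]

theorem tc_rot {a b c : α} (h1 : a ≠ b) (h2 : b ≠ c) (h3 : a ≠ c) : tc a b c = tc b c a := by
  obtain ⟨e1, e2, e3⟩ := tc_apply h1 h2 h3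
  obtain ⟨f1, f2, f3⟩ := tc_apply h2 h3.symm h1.symm
  apply Subtype.ext
  apply Equiv.ext
  intro x
  by_cases ha : x = a
  · subst ha; rw [e1, f3]
  by_cases hb : x = b
  · subst hb; rw [e2, f1]
  by_cases hc : x = c
  · subst hc; rw [e3, f2]
  rw [tc_apply_of_ne h1 h2 ha hb hc, tc_apply_of_ne h2 h3.symm hb hc ha]

/-- every subgroup containing all `tc a b c` is everything -/
theorem eq_top_of_tc {H : Subgroup (alternatingGroup α)}
    (h : ∀ a b c : α, a ≠ b → b ≠ c → a ≠ c → tc a b c ∈ H) : H = ⊤ := by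
  rw [eq_top_iff]
  rintro ⟨k, hk⟩ -
  have hk' := hk
  rw [← Equiv.Perm.closure_three_cycles_eq_alternating] at hk'
  have h1 : Subgroup.closure {σ : Perm α | σ.IsThreeCycle} ≤ H.map (alternatingGroup α).subtype := by
    rw [Subgroup.closure_le]
    intro σ hσ
    have hσ' : σ.IsThreeCycle := hσ
    have hne : σ.support.Nonempty := by
      rw [← Finset.card_pos, hσ'.card_support]
      norm_num
    obtain ⟨a, ha⟩ := hne
    have hnd := hσ'.nodup_iff_mem_support.2 ha
    have he := hσ'.eq_swap_mul_swap_iff_mem_support.2 ha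
    simp only [List.nodup_cons, List.mem_cons, List.not_mem_nil, or_false, not_or,
      List.nodup_nil, and_true, not_false_eq_true] at hnd
    obtain ⟨⟨n1, n2⟩, n3⟩ := hnd
    refine ⟨tc a (σ a) (σ (σ a)), h _ _ _ n1 n3 n2, ?_⟩
    show (tc a (σ a) (σ (σ a)) : Perm α) = σ
    rw [tc_coe n1 n3]
    exact he.symm
  obtain ⟨k', hk1, hk2⟩ := h1 hk'
  have : k' = ⟨k, hk⟩ := Subtype.ext hk2
  rwa [← this]

/-- letters outside `v 0, v 1, v 2` -/
def Out3 (v : Fin 9 ↪ α) (x : α) : Prop := ∀ i : Fin 9, i < 3 → v i ≠ x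

theorem tc_mem_L {v : Fin 9 ↪ α} {H : Subgroup (alternatingGroup α)}
    (hL : ∀ k : alternatingGroup α, (∀ i : Fin 9, i < 3 → (k : Perm α) (v i) = v i) → k ∈ H)
    {a b c : α} (ha : Out3 v a) (hb : Out3 v b) (hc : Out3 v c) (h1 : a ≠ b) (h2 : b ≠ c) :
    tc a b c ∈ H := by
  apply hL
  intro i hi
  exact tc_apply_of_ne h1 h2 (ha i hi) (hb i hi) (hc i hi)

/-- fresh letters outside `v 0, v 1, v 2` and two (four) given ones -/
theorem fresh3 (hn : 9 ≤ Fintype.card α) (v : Fin 9 ↪ α) (x y : α) :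
    ∃ p q : α, Out3 v p ∧ Out3 v q ∧ p ≠ x ∧ p ≠ y ∧ q ≠ x ∧ q ≠ y ∧ p ≠ q := by
  obtain ⟨p, q, hp, hq, hpq⟩ := two_fresh hn [v 0, v 1, v 2, x, y] (by simp)
  simp only [List.mem_cons, List.not_mem_nil, or_false, not_or] at hp hq
  refine ⟨p, q, ?_, ?_, hp.2.2.2.1, hp.2.2.2.2, hq.2.2.2.1, hq.2.2.2.2, hpq⟩
  · intro i hi
    rcases lt3 hi with rfl | rfl | rfl
    · exact Ne.symm hp.1
    · exact Ne.symm hp.2.1
    · exact Ne.symm hp.2.2.1
  · intro i hi
    rcases lt3 hi with rfl | rfl | rfl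
    · exact Ne.symm hq.1
    · exact Ne.symm hq.2.1
    · exact Ne.symm hq.2.2.1

/-- the generation lemma -/
theorem gen_alt (hn : 9 ≤ Fintype.card α) (v : Fin 9 ↪ α) (H : Subgroup (alternatingGroup α))
    (hL : ∀ k : alternatingGroup α, (∀ i : Fin 9, i < 3 → (k : Perm α) (v i) = v i) → k ∈ H)
    (hV : ∀ b, Out3 v b → ∀ i : Fin 9, i < 3 → ∃ u ∈ H, (u : Perm α) b = v i ∧
      ∀ x, Out3 v x → x ≠ b → (u : Perm α) x = x) : H = ⊤ := by
  -- one letter arbitrary
  have B : ∀ a b c, Out3 v b → Out3 v c → a ≠ b → b ≠ c → a ≠ c → tc a b c ∈ H := by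
    intro a b c hb hc h1 h2 h3
    by_cases ha : Out3 v a
    · exact tc_mem_L hL ha hb hc h1 h2
    · rw [Out3] at ha
      push Not at ha
      obtain ⟨i, hi, rfl⟩ := ha
      obtain ⟨p, -, hp, -, hp1, hp2, -, -, -⟩ := fresh3 hn v b c
      obtain ⟨u, hu, hup, hux⟩ := hV p hp i hi
      have h4 := mul_mem (mul_mem hu (tc_mem_L hL hp hb hc hp1 h2)) (inv_mem hu)
      rwa [tc_conj, hup, hux b hb hp1.symm, hux c hc hp2.symm] at h4
  -- the replacement lemma
  have R : ∀ a b c, a ≠ b → b ≠ c → a ≠ c → ¬ Out3 v a →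
      (∀ w, Out3 v w → w ≠ b → w ≠ c → tc w b c ∈ H) → tc a b c ∈ H := by
    intro a b c h1 h2 h3 ha hw
    obtain ⟨p, q, hp, hq, p1, p2, q1, q2, hpq⟩ := fresh3 hn v b c
    have hap : a ≠ p := fun e => ha (e ▸ hp)
    have haq : a ≠ q := fun e => ha (e ▸ hq)
    have hu := B a p q hp hq hap hpq haq
    obtain ⟨e1, e2, e3⟩ := tc_apply hap hpq haq
    have h4 := mul_mem (mul_mem hu (hw q hq q1 q2)) (inv_mem hu)
    rwa [tc_conj, e3, tc_apply_of_ne hap hpq h1.symm p1.symm q1.symm,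
      tc_apply_of_ne hap hpq h3.symm p2.symm q2.symm] at h4
  have Cc : ∀ a b c, Out3 v c → a ≠ b → b ≠ c → a ≠ c → tc a b c ∈ H := by
    intro a b c hc h1 h2 h3
    by_cases ha : Out3 v a
    · rw [tc_rot h1 h2 h3]
      exact B b c a hc ha h2 h3.symm h1.symm
    · apply R a b c h1 h2 h3 ha
      intro w hw w1 w2
      rw [tc_rot w1 h2 w2]
      exact B b c w hc hw h2 w2.symm w1.symm
  apply eq_top_of_tc
  intro a b c h1 h2 h3
  by_cases ha : Out3 v a
  · rw [tc_rot h1 h2 h3]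
    exact Cc b c a ha h2 h3.symm h1.symm
  · apply R a b c h1 h2 h3 ha
    intro w hw w1 w2
    rw [tc_rot w1 h2 w2]
    exact Cc b c w hw h2 w2.symm w1.symm

end Cfsg.Agent.OddHalf.D5.Dbl

end

-- merged: Cfsg.Agent.OddHalf.D5.DblTri
section

/-!
# ODD D5 (helper845): `y_{(02)(45)} = y_{(01)(45)} y_{(12)(45)} y_{(01)(45)}`
-/

set_option autoImplicit false
set_option linter.unusedSectionVars false

namespace Cfsg.Agent.OddHalf.D5.Dbl

open Equiv

variable {α : Type*} [Fintype α] [DecidableEq α] {G : Type*} [Group G]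

namespace Fam

variable {t : G} {ι : alternatingGroup α →* G} {Y : alternatingGroup α → G}

theorem sp0 [Finite G] (C : Cl t ι) (F : Fam t ι Y) (v : Fin 9 ↪ α) :
    cj (Y (emb v (dt 0 2 1 3))) (Y (emb v (dt 0 1 4 5))) = Y (emb v (dt 0 3 1 2)) := by
  have h := F.delta C v
  have ix := F.invol C v (m := dt 0 1 4 5) (rt_dt (by decide))
  have is := F.invol C v (m := dt 0 2 1 3) (rt_dt (by decide))
  have ia := F.invol C v (m := dt 0 1 2 3) (rt_dt (by decide))
  have ib := F.invol C v (m := dt 0 3 1 2) (rt_dt (by decide))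
  have hv := three_abs (F.vbl v 0 1 2 3 (by decide) rfl rfl rfl) ia is ib
  rw [cj, inv_eq_of_mul_eq_one_left ix, ← hv.1]
  generalize Y (emb v (dt 0 1 4 5)) = x at *
  generalize Y (emb v (dt 0 2 1 3)) = s at *
  generalize Y (emb v (dt 0 1 2 3)) = a at *
  calc x * s * x = x * s * x * (s * s) := by rw [is, mul_one]
    _ = x * s * x * s * (a * a) * s := by rw [ia]; group
    _ = (x * s * x * s * a) * (a * s) := by group
    _ = a * s := by rw [h, one_mul]

theorem spc0 [Finite G] (C : Cl t ι) (F : Fam t ι Y) (v : Fin 9 ↪ α) :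
    (Y (emb v (dt 0 2 1 3)) * Cl.jj ι v (dt 0 2 1 3)) * Y (emb v (dt 0 1 4 5)) =
      Y (emb v (dt 0 1 4 5)) * (Y (emb v (dt 0 2 1 3)) * Cl.jj ι v (dt 0 2 1 3)) := by
  have S := F.spR C v
  have is := F.invol C v (m := dt 0 2 1 3) (rt_dt (by decide))
  have ia := F.invol C v (m := dt 0 1 2 3) (rt_dt (by decide))
  have ib := F.invol C v (m := dt 0 3 1 2) (rt_dt (by decide))
  have hv := three_abs (F.vbl v 0 1 2 3 (by decide) rfl rfl rfl) ia is ib
  have cb := F.comm9 v (m := dt 0 3 1 2) (n := dt 0 2 1 3) (rt_dt (by decide)) (by decide)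
  have cs := F.comm9 v (m := dt 0 2 1 3) (n := dt 0 2 1 3) (rt_dt (by decide)) (by decide)
  rw [← cj_self_iff, cj_mul, F.sp0 C v, S.S1, ← mul_assoc, cb, mul_assoc, cs, ← hv.1, hv.2.2.1,
    mul_assoc, ia, mul_one]

theorem sp [Finite G] (C : Cl t ι) (F : Fam t ι Y) (v : Fin 9 ↪ α) (a b c d e f : Fin 9)
    (hi : Function.Injective ![a, b, c, d, e, f]) {m m' m'' : alternatingGroup (Fin 9)}
    (hm : dt a c b d = m) (hm' : dt a b e f = m') (hm'' : dt a d b c = m'') :
    cj (Y (emb v m)) (Y (emb v m')) = Y (emb v m'') := by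
  obtain ⟨π, hπ⟩ := exists_pi _ hi (by decide)
  have e0 : π 0 = a := hπ 0
  have e1 : π 1 = b := hπ 1
  have e2 : π 2 = c := hπ 2
  have e3 : π 3 = d := hπ 3
  have e4 : π 4 = e := hπ 4
  have e5 : π 5 = f := hπ 5
  have h := F.sp0 C (π.toEmbedding.trans v)
  rw [emb_comp_dt v π (by decide) (by decide), emb_comp_dt v π (by decide) (by decide),
    emb_comp_dt v π (by decide) (by decide), e0, e1, e2, e3, e4, e5, hm, hm', hm''] at h
  exact h

theorem spc [Finite G] (C : Cl t ι) (F : Fam t ι Y) (v : Fin 9 ↪ α) (a b c d e f : Fin 9)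
    (hi : Function.Injective ![a, b, c, d, e, f]) {m m' : alternatingGroup (Fin 9)}
    (hm : dt a c b d = m) (hm' : dt a b e f = m') :
    (Y (emb v m) * Cl.jj ι v m) * Y (emb v m') = Y (emb v m') * (Y (emb v m) * Cl.jj ι v m) := by
  obtain ⟨π, hπ⟩ := exists_pi _ hi (by decide)
  have e0 : π 0 = a := hπ 0
  have e1 : π 1 = b := hπ 1
  have e2 : π 2 = c := hπ 2
  have e3 : π 3 = d := hπ 3
  have e4 : π 4 = e := hπ 4
  have e5 : π 5 = f := hπ 5
  have h := F.spc0 C (π.toEmbedding.trans v)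
  rw [jj_trans v π (by decide) (by decide), emb_comp_dt v π (by decide) (by decide),
    emb_comp_dt v π (by decide) (by decide), e0, e1, e2, e3, e4, e5, hm, hm'] at h
  exact h

/-- collinear: `y y^t` commutes -/
theorem colc (C : Cl t ι) (F : Fam t ι Y) (v : Fin 9 ↪ α) (a b c d e f : Fin 9)
    (hi : Function.Injective ![a, b, c, d, e, f]) {m m' : alternatingGroup (Fin 9)}
    (hm : dt a b c d = m) (hm' : dt c d e f = m') (hR : Rt m') (hc : m' * m = m * m') :
    (Y (emb v m) * Cl.jj ι v m) * Y (emb v m') = Y (emb v m') * (Y (emb v m) * Cl.jj ι v m) := by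
  have h1 : Commute (Y (emb v m)) (Y (emb v m')) := F.col C v a b c d e f hi hm hm'
  have h2 : Commute (Y (emb v m')) (Cl.jj ι v m) := F.comm9 v hR hc
  exact (h1.mul_left h2.symm).eq

/-- the element `z` -/
def zz (Y : alternatingGroup α → G) (a b c x y : α) : G :=
  Y (dt a b x y) * Y (dt b c x y) * (Y (dt a c x y) * Y (dt c b x y))

theorem zz_ind (C : Cl t ι) (F : Fam t ι Y) {a b c x y x' y' : α} (h : [a, b, c, x, y].Nodup)
    (h' : [a, b, c, x', y'].Nodup) : zz Y a b c x y = zz Y a b c x' y' := by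
  have pm : ∀ {x y : α}, [a, b, c, x, y].Nodup → [a, c, b, x, y].Nodup := by
    intro x y h
    simp only [List.nodup_cons, List.mem_cons, List.not_mem_nil, or_false, not_or,
      List.nodup_nil, and_true, not_false_eq_true] at h ⊢
    exact ⟨⟨h.1.2.1, h.1.1, h.1.2.2⟩, ⟨Ne.symm h.2.1.1, h.2.2.1⟩, ⟨h.2.1.2.1, h.2.1.2.2⟩, h.2.2.2⟩
  rw [zz, zz, F.ind C h h', F.ind C (pm h) (pm h')]

theorem zz_emb (v : Fin 9 ↪ α) : zz Y (v 0) (v 1) (v 2) (v 4) (v 5) =
    Y (emb v (dt 0 1 4 5)) * Y (emb v (dt 1 2 4 5)) * (Y (emb v (dt 0 2 4 5)) *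
      Y (emb v (dt 1 2 4 5))) := by
  rw [zz, ← emb_dt v (by decide) (by decide), ← emb_dt v (by decide) (by decide),
    ← emb_dt v (by decide) (by decide), ← emb_dt v (by decide) (by decide),
    show (dt 2 1 4 5 : alternatingGroup (Fin 9)) = dt 1 2 4 5 by decide]

theorem zz_emb34 (v : Fin 9 ↪ α) : zz Y (v 0) (v 1) (v 2) (v 3) (v 4) =
    Y (emb v (dt 0 1 3 4)) * Y (emb v (dt 1 2 3 4)) * (Y (emb v (dt 0 2 3 4)) *
      Y (emb v (dt 1 2 3 4))) := by
  rw [zz, ← emb_dt v (by decide) (by decide), ← emb_dt v (by decide) (by decide),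
    ← emb_dt v (by decide) (by decide), ← emb_dt v (by decide) (by decide),
    show (dt 2 1 3 4 : alternatingGroup (Fin 9)) = dt 1 2 3 4 by decide]

theorem cj4 {a x y c s1 s2 s3 : G} (h1 : cj a x = s1) (h2 : cj s1 y = s2) (h3 : cj s2 c = s3)
    (h4 : cj s3 y = a) : a * (x * y * (c * y)) = (x * y * (c * y)) * a := by
  rw [← cj_self_iff, cj_comp, cj_comp, cj_comp, h1, h2, h3, h4]

/-- `z` commutes with `V_{0123}` -/
theorem zz_V [Finite G] (C : Cl t ι) (F : Fam t ι Y) (v : Fin 9 ↪ α) {m : alternatingGroup (Fin 9)}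
    (hm : m = dt 0 1 2 3 ∨ m = dt 0 2 1 3 ∨ m = dt 0 3 1 2) :
    Cl.jj ι v m * zz Y (v 0) (v 1) (v 2) (v 4) (v 5) =
      zz Y (v 0) (v 1) (v 2) (v 4) (v 5) * Cl.jj ι v m := by
  have Rm : Rt m := by rcases hm with rfl | rfl | rfl <;> exact rt_dt (by decide)
  -- actions
  have ax := F.col C v 2 3 0 1 4 5 (by decide) (m := dt 0 1 2 3) (by decide) rfl
  have ay := F.sp C v 1 2 0 3 4 5 (by decide) (m := dt 0 1 2 3) (by decide) rfl
    (m'' := dt 0 2 1 3) (by decide)
  have ac := F.sp C v 0 2 1 3 4 5 (by decide) (m := dt 0 1 2 3) (by decide) rfl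
    (m'' := dt 0 3 1 2) (by decide)
  have sx := F.sp C v 0 1 2 3 4 5 (by decide) (m := dt 0 2 1 3) (by decide) rfl
    (m'' := dt 0 3 1 2) (by decide)
  have sy := F.sp C v 1 2 3 0 4 5 (by decide) (m := dt 0 2 1 3) (by decide) rfl
    (m'' := dt 0 1 2 3) (by decide)
  have sc := F.col C v 1 3 0 2 4 5 (by decide) (m := dt 0 2 1 3) (by decide) rfl
  have bx := F.sp C v 0 1 3 2 4 5 (by decide) (m := dt 0 3 1 2) (by decide) rfl
    (m'' := dt 0 2 1 3) (by decide)
  have by' := F.col C v 0 3 1 2 4 5 (by decide) (m := dt 0 3 1 2) (by decide) rfl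
  have bc := F.sp C v 0 2 3 1 4 5 (by decide) (m := dt 0 3 1 2) (by decide) rfl
    (m'' := dt 0 1 2 3) (by decide)
  have h1 : Commute (Y (emb v m)) (zz Y (v 0) (v 1) (v 2) (v 4) (v 5)) := by
    rw [zz_emb]
    rcases hm with rfl | rfl | rfl
    · exact cj4 (cj_eq ax) ay (cj_eq sc) sy
    · exact cj4 sx (cj_eq by') bc ay
    · exact cj4 bx sy ac (cj_eq by')
  have h2 : Commute (Y (emb v m) * Cl.jj ι v m) (zz Y (v 0) (v 1) (v 2) (v 4) (v 5)) := by
    rw [zz_emb]
    have hx : Commute (Y (emb v m) * Cl.jj ι v m) (Y (emb v (dt 0 1 4 5))) := by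
      rcases hm with rfl | rfl | rfl
      · exact F.colc C v 2 3 0 1 4 5 (by decide) (by decide) rfl (rt_dt (by decide)) (by decide)
      · exact F.spc C v 0 1 2 3 4 5 (by decide) (by decide) rfl
      · exact F.spc C v 0 1 3 2 4 5 (by decide) (by decide) rfl
    have hy : Commute (Y (emb v m) * Cl.jj ι v m) (Y (emb v (dt 1 2 4 5))) := by
      rcases hm with rfl | rfl | rfl
      · exact F.spc C v 1 2 0 3 4 5 (by decide) (by decide) rfl
      · exact F.spc C v 1 2 3 0 4 5 (by decide) (by decide) rfl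
      · exact F.colc C v 0 3 1 2 4 5 (by decide) (by decide) rfl (rt_dt (by decide)) (by decide)
    have hc : Commute (Y (emb v m) * Cl.jj ι v m) (Y (emb v (dt 0 2 4 5))) := by
      rcases hm with rfl | rfl | rfl
      · exact F.spc C v 0 2 1 3 4 5 (by decide) (by decide) rfl
      · exact F.colc C v 1 3 0 2 4 5 (by decide) (by decide) rfl (rt_dt (by decide)) (by decide)
      · exact F.spc C v 0 2 3 1 4 5 (by decide) (by decide) rfl
    exact (hx.mul_right hy).mul_right (hc.mul_right hy)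
  have h3 : Cl.jj ι v m = Y (emb v m) * (Y (emb v m) * Cl.jj ι v m) := by
    rw [← mul_assoc, F.invol C v Rm, one_mul]
  rw [h3]
  exact (h1.mul_left h2).eq

theorem zz_L (C : Cl t ι) (F : Fam t ι Y) (v : Fin 9 ↪ α) {k : alternatingGroup α}
    (hk : ∀ i : Fin 9, i < 3 → (k : Perm α) (v i) = v i) :
    ι k * zz Y (v 0) (v 1) (v 2) (v 4) (v 5) = zz Y (v 0) (v 1) (v 2) (v 4) (v 5) * ι k := by
  have h1 : Commute (Y (emb v (dt 0 1 4 5)) * Y (emb v (dt 1 2 4 5))) (ι k) :=
    F.ind_comm C v (by decide) (hk 0 (by decide)) (hk 1 (by decide)) (hk 2 (by decide))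
  have h2 : Commute (Y (emb v (dt 0 2 4 5)) * Y (emb v (dt 2 1 4 5))) (ι k) :=
    F.ind_comm C v (by decide) (hk 0 (by decide)) (hk 2 (by decide)) (hk 1 (by decide))
  rw [show (dt 2 1 4 5 : alternatingGroup (Fin 9)) = dt 1 2 4 5 by decide] at h2
  rw [zz_emb]
  exact (h1.mul_left h2).eq.symm

/-- `z` commutes with `Alt(α)` -/
theorem zz_all [Finite G] (C : Cl t ι) (F : Fam t ι Y) (v : Fin 9 ↪ α) (k : alternatingGroup α) :
    ι k * zz Y (v 0) (v 1) (v 2) (v 4) (v 5) = zz Y (v 0) (v 1) (v 2) (v 4) (v 5) * ι k := by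
  have hmem : ∀ k, k ∈ (Subgroup.centralizer {zz Y (v 0) (v 1) (v 2) (v 4) (v 5)}).comap ι ↔
      ι k * zz Y (v 0) (v 1) (v 2) (v 4) (v 5) = zz Y (v 0) (v 1) (v 2) (v 4) (v 5) * ι k := by
    intro k
    rw [Subgroup.mem_comap, Subgroup.mem_centralizer_singleton_iff]
  have htop := gen_alt C.h9 v ((Subgroup.centralizer {zz Y (v 0) (v 1) (v 2) (v 4) (v 5)}).comap ι)
    (fun k hk => (hmem k).2 (F.zz_L C v hk)) (by
    intro b hb i hi
    have hne : ∀ i j : Fin 9, i ≠ j → v i ≠ v j := fun i j h => v.injective.ne h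
    obtain ⟨w, hw⟩ := exists_emb_list C.h9 ![v 0, v 1, v 2, b]
      (show [v 0, v 1, v 2, b].Nodup from nodup4 (hne _ _ (by decide)) (hne _ _ (by decide))
        (hb 0 (by decide)) (hne _ _ (by decide)) (hb 1 (by decide)) (hb 2 (by decide))) (by decide)
    have e0 : w 0 = v 0 := hw 0
    have e1 : w 1 = v 1 := hw 1
    have e2 : w 2 = v 2 := hw 2
    have e3 : w 3 = b := hw 3
    have hz : zz Y (v 0) (v 1) (v 2) (v 4) (v 5) = zz Y (w 0) (w 1) (w 2) (w 4) (w 5) := by
      rw [← e0, ← e1, ← e2]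
      apply F.zz_ind C _ (nodup5 w (by decide))
      rw [e0, e1, e2]
      exact nodup5 v (by decide)
    have hout : ∀ x, Out3 v x → x ≠ b → ∀ m : alternatingGroup (Fin 9),
        (∀ i : Fin 9, 4 ≤ i → (m : Perm (Fin 9)) i = i) → (emb w m : Perm α) x = x := by
      intro x hx hxb m hm
      by_cases hr : x ∈ Set.range w
      · obtain ⟨j, rfl⟩ := hr
        rw [emb_apply, hm]
        by_contra hc
        rcases lt4 (not_le.1 hc) with rfl | rfl | rfl | rfl
        · exact hx 0 (by decide) e0.symm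
        · exact hx 1 (by decide) e1.symm
        · exact hx 2 (by decide) e2.symm
        · exact hxb e3
      · exact emb_notMem w _ hr
    rcases lt3 hi with rfl | rfl | rfl
    · refine ⟨emb w (dt 0 3 1 2), ?_, ?_, fun x hx hxb => hout x hx hxb _ (by decide)⟩
      · rw [hmem, hz]
        exact F.zz_V C w (Or.inr (Or.inr rfl))
      · rw [← e3, emb_apply, ← e0]
        exact congrArg w (by decide)
    · refine ⟨emb w (dt 0 2 1 3), ?_, ?_, fun x hx hxb => hout x hx hxb _ (by decide)⟩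
      · rw [hmem, hz]
        exact F.zz_V C w (Or.inr (Or.inl rfl))
      · rw [← e3, emb_apply, ← e1]
        exact congrArg w (by decide)
    · refine ⟨emb w (dt 0 1 2 3), ?_, ?_, fun x hx hxb => hout x hx hxb _ (by decide)⟩
      · rw [hmem, hz]
        exact F.zz_V C w (Or.inl rfl)
      · rw [← e3, emb_apply, ← e2]
        exact congrArg w (by decide))
  rw [← hmem, htop]
  exact Subgroup.mem_top k

/-- `z` commutes with all `y_r` -/
theorem zz_Y [Finite G] (C : Cl t ι) (F : Fam t ι Y) (v w : Fin 9 ↪ α) :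
    Y (emb w (dt 0 1 2 3)) * zz Y (v 0) (v 1) (v 2) (v 4) (v 5) =
      zz Y (v 0) (v 1) (v 2) (v 4) (v 5) * Y (emb w (dt 0 1 2 3)) := by
  have h1 : Commute (Y (emb v (dt 3 4 5 6))) (zz Y (v 0) (v 1) (v 2) (v 4) (v 5)) := by
    rw [F.zz_ind C (nodup5 v (by decide)) (nodup5 v (i := 0) (j := 1) (k := 2) (l := 3) (m := 4)
      (by decide)), zz_emb34]
    have a1 : Commute (Y (emb v (dt 3 4 5 6))) (Y (emb v (dt 0 1 3 4))) :=
      F.col C v 5 6 3 4 0 1 (by decide) (by decide) (by decide)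
    have a2 : Commute (Y (emb v (dt 3 4 5 6))) (Y (emb v (dt 1 2 3 4))) :=
      F.col C v 5 6 3 4 1 2 (by decide) (by decide) (by decide)
    have a3 : Commute (Y (emb v (dt 3 4 5 6))) (Y (emb v (dt 0 2 3 4))) :=
      F.col C v 5 6 3 4 0 2 (by decide) (by decide) (by decide)
    exact (a1.mul_right a2).mul_right (a3.mul_right a2)
  -- transport
  let π : Perm (Fin 9) := swap 0 3 * swap 1 4 * swap 2 5 * swap 3 6
  have e : emb v (dt 3 4 5 6) = emb (π.toEmbedding.trans v) (dt 0 1 2 3) := by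
    rw [emb_comp_dt v π (by decide) (by decide)]
    exact congrArg _ (by decide)
  obtain ⟨k, hk⟩ := trans_seven w (π.toEmbedding.trans v)
  have h2 : cj (Y (emb v (dt 3 4 5 6))) (ι k) = Y (emb w (dt 0 1 2 3)) := by
    rw [e, F.equi, cj_emb hk (by decide) (by decide) (by decide) (by decide) (by decide) (by decide)]
  have h3 : Commute (ι k) (zz Y (v 0) (v 1) (v 2) (v 4) (v 5)) := F.zz_all C v k
  rw [← h2, cj]
  exact ((h3.inv_left.mul_left h1).mul_left h3).eq

theorem zz_Y9 [Finite G] (C : Cl t ι) (F : Fam t ι Y) (v w : Fin 9 ↪ α)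
    {m : alternatingGroup (Fin 9)} (hm : Rt m) :
    Y (emb w m) * zz Y (v 0) (v 1) (v 2) (v 4) (v 5) =
      zz Y (v 0) (v 1) (v 2) (v 4) (v 5) * Y (emb w m) := by
  obtain ⟨π, rfl⟩ := hm
  rw [emb_rt]
  exact F.zz_Y C v _

/-- involutions `x, y, c` with central `z = x y c y`, `z` invariant under rotation -/
theorem z_abs {x y c n z : G} (hx : x * x = 1) (hy : y * y = 1) (hc : c * c = 1)
    (hz : z = x * y * (c * y)) (zx : x * z = z * x) (zy : y * z = z * y) (zc : c * z = z * c)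
    (zn : z * n = n * z) (nx : cj x n = y) (ny : cj y n = c) (nc : cj c n = x) : z = 1 := by
  have ix : x⁻¹ = x := inv_eq_of_mul_eq_one_left hx
  have iy : y⁻¹ = y := inv_eq_of_mul_eq_one_left hy
  have ic : c⁻¹ = c := inv_eq_of_mul_eq_one_left hc
  -- `z² = 1`
  have h1 : z⁻¹ = y * c * y * x := by
    rw [hz]
    simp only [mul_inv_rev, ix, iy, ic, mul_assoc]
  have h2 : x * z * x = z := by rw [zx, mul_assoc, hx, mul_one]
  have h3 : x * z * x = z⁻¹ := by
    rw [h1, hz]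
    calc x * (x * y * (c * y)) * x = (x * x) * y * c * y * x := by group
      _ = y * c * y * x := by rw [hx, one_mul]
  have h4 : z * z = 1 := by
    have h5 : z = z⁻¹ := h2.symm.trans h3
    nth_rw 2 [h5]
    exact mul_inv_cancel z
  -- rotation
  have r1 : z = y * c * (x * c) := by
    have := congrArg (fun u => cj u n) hz
    simp only [cj_mul, nx, ny, nc] at this
    rwa [cj_eq zn] at this
  have r2 : z = c * x * (y * x) := by
    have := congrArg (fun u => cj u n) r1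
    simp only [cj_mul, nx, ny, nc] at this
    rwa [cj_eq zn] at this
  -- `x y = z y c`, `y c = z c x`, `c x = z x y`
  have g1 : x * y = z * (y * c) := by
    rw [hz]
    calc x * y = x * y * c * (y * y) * c := by rw [hy, mul_one, mul_assoc (x * y), hc, mul_one]
      _ = x * y * (c * y) * (y * c) := by group
  have g2 : y * c = z * (c * x) := by
    rw [r1]
    calc y * c = y * c * x * (c * c) * x := by rw [hc, mul_one, mul_assoc (y * c), hx, mul_one]
      _ = y * c * (x * c) * (c * x) := by group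
  have g3 : c * x = z * (x * y) := by
    rw [r2]
    calc c * x = c * x * y * (x * x) * y := by rw [hx, mul_one, mul_assoc (c * x), hy, mul_one]
      _ = c * x * (y * x) * (x * y) := by group
  have h6 : x * y = z * z * z * (x * y) := by
    calc x * y = z * (y * c) := g1
      _ = z * (z * (c * x)) := by rw [← g2]
      _ = z * (z * (z * (x * y))) := by rw [← g3]
      _ = z * z * z * (x * y) := by group
  have h7 : z * z * z = 1 := (mul_eq_right.1 h6.symm)
  rw [h4, one_mul] at h7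
  exact h7

/-- **`z = 1`** -/
theorem zz_one [Finite G] (C : Cl t ι) (F : Fam t ι Y) (v : Fin 9 ↪ α) :
    Y (emb v (dt 0 1 4 5)) * Y (emb v (dt 1 2 4 5)) * (Y (emb v (dt 0 2 4 5)) *
      Y (emb v (dt 1 2 4 5))) = 1 := by
  have Rx : Rt (dt 0 1 4 5) := rt_dt (by decide)
  have Ry : Rt (dt 1 2 4 5) := rt_dt (by decide)
  have Rc : Rt (dt 0 2 4 5) := rt_dt (by decide)
  rw [← zz_emb]
  exact z_abs (F.invol C v Rx) (F.invol C v Ry) (F.invol C v Rc) (zz_emb v)
    (F.zz_Y9 C v v Rx) (F.zz_Y9 C v v Ry) (F.zz_Y9 C v v Rc) (F.zz_all C v (emb v (tc 0 2 1))).symm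
    (F.eq9 v Rx _ (by decide)) (F.eq9 v Ry _ (by decide)) (F.eq9 v Rc _ (by decide))

/-- `y_{(01)(45)} y_{(01)(45)}^t` commutes with `y_{(12)(45)}` -/
theorem tri0 [Finite G] (C : Cl t ι) (F : Fam t ι Y) (v : Fin 9 ↪ α) :
    (Y (emb v (dt 0 1 4 5)) * Cl.jj ι v (dt 0 1 4 5)) * Y (emb v (dt 1 2 4 5)) =
      Y (emb v (dt 1 2 4 5)) * (Y (emb v (dt 0 1 4 5)) * Cl.jj ι v (dt 0 1 4 5)) := by
  have Rx : Rt (dt 0 1 4 5) := rt_dt (by decide)
  have Ry : Rt (dt 1 2 4 5) := rt_dt (by decide)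
  have Rc : Rt (dt 0 2 4 5) := rt_dt (by decide)
  have ix := F.invol C v Rx
  have iy := F.invol C v Ry
  have ic := F.invol C v Rc
  have h := F.zz_one C v
  have nx : cj (Y (emb v (dt 0 1 4 5))) (Cl.jj ι v (tc 0 2 1)) = Y (emb v (dt 1 2 4 5)) :=
    F.eq9 v Rx _ (by decide)
  have ny : cj (Y (emb v (dt 1 2 4 5))) (Cl.jj ι v (tc 0 2 1)) = Y (emb v (dt 0 2 4 5)) :=
    F.eq9 v Ry _ (by decide)
  have nc : cj (Y (emb v (dt 0 2 4 5))) (Cl.jj ι v (tc 0 2 1)) = Y (emb v (dt 0 1 4 5)) :=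
    F.eq9 v Rc _ (by decide)
  have h1 : cj (Y (emb v (dt 1 2 4 5))) (Y (emb v (dt 0 1 4 5))) = Y (emb v (dt 0 2 4 5)) := by
    rw [cj, inv_eq_of_mul_eq_one_left ix]
    generalize Y (emb v (dt 0 1 4 5)) = x at *
    generalize Y (emb v (dt 1 2 4 5)) = y at *
    generalize Y (emb v (dt 0 2 4 5)) = c at *
    have h2 := congrArg (fun u => cj u (Cl.jj ι v (tc 0 2 1))) h
    simp only [cj_mul, nx, ny, nc, one_cj] at h2
    have h3 := congrArg (fun u => cj u (Cl.jj ι v (tc 0 2 1))) h2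
    simp only [cj_mul, nx, ny, nc, one_cj] at h3
    have h4 : c * (x * y * x) = 1 := by rw [← h3]; group
    rw [← inv_eq_of_mul_eq_one_right h4, inv_eq_of_mul_eq_one_left ic]
  rw [eq_comm, ← cj_self_iff, cj_comp, h1, F.eq9 v Rc (m' := dt 1 2 4 5) _ (by decide)]

end Fam

end Cfsg.Agent.OddHalf.D5.Dbl

end
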