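import Mathlib
import Cfsg.Agent.OddHalf.D5.EightPerm

-- merged: Cfsg.Agent.OddHalf.D5.EightP1
section

/-!
# ODD D5, `n = 8`: the Sylow 2-subgroup `P₁` of `S₈`, five-cycles (helper647)
-/

set_option autoImplicit false

namespace Cfsg.Agent.OddHalf.D5.Eight

open Subgroup Equiv

/-- In a finite group, a subgroup conjugated into itself is conjugated onto itself. -/
theorem conj_onto {G : Type*} [Group G] [Finite G] (T : Subgroup G) {g : G}
    (h : ∀ x ∈ T, g⁻¹ * x * g ∈ T) : ∀ x ∈ T, g * x * g⁻¹ ∈ T := by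
  intro x hx
  let f : T → T := fun y => ⟨g⁻¹ * y * g, h y y.2⟩
  have hf : Function.Injective f := by
    intro a b e
    have : g⁻¹ * (a : G) * g = g⁻¹ * b * g := congrArg Subtype.val e
    exact Subtype.ext (mul_left_cancel (mul_right_cancel this))
  obtain ⟨y, hy⟩ := Finite.surjective_of_injective hf ⟨x, hx⟩
  have hy' : g⁻¹ * (y : G) * g = x := congrArg Subtype.val hy
  rw [← hy']
  have : g * (g⁻¹ * (y : G) * g) * g⁻¹ = y := by group
  rw [this]
  exact y.2

theorem va_mul : va * va' = z0 := by decide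
theorem va_sq : va * va = 1 := by decide
theorem va'_sq : va' * va' = 1 := by decide

/-- `P₁ ∈ Syl₂(S₈)` : the elements of `C(z0)` fixing `{va, va'}` -/
def P1 : Subgroup (Perm (Fin 8)) where
  carrier := {p | p * z0 = z0 * p ∧ (p * va = va * p ∨ p * va = va' * p)}
  one_mem' := ⟨by simp, Or.inl (by simp)⟩
  mul_mem' := by
    have h' : ∀ p : Perm (Fin 8), p * z0 = z0 * p → p * va = va' * p → p * va' = va * p := by
      intro p hp h
      have e : va' = z0 * va := by decide
      have e' : va = z0 * va' := by decide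
      calc p * va' = p * (z0 * va) := by rw [← e]
        _ = z0 * (p * va) := by rw [← mul_assoc, hp, mul_assoc]
        _ = z0 * va' * p := by rw [h, mul_assoc]
        _ = va * p := by rw [← e']
    rintro p q ⟨hp, hp'⟩ ⟨hq, hq'⟩
    refine ⟨by rw [mul_assoc, hq, ← mul_assoc, hp, mul_assoc], ?_⟩
    rcases hq' with hq' | hq' <;> rcases hp' with hp' | hp'
    · left; rw [mul_assoc, hq', ← mul_assoc, hp', mul_assoc]
    · right; rw [mul_assoc, hq', ← mul_assoc, hp', mul_assoc]
    · right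
      have e : va' = z0 * va := by decide
      have : p * va' = va' * p := by
        calc p * va' = p * (z0 * va) := by rw [← e]
          _ = z0 * (p * va) := by rw [← mul_assoc, hp, mul_assoc]
          _ = va' * p := by rw [hp', ← mul_assoc, ← e]
      rw [mul_assoc, hq', ← mul_assoc, this, mul_assoc]
    · left; rw [mul_assoc, hq', ← mul_assoc, h' p hp hp', mul_assoc]
  inv_mem' := by
    rintro p ⟨hp, hp'⟩
    refine ⟨by rw [inv_mul_eq_iff_eq_mul, ← mul_assoc, hp, mul_inv_cancel_right], ?_⟩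
    rcases hp' with hp' | hp'
    · left; rw [inv_mul_eq_iff_eq_mul, ← mul_assoc, hp', mul_inv_cancel_right]
    · right
      have e : va' = z0 * va := by decide
      have e' : va = z0 * va' := by decide
      have h1 : p * va' = va * p := by
        calc p * va' = p * (z0 * va) := by rw [← e]
          _ = z0 * (p * va) := by rw [← mul_assoc, hp, mul_assoc]
          _ = z0 * va' * p := by rw [hp', mul_assoc]
          _ = va * p := by rw [← e']
      rw [inv_mul_eq_iff_eq_mul, ← mul_assoc, h1, mul_inv_cancel_right]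

theorem mem_P1 {p : Perm (Fin 8)} : p ∈ P1 ↔ p * z0 = z0 * p ∧ (p * va = va * p ∨ p * va = va' * p) := Iff.rfl

theorem e6_mem : e6 ∈ P1 := ⟨by decide, by decide⟩
theorem vb_mem : vb ∈ P1 := ⟨by decide, by decide⟩
theorem sw_mem : sw ∈ P1 := ⟨by decide, by decide⟩
theorem z0_mem_P1 : z0 ∈ P1 := ⟨by decide, by decide⟩
theorem va_mem : va ∈ P1 := ⟨by decide, by decide⟩

/-- `u = (02)(13)(46)(57)` -/
def pu : Perm (Fin 8) := vb * s1
/-- `v = (01)(45)` -/
def pv : Perm (Fin 8) := sw * e6 * sw * (s1 * e6 * s1)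

theorem pu_mem : pu ∈ P1 := ⟨by decide, by decide⟩
theorem pv_mem : (vb * (sw * e6 * sw) * vb) * (s1 * e6 * s1) ∈ P1 := ⟨by decide, by decide⟩

/-- `z0` is a commutator in `P₁` -/
theorem z0_comm : ∃ u ∈ P1, ∃ v ∈ P1, z0 = u * v * u⁻¹ * v⁻¹ :=
  ⟨pu, pu_mem, (vb * (sw * e6 * sw) * vb) * (s1 * e6 * s1), pv_mem, by decide⟩

/-- second centre -/
theorem second_center {p : Perm (Fin 8)} (h : ∀ q ∈ P1, p * q = q * p ∨ p * q = z0 * (q * p)) :
    p = 1 ∨ p = z0 ∨ p = va ∨ p = va' := by
  have hz : p * z0 = z0 * p := by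
    rcases h z0 z0_mem_P1 with h | h
    · exact h
    · exfalso
      rw [← mul_assoc, z0_sq, one_mul] at h
      have : z0 = 1 := by
        have h' : p * z0 = p * 1 := by rw [h, mul_one]
        exact mul_left_cancel h'
      exact absurd this (by decide)
  exact f4 hz (h _ e6_mem) (h _ vb_mem) (h _ sw_mem)

theorem center_P1 {c : Perm (Fin 8)} (h : ∀ p ∈ P1, c * p = p * c) : c = 1 ∨ c = z0 := by
  rcases second_center (fun q hq => Or.inl (h q hq)) with h1 | h1 | h1 | h1
  · exact Or.inl h1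
  · exact Or.inr h1
  · have := h _ sw_mem
    rw [h1] at this
    exact absurd this (by decide)
  · have := h _ sw_mem
    rw [h1] at this
    exact absurd this (by decide)

/-- commutation of `va` with `P₁` modulo `z0` -/
theorem va_comm {p : Perm (Fin 8)} (hp : p ∈ P1) : va * p = p * va ∨ va * p = z0 * (p * va) := by
  rcases hp.2 with h | h
  · exact Or.inl h.symm
  · right
    rw [h, ← mul_assoc]
    have : va = z0 * va' := by decide
    rw [← this]

/-- `P₁` is self-normalising -/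
theorem norm_P1 {a : Perm (Fin 8)} (h : ∀ p ∈ P1, a⁻¹ * p * a ∈ P1) : a ∈ P1 := by
  have h' := conj_onto P1 h
  have hz : a⁻¹ * z0 * a = z0 := by
    have hc : a⁻¹ * z0 * a = 1 ∨ a⁻¹ * z0 * a = z0 := by
      apply center_P1
      intro p hp
      have h1 := (h' p hp).1
      calc a⁻¹ * z0 * a * p = a⁻¹ * (z0 * (a * p * a⁻¹)) * a := by group
        _ = a⁻¹ * (a * p * a⁻¹ * z0) * a := by rw [h1]
        _ = p * (a⁻¹ * z0 * a) := by group
    rcases hc with hc | hc
    · exfalso
      have : z0 = 1 := by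
        calc z0 = a * (a⁻¹ * z0 * a) * a⁻¹ := by group
          _ = 1 := by rw [hc]; group
      exact absurd this (by decide)
    · exact hc
  have hz' : a * z0 = z0 * a := by
    calc a * z0 = a * (a⁻¹ * z0 * a) := by rw [hz]
      _ = z0 * a := by group
  have hv : a⁻¹ * va * a = 1 ∨ a⁻¹ * va * a = z0 ∨ a⁻¹ * va * a = va ∨ a⁻¹ * va * a = va' := by
    apply second_center
    intro p hp
    rcases va_comm (h' p hp) with h1 | h1
    · left
      calc a⁻¹ * va * a * p = a⁻¹ * (va * (a * p * a⁻¹)) * a := by group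
        _ = a⁻¹ * (a * p * a⁻¹ * va) * a := by rw [h1]
        _ = p * (a⁻¹ * va * a) := by group
    · right
      calc a⁻¹ * va * a * p = a⁻¹ * (va * (a * p * a⁻¹)) * a := by group
        _ = a⁻¹ * (z0 * (a * p * a⁻¹ * va)) * a := by rw [h1]
        _ = (a⁻¹ * z0 * a) * (p * (a⁻¹ * va * a)) := by group
        _ = z0 * (p * (a⁻¹ * va * a)) := by rw [hz]
  have back : ∀ {x : Perm (Fin 8)}, a⁻¹ * va * a = x → va = a * x * a⁻¹ := by
    intro x hx
    rw [← hx]; group
  rcases hv with hv | hv | hv | hv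
  · exfalso
    have := back hv
    rw [mul_one, mul_inv_cancel] at this
    exact absurd this (by decide)
  · exfalso
    have := back hv
    rw [hz', mul_inv_cancel_right] at this
    exact absurd this (by decide)
  · refine ⟨hz', Or.inl ?_⟩
    have h1 : a * (a⁻¹ * va * a) = a * va := by rw [hv]
    rw [← h1]; group
  · refine ⟨hz', Or.inr ?_⟩
    have h1 : va * a = a * va' := by rw [← hv]; group
    have e : va = z0 * va' := by decide
    have e' : z0 * va = va' := by decide
    calc a * va = a * (z0 * va') := by rw [← e]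
      _ = z0 * (a * va') := by rw [← mul_assoc, hz', mul_assoc]
      _ = va' * a := by rw [← h1, ← mul_assoc, e']

theorem pow8_aux : All (fun p => ((∀ i, p (va i) = va (p i)) ∨ (∀ i, p (va i) = va' (p i))) →
    ∀ i, p (p (p (p (p (p (p (p i))))))) = i) := by
  decide +kernel

theorem pow8 {p : Perm (Fin 8)} (hp : p ∈ P1) : p ^ 8 = 1 := by
  apply Equiv.ext
  intro i
  refine pow8_aux.apply hp.1 ?_ i
  rcases hp.2 with h | h
  · exact Or.inl fun i => congrArg (fun q : Perm (Fin 8) => q i) h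
  · exact Or.inr fun i => congrArg (fun q : Perm (Fin 8) => q i) h

/-! ## five-cycles -/

theorem five_of_c5 {B : Perm (Fin 8)} (hB : B * B = 1) (h1 : B * (c5 * B * c5⁻¹) = c5 * B * c5⁻¹ * B)
    (h2 : B * (c5 * c5 * B * (c5 * c5)⁻¹) = c5 * c5 * B * (c5 * c5)⁻¹ * B) : c5 * B = B * c5 := by
  have hBB : ∀ i, B (B i) = i := fun i => congrArg (fun q : Perm (Fin 8) => q i) hB
  have ne : ∀ {i j : Fin 8}, i ≠ j → B i ≠ B j := fun h e => h (B.injective e)
  have sy : ∀ i j : Fin 8, (B i = j ↔ B j = i) := by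
    intro i j
    constructor
    · intro h; rw [← h, hBB]
    · intro h; rw [← h, hBB]
  have hB' : (B : Fin 8 → Fin 8) = ![B 0, B 1, B 2, B 3, B 4, B 5, B 6, B 7] := by
    funext i
    fin_cases i <;> rfl
  have h := five_aux (B 0) (B 1) ⟨ne (by decide), sy _ _⟩
    (B 2) ⟨ne (by decide), sy _ _, ne (by decide), sy _ _⟩
    (B 3) ⟨ne (by decide), sy _ _, ne (by decide), sy _ _, ne (by decide), sy _ _⟩
    (B 4) ⟨ne (by decide), sy _ _, ne (by decide), sy _ _, ne (by decide), sy _ _, ne (by decide), sy _ _⟩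
    (B 5) ⟨ne (by decide), sy _ _, ne (by decide), sy _ _, ne (by decide), sy _ _, ne (by decide), sy _ _,
      ne (by decide), sy _ _⟩
    (B 6) ⟨ne (by decide), sy _ _, ne (by decide), sy _ _, ne (by decide), sy _ _, ne (by decide), sy _ _,
      ne (by decide), sy _ _, ne (by decide), sy _ _⟩
    (B 7) ⟨ne (by decide), sy _ _, ne (by decide), sy _ _, ne (by decide), sy _ _, ne (by decide), sy _ _,
      ne (by decide), sy _ _, ne (by decide), sy _ _, ne (by decide), sy _ _⟩
  rw [← hB'] at h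
  apply Equiv.ext
  exact h (fun i => congrArg (fun q : Perm (Fin 8) => q i) h1)
    (fun i => congrArg (fun q : Perm (Fin 8) => q i) h2)

/-- an element of order five of `S₈` is conjugate to `c5` -/
theorem conj_c5 {F : Perm (Fin 8)} (h5 : F ^ 5 = 1) (h1 : F ≠ 1) : ∃ g : Perm (Fin 8), g * F * g⁻¹ = c5 := by
  have hp : Fact (Nat.Prime 5) := ⟨by norm_num⟩
  have ho : orderOf F = 5 := orderOf_eq_prime h5 h1
  obtain ⟨k, hk⟩ := Equiv.Perm.cycleType_prime_order (σ := F) (by rw [ho]; norm_num)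
  have hs := Equiv.Perm.sum_cycleType F
  rw [hk, ho, Multiset.sum_replicate, smul_eq_mul] at hs
  have hle : F.support.card ≤ 8 := by
    have := Finset.card_le_univ F.support
    simpa using this
  have hk0 : k = 0 := by omega
  have hF : F.cycleType = {5} := by
    rw [hk, ho, hk0]; rfl
  have hc : c5.cycleType = {5} := by
    have h5' : c5 ^ 5 = 1 := by decide
    have h1' : c5 ≠ 1 := by decide
    have ho' : orderOf c5 = 5 := orderOf_eq_prime h5' h1'
    obtain ⟨k', hk'⟩ := Equiv.Perm.cycleType_prime_order (σ := c5) (by rw [ho']; norm_num)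
    have hs' := Equiv.Perm.sum_cycleType c5
    rw [hk', ho', Multiset.sum_replicate, smul_eq_mul] at hs'
    have hle' : c5.support.card ≤ 8 := by
      have := Finset.card_le_univ c5.support
      simpa using this
    have hk0' : k' = 0 := by omega
    rw [hk', ho', hk0']; rfl
  obtain ⟨g, hg⟩ := isConj_iff.1 (Equiv.Perm.isConj_iff_cycleType_eq.2 (hF.trans hc.symm))
  exact ⟨g, hg⟩

/-- the five-cycle lemma -/
theorem five_lemma {F B : Perm (Fin 8)} (hB : B * B = 1) (h1 : B * (F * B * F⁻¹) = F * B * F⁻¹ * B)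
    (h2 : B * (F * F * B * (F * F)⁻¹) = F * F * B * (F * F)⁻¹ * B) (h5 : F ^ 5 * B = B * F ^ 5) :
    F * B = B * F := by
  -- the case `F ^ 5 = 1`
  have key : ∀ {F B : Perm (Fin 8)}, B * B = 1 → B * (F * B * F⁻¹) = F * B * F⁻¹ * B →
      B * (F * F * B * (F * F)⁻¹) = F * F * B * (F * F)⁻¹ * B → F ^ 5 = 1 → F * B = B * F := by
    intro F B hB h1 h2 h5
    by_cases hF : F = 1
    · rw [hF, one_mul, mul_one]
    obtain ⟨g, hg⟩ := conj_c5 h5 hF
    have e1 : ∀ x y : Perm (Fin 8), g * (x * y) * g⁻¹ = (g * x * g⁻¹) * (g * y * g⁻¹) := by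
      intro x y; group
    have e2 : ∀ x : Perm (Fin 8), g * x⁻¹ * g⁻¹ = (g * x * g⁻¹)⁻¹ := by
      intro x; group
    have c1 := congrArg (fun x => g * x * g⁻¹) hB
    have c2 := congrArg (fun x => g * x * g⁻¹) h1
    have c3 := congrArg (fun x => g * x * g⁻¹) h2
    simp only [e1, e2, hg] at c1 c2 c3
    rw [mul_one, mul_inv_cancel] at c1
    have c4 := five_of_c5 c1 c2 c3
    have c5' : g * (F * B) * g⁻¹ = g * (B * F) * g⁻¹ := by
      rw [e1, e1, hg]; exact c4
    exact mul_left_cancel (mul_right_cancel c5')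
  have hm : ∀ m : ℕ, (F ^ 5) ^ m * B = B * (F ^ 5) ^ m := by
    intro m
    exact ((show Commute (F ^ 5) B from h5).pow_left m).eq
  -- `F' = F ^ 32256 = F ^ (5 * 6451) * F`
  have e0 : F ^ 32256 = (F ^ 5) ^ 6451 * F := by rw [← pow_mul, ← pow_succ]
  have c0 : ∀ x : Perm (Fin 8), ((F ^ 5) ^ 6451 * F) * B * ((F ^ 5) ^ 6451 * F)⁻¹ = F * B * F⁻¹ := by
    intro _
    have hc := hm 6451
    have hF : (F ^ 5) ^ 6451 * F = F * (F ^ 5) ^ 6451 := by
      rw [← pow_mul, ← pow_succ, ← pow_succ']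
    calc ((F ^ 5) ^ 6451 * F) * B * ((F ^ 5) ^ 6451 * F)⁻¹
        = (F * (F ^ 5) ^ 6451) * B * (F * (F ^ 5) ^ 6451)⁻¹ := by rw [hF]
      _ = F * ((F ^ 5) ^ 6451 * B) * (F * (F ^ 5) ^ 6451)⁻¹ := by rw [mul_assoc F]
      _ = F * (B * (F ^ 5) ^ 6451) * (F * (F ^ 5) ^ 6451)⁻¹ := by rw [hc]
      _ = F * B * F⁻¹ := by
          rw [mul_inv_rev]
          calc F * (B * (F ^ 5) ^ 6451) * (((F ^ 5) ^ 6451)⁻¹ * F⁻¹)
              = F * B * ((F ^ 5) ^ 6451 * ((F ^ 5) ^ 6451)⁻¹) * F⁻¹ := by simp only [mul_assoc]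
            _ = F * B * F⁻¹ := by rw [mul_inv_cancel, mul_one]
  have e3 : F ^ 32256 * B * (F ^ 32256)⁻¹ = F * B * F⁻¹ := by rw [e0]; exact c0 1
  have e4 : F ^ 32256 * F ^ 32256 * B * (F ^ 32256 * F ^ 32256)⁻¹ = F * F * B * (F * F)⁻¹ := by
    calc F ^ 32256 * F ^ 32256 * B * (F ^ 32256 * F ^ 32256)⁻¹
        = F ^ 32256 * (F ^ 32256 * B * (F ^ 32256)⁻¹) * (F ^ 32256)⁻¹ := by group
      _ = F ^ 32256 * (F * B * F⁻¹) * (F ^ 32256)⁻¹ := by rw [e3]
      _ = F * (F ^ 32256 * B * (F ^ 32256)⁻¹) * F⁻¹ := by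
          have : F ^ 32256 * F = F * F ^ 32256 := by rw [← pow_succ, ← pow_succ']
          have h' : F⁻¹ * (F ^ 32256)⁻¹ = (F ^ 32256)⁻¹ * F⁻¹ := by
            rw [← mul_inv_rev, ← mul_inv_rev, this]
          calc F ^ 32256 * (F * B * F⁻¹) * (F ^ 32256)⁻¹ =
              (F ^ 32256 * F) * B * (F⁻¹ * (F ^ 32256)⁻¹) := by group
            _ = (F * F ^ 32256) * B * ((F ^ 32256)⁻¹ * F⁻¹) := by rw [this, h']
            _ = F * (F ^ 32256 * B * (F ^ 32256)⁻¹) * F⁻¹ := by group
      _ = F * (F * B * F⁻¹) * F⁻¹ := by rw [e3]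
      _ = F * F * B * (F * F)⁻¹ := by group
  have h40 : F ^ 40320 = 1 := by
    have : Nat.card (Perm (Fin 8)) = 40320 := by
      rw [Nat.card_eq_fintype_card, Fintype.card_perm, Fintype.card_fin]; rfl
    rw [← this]
    exact pow_card_eq_one'
  have h5' : (F ^ 32256) ^ 5 = 1 := by
    rw [← pow_mul, show 32256 * 5 = 40320 * 4 from rfl, pow_mul, h40, one_pow]
  have := key hB (F := F ^ 32256) (by rw [e3]; exact h1) (by rw [e4]; exact h2) h5'
  have e5 : F * B * F⁻¹ = B := by
    rw [← e3, this, mul_inv_cancel_right]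
  calc F * B = F * B * F⁻¹ * F := by group
    _ = B * F := by rw [e5]

end Cfsg.Agent.OddHalf.D5.Eight

end

-- merged: Cfsg.Agent.OddHalf.D5.EightSwap
section

/-!
# ODD D5, `n = 8`: the swap in the case `C_G(t) = ⟨t⟩ × S₈` (helper647)
-/

set_option autoImplicit false

namespace Cfsg.Agent.OddHalf.D5.Eight

open Subgroup Equiv Cfsg.Agent.StdSpSix

variable {G : Type*} [Group G]

/-- `C_G(t) = ⟨t⟩ × j(S₈)` -/
structure SS (t : G) (j : Perm (Fin 8) →* G) : Prop where
  tt : t * t = 1
  inj : Function.Injective j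
  comm : ∀ a, t * j a = j a * t
  cent : ∀ g, g * t = t * g → (∃ a, g = j a) ∨ ∃ a, g = t * j a
  ne : ∀ a, j a ≠ t

/-- `g` has image `a` -/
def R (t : G) (j : Perm (Fin 8) →* G) (g : G) (a : Perm (Fin 8)) : Prop := g = j a ∨ g = t * j a

namespace SS

variable {t : G} {j : Perm (Fin 8) →* G}

theorem R_mul (h : SS t j) {g g' : G} {a a' : Perm (Fin 8)} (hg : R t j g a) (hg' : R t j g' a') :
    R t j (g * g') (a * a') := by
  rcases hg with rfl | rfl <;> rcases hg' with rfl | rfl
  · left; rw [map_mul]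
  · right; rw [map_mul, ← mul_assoc, ← h.comm, mul_assoc]
  · right; rw [map_mul, mul_assoc]
  · left
    rw [map_mul]
    calc t * j a * (t * j a') = t * (j a * t) * j a' := by group
      _ = t * (t * j a) * j a' := by rw [h.comm]
      _ = (t * t) * (j a * j a') := by group
      _ = j a * j a' := by rw [h.tt, one_mul]

theorem R_one : R t j 1 1 := Or.inl (map_one j).symm

theorem R_j (a : Perm (Fin 8)) : R t j (j a) a := Or.inl rfl

theorem t_ne (h : SS t j) (a b : Perm (Fin 8)) : j a ≠ t * j b := by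
  intro e
  apply h.ne (a * b⁻¹)
  rw [map_mul, map_inv, e, mul_inv_cancel_right]

theorem R_uniq (h : SS t j) {g : G} {a a' : Perm (Fin 8)} (hg : R t j g a) (hg' : R t j g a') : a = a' := by
  rcases hg with rfl | rfl <;> rcases hg' with hg' | hg'
  · exact h.inj hg'
  · exact absurd hg' (h.t_ne _ _)
  · exact absurd hg'.symm (h.t_ne _ _)
  · exact h.inj (mul_left_cancel hg')

theorem tinv (h : SS t j) : t⁻¹ = t := inv_eq_of_mul_eq_one_left h.tt

theorem R_inv (h : SS t j) {g : G} {a : Perm (Fin 8)} (hg : R t j g a) : R t j g⁻¹ a⁻¹ := by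
  rcases hg with rfl | rfl
  · left; rw [map_inv]
  · right; rw [mul_inv_rev, h.tinv, map_inv, ← map_inv, h.comm]

theorem R_comm (h : SS t j) {g : G} {a : Perm (Fin 8)} (hg : R t j g a) : g * t = t * g := by
  rcases hg with rfl | rfl
  · exact (h.comm a).symm
  · rw [mul_assoc, ← h.comm]

theorem exists_R (h : SS t j) {g : G} (hg : g * t = t * g) : ∃ a, R t j g a := by
  rcases h.cent g hg with ⟨a, ha⟩ | ⟨a, ha⟩
  · exact ⟨a, Or.inl ha⟩
  · exact ⟨a, Or.inr ha⟩

/-- an element commuting with `j b` has image commuting with `b` -/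
theorem R_commute (h : SS t j) {g : G} {a b : Perm (Fin 8)} (hg : R t j g a) (hb : g * j b = j b * g) :
    a * b = b * a := by
  refine h.R_uniq (h.R_mul hg (R_j b)) ?_
  rw [hb]
  exact h.R_mul (R_j b) hg

theorem jz (_h : SS t j) : j z0 * j z0 = 1 := by rw [← map_mul, z0_sq, map_one]

theorem jz_ne (h : SS t j) : j z0 ≠ 1 := by
  intro e
  have : z0 = 1 := h.inj (e.trans (map_one j).symm)
  exact absurd this (by decide)

theorem t_ne_tz (h : SS t j) : t ≠ t * j z0 := by
  intro e
  exact h.jz_ne (mul_eq_left.1 e.symm)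

end SS

/-- `w` swaps `t` and `t z` and commutes with `z` -/
structure Sw (t : G) (j : Perm (Fin 8) →* G) (w : G) : Prop where
  wt : w * t = t * j z0 * w
  wz : w * j z0 = j z0 * w

namespace Sw

variable {t : G} {j : Perm (Fin 8) →* G} {w : G}

theorem wtz (s : Sw t j w) (h : SS t j) : w * (t * j z0) = t * w := by
  rw [← mul_assoc, s.wt, mul_assoc, s.wz, ← mul_assoc, mul_assoc t, h.jz, mul_one]

/-- conjugation by `w` on `C(t) ∩ C(z)` -/
theorem conj (s : Sw t j w) (h : SS t j) {g : G} (hg : g * t = t * g) (hz : g * j z0 = j z0 * g) :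
    (w * g * w⁻¹) * t = t * (w * g * w⁻¹) ∧ (w * g * w⁻¹) * j z0 = j z0 * (w * g * w⁻¹) := by
  have e1 : w⁻¹ * t = (t * j z0) * w⁻¹ := by
    rw [inv_mul_eq_iff_eq_mul, ← mul_assoc, s.wtz h, mul_inv_cancel_right]
  have e2 : w⁻¹ * j z0 = j z0 * w⁻¹ := by
    rw [inv_mul_eq_iff_eq_mul, ← mul_assoc, s.wz, mul_inv_cancel_right]
  constructor
  · calc w * g * w⁻¹ * t = w * (g * (t * j z0)) * w⁻¹ := by
          rw [mul_assoc (w * g), e1]; simp only [mul_assoc]
      _ = w * (t * j z0 * g) * w⁻¹ := by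
          have e : g * (t * j z0) = t * j z0 * g := by rw [← mul_assoc, hg, mul_assoc, hz, ← mul_assoc]
          rw [e]
      _ = w * (t * j z0) * g * w⁻¹ := by simp only [mul_assoc]
      _ = t * (w * g * w⁻¹) := by rw [s.wtz h]; simp only [mul_assoc]
  · calc w * g * w⁻¹ * j z0 = w * (g * j z0) * w⁻¹ := by
          rw [mul_assoc (w * g), e2]; simp only [mul_assoc]
      _ = w * (j z0 * g) * w⁻¹ := by rw [hz]
      _ = (w * j z0) * g * w⁻¹ := by simp only [mul_assoc]
      _ = j z0 * (w * g * w⁻¹) := by rw [s.wz]; simp only [mul_assoc]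

theorem exists_R (s : Sw t j w) (h : SS t j) {a : Perm (Fin 8)} (ha : a * z0 = z0 * a) :
    ∃ b, b * z0 = z0 * b ∧ R t j (w * j a * w⁻¹) b := by
  have h1 := s.conj h (h.comm a).symm (g := j a) (by rw [← map_mul, ha, map_mul])
  obtain ⟨b, hb⟩ := h.exists_R h1.1
  exact ⟨b, h.R_commute hb h1.2, hb⟩

/-- `α` is injective modulo `z` -/
theorem inj_mod (s : Sw t j w) (h : SS t j) {a b : Perm (Fin 8)} (hR : R t j (w * j a * w⁻¹) b)
    (hb : b = 1 ∨ b = z0) : a = 1 ∨ a = z0 := by
  have key : ∀ x : G, w * j a * w⁻¹ = x → w * j a = x * w := by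
    intro x hx
    rw [← hx]; group
  have hwt : ∀ x : G, w * j a = w * x → j a = x := fun x hx => mul_left_cancel hx
  rcases hb with rfl | rfl
  · rcases hR with e | e
    · left
      apply h.inj
      rw [map_one] at e ⊢
      apply hwt
      rw [key _ e, one_mul, mul_one]
    · exfalso
      rw [map_one, mul_one] at e
      have : j a = t * j z0 := hwt _ (by rw [key _ e, s.wtz h])
      exact h.t_ne _ _ this
  · rcases hR with e | e
    · right
      exact h.inj (hwt _ (by rw [key _ e, s.wz]))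
    · exfalso
      have : j a = t := hwt _ (by rw [key _ e, ← s.wt])
      exact h.ne _ this

/-- multiply by an element of `j(C(z0))` -/
theorem mul (s : Sw t j w) (h : SS t j) {c : Perm (Fin 8)} (hc : c * z0 = z0 * c) : Sw t j (j c * w) where
  wt := by
    calc j c * w * t = j c * (w * t) := by group
      _ = j c * t * j z0 * w := by rw [s.wt]; group
      _ = t * (j c * j z0) * w := by rw [← h.comm]; group
      _ = t * (j z0 * j c) * w := by rw [← map_mul, hc, map_mul]
      _ = t * j z0 * (j c * w) := by group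
  wz := by
    rw [mul_assoc, s.wz, ← mul_assoc, ← map_mul, hc, map_mul, mul_assoc]

theorem mul_conj (h : SS t j) {c a b : Perm (Fin 8)} (hR : R t j (w * j a * w⁻¹) b) :
    R t j (j c * w * j a * (j c * w)⁻¹) (c * b * c⁻¹) := by
  have : j c * w * j a * (j c * w)⁻¹ = j c * (w * j a * w⁻¹) * j c⁻¹ := by
    rw [map_inv]; group
  rw [this]
  exact h.R_mul (h.R_mul (SS.R_j c) hR) (SS.R_j c⁻¹)

/-- first adjustment: `w` commutes with `rho` -/
theorem adj_rho (s : Sw t j w) (h : SS t j) : ∃ w', Sw t j w' ∧ w' * j rho = j rho * w' := by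
  have hrz : rho * z0 = z0 * rho := by decide
  obtain ⟨r, hrc, hr⟩ := s.exists_R h hrz
  have h3 : r * r * r = 1 := by
    refine h.R_uniq (h.R_mul (h.R_mul hr hr) hr) ?_
    have : w * j rho * w⁻¹ * (w * j rho * w⁻¹) * (w * j rho * w⁻¹) = 1 := by
      have e : rho * rho * rho = 1 := by decide
      calc w * j rho * w⁻¹ * (w * j rho * w⁻¹) * (w * j rho * w⁻¹)
          = w * (j rho * j rho * j rho) * w⁻¹ := by group
        _ = 1 := by rw [← map_mul, ← map_mul, e, map_one]; group
    rw [this]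
    exact SS.R_one
  have h1 : r ≠ 1 := by
    intro e
    rcases s.inj_mod h hr (Or.inl e) with e' | e'
    · exact absurd e' (by decide)
    · exact absurd e' (by decide)
  obtain ⟨c, hc, hcr⟩ := exists_conj_rho hrc h3 h1
  refine ⟨j c * w, s.mul h hc, ?_⟩
  have hR := mul_conj h (c := c) hr
  rw [hcr] at hR
  have key : j c * w * j rho * (j c * w)⁻¹ = j rho := by
    rcases hR with e | e
    · exact e
    · exfalso
      have h6 : (j c * w * j rho * (j c * w)⁻¹) * (j c * w * j rho * (j c * w)⁻¹) *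
          (j c * w * j rho * (j c * w)⁻¹) = 1 := by
        have e : rho * rho * rho = 1 := by decide
        calc (j c * w * j rho * (j c * w)⁻¹) * (j c * w * j rho * (j c * w)⁻¹) *
          (j c * w * j rho * (j c * w)⁻¹) = (j c * w) * (j rho * j rho * j rho) * (j c * w)⁻¹ := by group
          _ = 1 := by rw [← map_mul, ← map_mul, e, map_one]; group
      rw [e] at h6
      have e7 : t * j rho * (t * j rho) * (t * j rho) = t := by
        have e : rho * rho * rho = 1 := by decide
        calc t * j rho * (t * j rho) * (t * j rho) = t * (j rho * t) * (j rho * t) * j rho := by group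
          _ = t * (t * j rho) * (t * j rho) * j rho := by rw [← h.comm]
          _ = (t * t) * (j rho * t) * (j rho * j rho) := by group
          _ = t * (j rho * j rho * j rho) := by rw [h.tt, ← h.comm]; group
          _ = t := by rw [← map_mul, ← map_mul, e, map_one, mul_one]
      rw [e7] at h6
      exact h.ne 1 ((map_one j).trans h6.symm)
  calc j c * w * j rho = j c * w * j rho * (j c * w)⁻¹ * (j c * w) := by group
    _ = j rho * (j c * w) := by rw [key]

/-- second adjustment: `w` acts on `rho, e6, s1` as expected, modulo `t` -/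
theorem adj (s : Sw t j w) (h : SS t j) (hr : w * j rho = j rho * w) :
    ∃ w', Sw t j w' ∧ w' * j rho = j rho * w' ∧
      (R t j (w' * j e6 * w'⁻¹) e6 ∨ R t j (w' * j e6 * w'⁻¹) (e6 * z0)) ∧
      (R t j (w' * j s1 * w'⁻¹) s1 ∨ R t j (w' * j s1 * w'⁻¹) (s1 * z0)) := by
  have hez : e6 * z0 = z0 * e6 := by decide
  have hsz : s1 * z0 = z0 * s1 := by decide
  obtain ⟨E, hEc, hE⟩ := s.exists_R h hez
  obtain ⟨x, hxc, hx⟩ := s.exists_R h hsz
  have hRho : R t j (w * j rho * w⁻¹) rho := by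
    left; rw [hr, mul_inv_cancel_right]
  -- `E`
  have hE2 : E * E = 1 := by
    refine h.R_uniq (h.R_mul hE hE) ?_
    have : w * j e6 * w⁻¹ * (w * j e6 * w⁻¹) = 1 := by
      have e : e6 * e6 = 1 := by decide
      calc w * j e6 * w⁻¹ * (w * j e6 * w⁻¹) = w * (j e6 * j e6) * w⁻¹ := by group
        _ = 1 := by rw [← map_mul, e, map_one]; group
    rw [this]; exact SS.R_one
  have hEr : E * rho = rho * E := by
    apply h.R_commute hE
    have e : e6 * rho = rho * e6 := by decide
    have hr' : w⁻¹ * j rho = j rho * w⁻¹ := by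
      rw [inv_mul_eq_iff_eq_mul, ← mul_assoc, hr, mul_inv_cancel_right]
    calc w * j e6 * w⁻¹ * j rho = w * j e6 * (w⁻¹ * j rho) := by group
      _ = w * (j e6 * j rho) * w⁻¹ := by rw [hr']; group
      _ = (w * j rho) * j e6 * w⁻¹ := by rw [← map_mul, e, map_mul]; group
      _ = j rho * (w * j e6 * w⁻¹) := by rw [hr]; group
  have hEE : E = e6 ∨ E = e6 * z0 := by
    have hn : ¬ (E = 1 ∨ E = z0) := by
      intro hc
      rcases s.inj_mod h hE hc with e | e
      · exact absurd e (by decide)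
      · exact absurd e (by decide)
    rcases cent_rho hEc hE2 hEr with e | e | e | e
    · exact absurd (Or.inl e) hn
    · exact absurd (Or.inr e) hn
    · exact Or.inl e
    · exact Or.inr e
  -- `x`
  have hx2 : x * x = 1 := by
    refine h.R_uniq (h.R_mul hx hx) ?_
    have : w * j s1 * w⁻¹ * (w * j s1 * w⁻¹) = 1 := by
      have e : s1 * s1 = 1 := by decide
      calc w * j s1 * w⁻¹ * (w * j s1 * w⁻¹) = w * (j s1 * j s1) * w⁻¹ := by group
        _ = 1 := by rw [← map_mul, e, map_one]; group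
    rw [this]; exact SS.R_one
  have hx4 : rho * x * (rho * x) * (rho * x) * (rho * x) = 1 := by
    have h1 := h.R_mul hRho hx
    refine h.R_uniq (h.R_mul (h.R_mul (h.R_mul h1 h1) h1) h1) ?_
    have e : rho * s1 * (rho * s1) * (rho * s1) * (rho * s1) = 1 := by decide
    have : w * j rho * w⁻¹ * (w * j s1 * w⁻¹) * (w * j rho * w⁻¹ * (w * j s1 * w⁻¹)) *
        (w * j rho * w⁻¹ * (w * j s1 * w⁻¹)) * (w * j rho * w⁻¹ * (w * j s1 * w⁻¹)) = 1 := by
      calc _ = w * (j rho * j s1 * (j rho * j s1) * (j rho * j s1) * (j rho * j s1)) * w⁻¹ := by group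
        _ = 1 := by
          simp only [← map_mul]
          rw [e, map_one]; group
    rw [this]; exact SS.R_one
  have hex : ¬ (e6 * x * (e6 * x) = 1 ∨ e6 * x * (e6 * x) = z0) := by
    intro hc
    have hEx : E * x * (E * x) = e6 * x * (e6 * x) := by
      rcases hEE with e | e
      · rw [e]
      · rw [e]
        calc e6 * z0 * x * (e6 * z0 * x) = e6 * (z0 * x) * (e6 * z0) * x := by group
          _ = e6 * x * (z0 * (e6 * z0)) * x := by rw [← hxc]; group
          _ = e6 * x * (z0 * (z0 * e6)) * x := by rw [hez]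
          _ = e6 * x * (z0 * z0) * e6 * x := by group
          _ = e6 * x * (e6 * x) := by rw [z0_sq]; group
    rw [← hEx] at hc
    have h1 := h.R_mul hE hx
    have h2 := h.R_mul h1 h1
    have e3 : w * j e6 * w⁻¹ * (w * j s1 * w⁻¹) * (w * j e6 * w⁻¹ * (w * j s1 * w⁻¹)) =
        w * j (e6 * s1 * (e6 * s1)) * w⁻¹ := by
      simp only [map_mul]; group
    rw [e3] at h2
    rcases s.inj_mod h h2 hc with e | e
    · exact absurd e (by decide)
    · exact absurd e (by decide)
  obtain ⟨c, hc, hcr, hce, hcx⟩ := f2 hxc hx2 hx4 (fun e => hex (Or.inl e)) (fun e => hex (Or.inr e))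
  refine ⟨j c * w, s.mul h hc, ?_, ?_, ?_⟩
  · rw [mul_assoc, hr, ← mul_assoc, ← map_mul, hcr, map_mul, mul_assoc]
  · have h1 := mul_conj h (c := c) hE
    rcases hEE with e | e
    · left
      rw [e, hce, mul_inv_cancel_right] at h1
      exact h1
    · right
      have e1 : c * (e6 * z0) * c⁻¹ = e6 * z0 := by
        rw [← mul_assoc, hce, mul_assoc e6, hc, ← mul_assoc, mul_inv_cancel_right]
      rw [e, e1] at h1
      exact h1
  · have h1 := mul_conj h (c := c) hx
    rcases hcx with e | e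
    · left; rw [e] at h1; exact h1
    · right; rw [e] at h1; exact h1

end Sw

/-- the pre-swap: an involution `y` with prescribed action, `β ∈ {1, z0}` -/
structure Pre (t : G) (j : Perm (Fin 8) →* G) (y : G) (be bs : Perm (Fin 8)) : Prop where
  yy : y * y = 1
  yt : y * t * y = t * j z0
  yr : y * j rho * y = j rho
  ye : y * j e6 * y = j (e6 * be)
  ys : y * j s1 * y = j (s1 * bs)

namespace Sw

variable {t : G} {j : Perm (Fin 8) →* G} {w : G}

/-- third step: the involution -/
theorem invol (s : Sw t j w) (h : SS t j) (hr : w * j rho = j rho * w)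
    (he : R t j (w * j e6 * w⁻¹) e6 ∨ R t j (w * j e6 * w⁻¹) (e6 * z0))
    (hs : R t j (w * j s1 * w⁻¹) s1 ∨ R t j (w * j s1 * w⁻¹) (s1 * z0)) :
    ∃ y be bs, (be = 1 ∨ be = z0) ∧ (bs = 1 ∨ bs = z0) ∧ Pre t j y be bs := by
  -- `w²` has image in `{1, z0}`
  have hwwt : (w * w) * t = t * (w * w) := by
    calc (w * w) * t = w * (w * t) := by group
      _ = (w * (t * j z0)) * w := by rw [s.wt]; group
      _ = t * (w * w) := by rw [s.wtz h]; group
  have hwwz : (w * w) * j z0 = j z0 * (w * w) := by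
    rw [mul_assoc, s.wz, ← mul_assoc, s.wz, mul_assoc]
  obtain ⟨a, ha⟩ := h.exists_R hwwt
  have haz : a * z0 = z0 * a := h.R_commute ha hwwz
  have har : a * rho = rho * a := h.R_commute ha (by rw [mul_assoc, hr, ← mul_assoc, hr, mul_assoc])
  have hszc : s1 * z0 = z0 * s1 := by decide
  -- images of conjugates
  have conjz : w * j z0 * w⁻¹ = j z0 := by rw [s.wz, mul_inv_cancel_right]
  have conjt : w * t * w⁻¹ = t * j z0 := by rw [s.wt, mul_inv_cancel_right]
  have conjR : ∀ {g : G} {b c : Perm (Fin 8)}, R t j g b → R t j (w * j b * w⁻¹) c →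
      R t j (w * g * w⁻¹) c ∨ R t j (w * g * w⁻¹) (z0 * c) := by
    intro g b c hg hc
    rcases hg with rfl | rfl
    · exact Or.inl hc
    · right
      have : w * (t * j b) * w⁻¹ = (w * t * w⁻¹) * (w * j b * w⁻¹) := by group
      rw [this, conjt]
      have h1 : R t j (t * j z0) z0 := Or.inr rfl
      exact h.R_mul h1 hc
  have mulzR : ∀ {b c : Perm (Fin 8)}, R t j (w * j b * w⁻¹) c →
      R t j (w * j (b * z0) * w⁻¹) (c * z0) := by
    intro b c hc
    have : w * j (b * z0) * w⁻¹ = (w * j b * w⁻¹) * (w * j z0 * w⁻¹) := by rw [map_mul]; group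
    rw [this, conjz]
    exact h.R_mul hc (SS.R_j z0)
  have hss : R t j (w * (w * j s1 * w⁻¹) * w⁻¹) s1 ∨ R t j (w * (w * j s1 * w⁻¹) * w⁻¹) (z0 * s1) := by
    rcases hs with hs | hs
    · exact conjR hs hs
    · have h1 := mulzR hs
      rw [mul_assoc s1, z0_sq, mul_one] at h1
      exact conjR hs h1
  have has : a * s1 = s1 * a ∨ a * s1 = z0 * (s1 * a) := by
    have e : w * (w * j s1 * w⁻¹) * w⁻¹ = (w * w) * j s1 * (w * w)⁻¹ := by group
    have h1 : R t j ((w * w) * j s1 * (w * w)⁻¹) (a * s1 * a⁻¹) :=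
      h.R_mul (h.R_mul ha (SS.R_j s1)) (h.R_inv ha)
    rw [e] at hss
    rcases hss with hss | hss
    · left
      have := h.R_uniq h1 hss
      calc a * s1 = a * s1 * a⁻¹ * a := by group
        _ = s1 * a := by rw [this]
    · right
      have := h.R_uniq h1 hss
      calc a * s1 = a * s1 * a⁻¹ * a := by group
        _ = z0 * (s1 * a) := by rw [this, mul_assoc]
  have ha1 : a = 1 ∨ a = z0 := f3 haz has (Or.inl har)
  -- `w²` commutes with `w`, so it is not in `t⟨z⟩`
  have hww : w * w = 1 ∨ w * w = j z0 := by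
    have hc : w * (w * w) * w⁻¹ = w * w := by group
    rcases ha with ha | ha
    · rcases ha1 with e | e
      · left; rw [ha, e, map_one]
      · right; rw [ha, e]
    · exfalso
      rcases ha1 with e | e
      · rw [ha, e, map_one, mul_one, conjt] at hc
        exact h.t_ne_tz hc.symm
      · rw [ha, e] at hc
        have : w * (t * j z0) * w⁻¹ = t := by rw [s.wtz h, mul_inv_cancel_right]
        rw [this] at hc
        exact h.t_ne_tz hc
  -- the involution
  have hy : ∃ y, y * y = 1 ∧ y * t * y = t * j z0 ∧ y * j rho * y = j rho ∧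
      (R t j (y * j e6 * y) e6 ∨ R t j (y * j e6 * y) (e6 * z0)) ∧
      (R t j (y * j s1 * y) s1 ∨ R t j (y * j s1 * y) (s1 * z0)) := by
    rcases hww with hw | hw
    · have hi : w⁻¹ = w := inv_eq_of_mul_eq_one_left hw
      rw [hi] at he hs conjt
      refine ⟨w, hw, conjt, ?_, he, hs⟩
      rw [hr, mul_assoc, hw, mul_one]
    · have hyy : (t * w) * (t * w) = 1 := by
        calc (t * w) * (t * w) = t * (w * t) * w := by group
          _ = t * t * j z0 * (w * w) := by rw [s.wt]; group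
          _ = 1 := by rw [h.tt, one_mul, hw, h.jz]
      have hi : (t * w)⁻¹ = t * w := inv_eq_of_mul_eq_one_left hyy
      have hcj : ∀ {g : G} {b : Perm (Fin 8)}, R t j (w * g * w⁻¹) b → R t j (t * w * g * (t * w)) b := by
        intro g b hb
        have e : t * w * g * (t * w) = t * (w * g * w⁻¹) * t := by
          calc t * w * g * (t * w) = t * w * g * (t * w)⁻¹ := by rw [hi]
            _ = t * (w * g * w⁻¹) * t⁻¹ := by group
            _ = t * (w * g * w⁻¹) * t := by rw [h.tinv]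
        rw [e, mul_assoc, h.R_comm hb, ← mul_assoc, h.tt, one_mul]
        exact hb
      refine ⟨t * w, hyy, ?_, ?_, ?_, ?_⟩
      · calc t * w * t * (t * w) = t * w * (t * t) * w := by group
          _ = t * (w * w) := by rw [h.tt]; group
          _ = t * j z0 := by rw [hw]
      · calc t * w * j rho * (t * w) = t * (w * j rho) * t * w := by group
          _ = (t * j rho) * (w * t) * w := by rw [hr]; group
          _ = (j rho * t) * (t * j z0 * w) * w := by rw [s.wt, h.comm]
          _ = j rho * (t * t) * j z0 * (w * w) := by group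
          _ = j rho * (j z0 * j z0) := by rw [h.tt, hw]; group
          _ = j rho := by rw [h.jz, mul_one]
      · exact he.imp hcj hcj
      · exact hs.imp hcj hcj
  obtain ⟨y, hyy, hyt, hyr, hye, hys⟩ := hy
  have hyz : y * j z0 * y = j z0 := by
    have h1 : y * (t * j z0) * y = t := by
      rw [← hyt]
      calc y * (y * t * y) * y = (y * y) * t * (y * y) := by group
        _ = t := by rw [hyy]; group
    have h2 : y * (t * j z0) * y = (y * t * y) * (y * j z0 * y) := by
      calc y * (t * j z0) * y = y * t * 1 * j z0 * y := by group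
        _ = y * t * (y * y) * j z0 * y := by rw [hyy]
        _ = (y * t * y) * (y * j z0 * y) := by group
    rw [h2, hyt, mul_assoc] at h1
    have h3 : j z0 * (y * j z0 * y) = 1 := mul_eq_left.1 h1
    have h4 : y * j z0 * y = (j z0)⁻¹ := eq_inv_of_mul_eq_one_right h3
    rw [h4]
    exact inv_eq_of_mul_eq_one_left h.jz
  -- no factor `t`
  have strict : ∀ {b c : Perm (Fin 8)}, (c = 1 ∨ c = z0) → R t j (y * j b * y) (b * c) →
      y * j b * y = j (b * c) := by
    intro b c hc hR
    rcases hR with e | e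
    · exact e
    · exfalso
      have hcc : c * c = 1 := by
        rcases hc with rfl | rfl
        · rw [one_mul]
        · exact z0_sq
      have hyc : y * j c * y = j c := by
        rcases hc with rfl | rfl
        · rw [map_one, mul_one, hyy]
        · exact hyz
      have h1 : y * (t * j (b * c)) * y = j b := by
        rw [← e]
        calc y * (y * j b * y) * y = (y * y) * j b * (y * y) := by group
          _ = j b := by rw [hyy]; group
      have h2 : y * (t * j (b * c)) * y = (y * t * y) * (y * j b * y) * (y * j c * y) := by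
        rw [map_mul]
        calc y * (t * (j b * j c)) * y = y * t * 1 * j b * 1 * j c * y := by group
          _ = y * t * (y * y) * j b * (y * y) * j c * y := by rw [hyy]
          _ = (y * t * y) * (y * j b * y) * (y * j c * y) := by group
      rw [h2, hyt, e, hyc] at h1
      have h3 : t * j z0 * (t * j (b * c)) * j c = j z0 * j b := by
        calc t * j z0 * (t * j (b * c)) * j c = t * (j z0 * t) * (j (b * c) * j c) := by group
          _ = t * (t * j z0) * (j (b * c) * j c) := by rw [h.comm]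
          _ = (t * t) * j z0 * (j (b * c) * j c) := by group
          _ = j z0 * j b := by
            rw [h.tt, one_mul, ← map_mul j (b * c) c, mul_assoc b, hcc, mul_one]
      rw [h3] at h1
      exact h.jz_ne (mul_eq_right.1 h1)
  have fin : ∀ {b : Perm (Fin 8)}, (R t j (y * j b * y) b ∨ R t j (y * j b * y) (b * z0)) →
      ∃ c, (c = 1 ∨ c = z0) ∧ y * j b * y = j (b * c) := by
    intro b hb
    rcases hb with hb | hb
    · exact ⟨1, Or.inl rfl, strict (Or.inl rfl) (by rw [mul_one]; exact hb)⟩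
    · exact ⟨z0, Or.inr rfl, strict (Or.inr rfl) hb⟩
  obtain ⟨be, hbe, hbe'⟩ := fin hye
  obtain ⟨bs, hbs, hbs'⟩ := fin hys
  exact ⟨y, be, bs, hbe, hbs, ⟨hyy, hyt, hyr, hbe', hbs'⟩⟩

/-- the three steps -/
theorem pre (s : Sw t j w) (h : SS t j) :
    ∃ y be bs, (be = 1 ∨ be = z0) ∧ (bs = 1 ∨ bs = z0) ∧ Pre t j y be bs := by
  obtain ⟨w1, s1', hr1⟩ := s.adj_rho h
  obtain ⟨w2, s2, hr2, he2, hs2⟩ := s1'.adj h hr1
  exact s2.invol h hr2 he2 hs2

end Sw

end Cfsg.Agent.OddHalf.D5.Eight

end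

-- merged: Cfsg.Agent.OddHalf.D5.EightStart
section

/-!
# ODD D5, `n = 8`: the element `w` (helper647)

`T = ⟨t⟩ × j(P₁)`. Either `T` fixes exactly one bad coset of `T` (so there is `m : G →* ℤˣ` with `m t = -1`) or some
`w ∈ N_G(T)` swaps `t` and `t z`.
-/

set_option autoImplicit false

namespace Cfsg.Agent.OddHalf.D5.Eight

open Subgroup Equiv Cfsg.Agent.StdSpSix

variable {G : Type*} [Group G]

/-! ## `H = N ∪ tN` and its sign -/

/-- `N ∪ tN` -/
def dbl (N : Subgroup G) (t : G) (htt : t * t = 1) (hN : ∀ n ∈ N, t * n * t ∈ N) : Subgroup G where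
  carrier := {g | g ∈ N ∨ t * g ∈ N}
  one_mem' := Or.inl N.one_mem
  mul_mem' := by
    have ti : ∀ x : G, t * (t * x) = x := fun x => by rw [← mul_assoc, htt, one_mul]
    rintro a b (ha | ha) (hb | hb)
    · exact Or.inl (N.mul_mem ha hb)
    · right
      have := N.mul_mem (hN a ha) hb
      have e : t * a * t * (t * b) = t * (a * b) := by
        calc t * a * t * (t * b) = t * a * (t * (t * b)) := by group
          _ = t * (a * b) := by rw [ti]; group
      rwa [e] at this
    · right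
      have := N.mul_mem ha hb
      rwa [mul_assoc] at this
    · left
      have := N.mul_mem (hN _ ha) hb
      have e : t * (t * a) * t * (t * b) = a * b := by
        calc t * (t * a) * t * (t * b) = (t * (t * a)) * (t * (t * b)) := by group
          _ = a * b := by rw [ti, ti]
      rwa [e] at this
  inv_mem' := by
    rintro a (ha | ha)
    · exact Or.inl (N.inv_mem ha)
    · right
      have := hN _ (N.inv_mem ha)
      have ti : t⁻¹ = t := inv_eq_of_mul_eq_one_left htt
      have e : t * (t * a)⁻¹ * t = t * a⁻¹ := by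
        rw [mul_inv_rev, ti, mul_assoc, mul_assoc, htt, mul_one]
      rwa [e] at this

theorem mem_dbl {N : Subgroup G} {t : G} {htt : t * t = 1} {hN : ∀ n ∈ N, t * n * t ∈ N} {g : G} :
    g ∈ dbl N t htt hN ↔ g ∈ N ∨ t * g ∈ N := Iff.rfl

open Classical in
/-- the sign: `1` on `N`, `-1` off `N` -/
theorem exists_sgn (N : Subgroup G) (t : G) (htt : t * t = 1) (hN : ∀ n ∈ N, t * n * t ∈ N) :
    ∃ l : dbl N t htt hN →* ℤˣ, ∀ a : dbl N t htt hN, (l a = 1 ↔ (a : G) ∈ N) := by
  have hne : (-1 : ℤˣ) ≠ 1 := by decide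
  refine ⟨{ toFun := fun a => if (a : G) ∈ N then 1 else -1
            map_one' := if_pos N.one_mem
            map_mul' := ?_ }, ?_⟩
  · rintro ⟨a, ha⟩ ⟨b, hb⟩
    change (if a * b ∈ N then (1 : ℤˣ) else -1) = (if a ∈ N then 1 else -1) * (if b ∈ N then 1 else -1)
    by_cases h1 : a ∈ N
    · by_cases h2 : b ∈ N
      · rw [if_pos h1, if_pos h2, if_pos (N.mul_mem h1 h2), one_mul]
      · rw [if_pos h1, if_neg h2, one_mul, if_neg]
        exact fun h => h2 ((N.mul_mem_cancel_left h1).1 h)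
    · by_cases h2 : b ∈ N
      · rw [if_neg h1, if_pos h2, mul_one, if_neg]
        exact fun h => h1 ((N.mul_mem_cancel_right h2).1 h)
      · rw [if_neg h1, if_neg h2, if_pos]
        · decide
        · have ha' := (mem_dbl.1 ha).resolve_left h1
          have hb' := (mem_dbl.1 hb).resolve_left h2
          have := N.mul_mem (hN _ ha') hb'
          have e : t * (t * a) * t * (t * b) = a * b := by
            calc t * (t * a) * t * (t * b) = (t * t) * a * (t * t) * b := by group
              _ = a * b := by rw [htt]; group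
          rwa [e] at this
  · rintro ⟨a, ha⟩
    change (if a ∈ N then (1 : ℤˣ) else -1) = 1 ↔ a ∈ N
    by_cases h1 : a ∈ N
    · rw [if_pos h1]; exact ⟨fun _ => h1, fun _ => rfl⟩
    · rw [if_neg h1]; exact ⟨fun h => absurd h hne, fun h => absurd h h1⟩

namespace SS

variable {t : G} {j : Perm (Fin 8) →* G}

theorem tnt (h : SS t j) : ∀ n ∈ P1.map j, t * n * t ∈ P1.map j := by
  rintro _ ⟨p, hp, rfl⟩
  rw [h.comm, mul_assoc, h.tt, mul_one]
  exact ⟨p, hp, rfl⟩

/-- `T = ⟨t⟩ × j(P₁)` -/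
def T (h : SS t j) : Subgroup G := dbl (P1.map j) t h.tt h.tnt

theorem mem_T (h : SS t j) {g : G} : g ∈ h.T ↔ ∃ p ∈ P1, R t j g p := by
  constructor
  · rintro (⟨p, hp, e⟩ | ⟨p, hp, e⟩)
    · exact ⟨p, hp, Or.inl e.symm⟩
    · refine ⟨p, hp, Or.inr ?_⟩
      rw [e, ← mul_assoc, h.tt, one_mul]
  · rintro ⟨p, hp, e | e⟩
    · exact Or.inl ⟨p, hp, e.symm⟩
    · refine Or.inr ⟨p, hp, ?_⟩
      rw [e, ← mul_assoc, h.tt, one_mul]

theorem T_comm (h : SS t j) {g : G} (hg : g ∈ h.T) : g * t = t * g := by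
  obtain ⟨p, -, hR⟩ := h.mem_T.1 hg
  exact h.R_comm hR

theorem j_mem_T (h : SS t j) {p : Perm (Fin 8)} (hp : p ∈ P1) : j p ∈ h.T := h.mem_T.2 ⟨p, hp, R_j p⟩

theorem t_mem_T (h : SS t j) : t ∈ h.T := h.mem_T.2 ⟨1, P1.one_mem, Or.inr (by rw [map_one, mul_one])⟩

theorem T_pgroup (h : SS t j) : IsPGroup 2 h.T := by
  rintro ⟨g, hg⟩
  refine ⟨3, Subtype.ext ?_⟩
  change g ^ (2 ^ 3) = 1
  obtain ⟨p, hp, e | e⟩ := h.mem_T.1 hg
  · rw [e, ← map_pow, show (2 : ℕ) ^ 3 = 8 from rfl, pow8 hp, map_one]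
  · have hc : Commute t (j p) := h.comm p
    rw [e, hc.mul_pow, ← map_pow, show (2 : ℕ) ^ 3 = 8 from rfl, pow8 hp, map_one, mul_one,
      show (8 : ℕ) = 2 * 4 from rfl, pow_mul, pow_two, h.tt, one_pow]

/-- `N_G(T) ∩ C_G(t) = T` -/
theorem mem_T_of (h : SS t j) {g : G} (hg : g * t = t * g) (hn : ∀ x ∈ h.T, g⁻¹ * x * g ∈ h.T) : g ∈ h.T := by
  obtain ⟨a, ha⟩ := h.exists_R hg
  refine h.mem_T.2 ⟨a, ?_, ha⟩
  apply norm_P1
  intro p hp
  obtain ⟨q, hq, hR⟩ := h.mem_T.1 (hn _ (h.j_mem_T hp))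
  have h1 : R t j (g⁻¹ * j p * g) (a⁻¹ * p * a) := h.R_mul (h.R_mul (h.R_inv ha) (R_j p)) ha
  rw [h.R_uniq h1 hR]
  exact hq

/-- elements of `C(T)` -/
theorem cent_T (h : SS t j) {g : G} (hg : ∀ x ∈ h.T, g * x = x * g) : R t j g 1 ∨ R t j g z0 := by
  obtain ⟨a, ha⟩ := h.exists_R (hg t h.t_mem_T)
  have : a = 1 ∨ a = z0 := by
    apply center_P1
    intro p hp
    exact h.R_commute ha (hg _ (h.j_mem_T hp))
  rcases this with rfl | rfl
  · exact Or.inl ha
  · exact Or.inr ha

/-- `z` is fixed by elements normalising `T` -/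
theorem fix_z (h : SS t j) {g : G} (hn : ∀ x ∈ h.T, g⁻¹ * x * g ∈ h.T) (hn' : ∀ x ∈ h.T, g * x * g⁻¹ ∈ h.T) :
    g⁻¹ * j z0 * g = j z0 := by
  obtain ⟨u, hu, v, hv, e⟩ := z0_comm
  obtain ⟨p, hp, hpR⟩ := h.mem_T.1 (hn _ (h.j_mem_T hu))
  obtain ⟨q, hq, hqR⟩ := h.mem_T.1 (hn _ (h.j_mem_T hv))
  -- a commutator lies in `j(P₁)`
  have hc : g⁻¹ * j z0 * g = j (p * q * p⁻¹ * q⁻¹) := by
    have h1 : g⁻¹ * j z0 * g = (g⁻¹ * j u * g) * (g⁻¹ * j v * g) * (g⁻¹ * j u * g)⁻¹ * (g⁻¹ * j v * g)⁻¹ := by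
      rw [e]
      simp only [map_mul, map_inv]
      group
    rw [h1]
    have tc : ∀ x : Perm (Fin 8), Commute t (j x) := h.comm
    simp only [map_mul, map_inv]
    rcases hpR with hp1 | hp1 <;> rcases hqR with hq1 | hq1 <;> rw [hp1, hq1]
    · rw [mul_inv_rev t, h.tinv]
      calc j p * (t * j q) * (j p)⁻¹ * ((j q)⁻¹ * t) = (j p * t) * j q * (j p)⁻¹ * (j q)⁻¹ * t := by group
        _ = t * (j p * j q * (j p)⁻¹ * (j q)⁻¹) * t := by rw [← h.comm]; group
        _ = t * j (p * q * p⁻¹ * q⁻¹) * t := by simp only [map_mul, map_inv]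
        _ = t * t * j (p * q * p⁻¹ * q⁻¹) := by rw [mul_assoc t, ← h.comm]; group
        _ = j p * j q * (j p)⁻¹ * (j q)⁻¹ := by rw [h.tt, one_mul]; simp only [map_mul, map_inv]
    · rw [mul_inv_rev t, h.tinv]
      calc t * j p * j q * ((j p)⁻¹ * t) * (j q)⁻¹ = t * (j p * j q * (j p)⁻¹) * (t * (j q)⁻¹) := by group
        _ = t * (j p * j q * (j p)⁻¹) * (t * j q⁻¹) := by rw [map_inv]
        _ = t * (j p * j q * (j p)⁻¹) * (j q⁻¹ * t) := by rw [h.comm]
        _ = t * j (p * q * p⁻¹ * q⁻¹) * t := by simp only [map_mul, map_inv]; group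
        _ = t * t * j (p * q * p⁻¹ * q⁻¹) := by rw [mul_assoc t, ← h.comm]; group
        _ = j p * j q * (j p)⁻¹ * (j q)⁻¹ := by rw [h.tt, one_mul]; simp only [map_mul, map_inv]
    · rw [mul_inv_rev t, mul_inv_rev t, h.tinv]
      calc t * j p * (t * j q) * ((j p)⁻¹ * t) * ((j q)⁻¹ * t)
          = t * (j p * t) * j q * (j p)⁻¹ * (t * (j q)⁻¹) * t := by group
        _ = t * (j p * t) * j q * (j p)⁻¹ * (t * j q⁻¹) * t := by rw [map_inv]
        _ = t * (t * j p) * j q * (j p)⁻¹ * (j q⁻¹ * t) * t := by rw [h.comm, h.comm]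
        _ = (t * t) * (j p * j q * (j p)⁻¹ * j q⁻¹) * (t * t) := by group
        _ = j p * j q * (j p)⁻¹ * (j q)⁻¹ := by rw [h.tt, one_mul, mul_one, map_inv]
  have hcen : ∀ x ∈ h.T, (g⁻¹ * j z0 * g) * x = x * (g⁻¹ * j z0 * g) := by
    intro x hx
    obtain ⟨r, hr, hrR⟩ := h.mem_T.1 (hn' x hx)
    have h2 : j z0 * (g * x * g⁻¹) = (g * x * g⁻¹) * j z0 := by
      rcases hrR with e | e
      · rw [e, ← map_mul, ← map_mul, hr.1]
      · rw [e, ← mul_assoc, ← h.comm, mul_assoc, ← map_mul, ← hr.1, map_mul, mul_assoc]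
    calc g⁻¹ * j z0 * g * x = g⁻¹ * (j z0 * (g * x * g⁻¹)) * g := by group
      _ = g⁻¹ * ((g * x * g⁻¹) * j z0) * g := by rw [h2]
      _ = x * (g⁻¹ * j z0 * g) := by group
  have hne : g⁻¹ * j z0 * g ≠ 1 := by
    intro e
    apply h.jz_ne
    calc j z0 = g * (g⁻¹ * j z0 * g) * g⁻¹ := by group
      _ = 1 := by rw [e]; group
  rcases h.cent_T hcen with h1 | h1
  · exfalso
    rw [hc] at h1 hne
    have := h.R_uniq (R_j _) h1
    rw [this, map_one] at hne
    exact hne rfl
  · rw [hc] at h1 ⊢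
    rw [h.R_uniq (R_j _) h1]

/-- the dichotomy -/
theorem exists_sw [Finite G] (h : SS t j) : (∃ m : G →* ℤˣ, m t = -1) ∨ ∃ w, Sw t j w := by
  by_cases hw : ∃ g, (∀ x ∈ h.T, g⁻¹ * x * g ∈ h.T) ∧ g⁻¹ * t * g = t * j z0
  · right
    obtain ⟨g, hn, ht⟩ := hw
    have hn' := conj_onto h.T hn
    have hz := h.fix_z hn hn'
    refine ⟨g⁻¹, ?_, ?_⟩
    · rw [← ht]; group
    · calc g⁻¹ * j z0 = g⁻¹ * j z0 * g * g⁻¹ := by group
        _ = j z0 * g⁻¹ := by rw [hz]
  · left
    obtain ⟨l, hl⟩ := exists_sgn (P1.map j) t h.tt h.tnt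
    apply TR.exists_hom_of_fixed (H := h.T) l h.tt h.T h.T_pgroup (fun x hx => h.T_comm hx)
    have huniq : ∀ q : G ⧸ h.T, (TR.Bad (H := h.T) l t q ∧ ∀ x ∈ h.T, x • q = q) → q = ((1 : G) : G ⧸ h.T) := by
      rintro q ⟨⟨g, rfl, hgt, hlg⟩, hfix⟩
      have hn : ∀ x ∈ h.T, g⁻¹ * x * g ∈ h.T := by
        intro x hx
        have h1 := hfix x hx
        rw [MulAction.Quotient.smul_coe, smul_eq_mul, eq_comm, QuotientGroup.eq] at h1
        rwa [← mul_assoc] at h1
      have hn' := conj_onto h.T hn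
      -- `g⁻¹ t g` is central in `T`
      have hc : ∀ x ∈ h.T, (g⁻¹ * t * g) * x = x * (g⁻¹ * t * g) := by
        intro x hx
        have h2 := h.T_comm (hn' x hx)
        calc g⁻¹ * t * g * x = g⁻¹ * (t * (g * x * g⁻¹)) * g := by group
          _ = g⁻¹ * ((g * x * g⁻¹) * t) * g := by rw [h2]
          _ = x * (g⁻¹ * t * g) := by group
      have hnN : g⁻¹ * t * g ∉ P1.map j := by
        intro hN
        have := (hl ⟨g⁻¹ * t * g, hgt⟩).2 hN
        exact absurd (hlg.symm.trans this) (by decide)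
      have hnj : ∀ p ∈ P1, g⁻¹ * t * g ≠ j p := fun p hp e => hnN ⟨p, hp, e.symm⟩
      have ht : g⁻¹ * t * g = t := by
        rcases h.cent_T hc with (e | e) | (e | e)
        · exact absurd e (hnj _ P1.one_mem)
        · rw [e, map_one, mul_one]
        · exact absurd e (hnj _ z0_mem_P1)
        · exact absurd ⟨g, hn, e⟩ hw
      have hgc : g * t = t * g := by
        calc g * t = g * (g⁻¹ * t * g) := by rw [ht]
          _ = t * g := by group
      have hgT := h.mem_T_of hgc hn
      rw [QuotientGroup.eq, mul_one]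
      exact h.T.inv_mem hgT
    have hone : TR.Bad (H := h.T) l t ((1 : G) : G ⧸ h.T) ∧ ∀ x ∈ h.T, x • ((1 : G) : G ⧸ h.T) = ((1 : G) : G ⧸ h.T) := by
      have e : (1 : G)⁻¹ * t * 1 = t := by group
      refine ⟨⟨1, rfl, by rw [e]; exact h.t_mem_T, ?_⟩, ?_⟩
      · refine (TR.units_eq _).resolve_left fun h1 => ?_
        obtain ⟨p, -, hp⟩ := (hl _).1 h1
        exact h.ne p (hp.trans e)
      · intro x hx
        rw [MulAction.Quotient.smul_coe, smul_eq_mul, mul_one, eq_comm, QuotientGroup.eq, inv_one, one_mul]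
        exact hx
    have : Nat.card {q : G ⧸ h.T // TR.Bad (H := h.T) l t q ∧ ∀ x ∈ h.T, x • q = q} = 1 := by
      rw [Nat.card_eq_one_iff_unique]
      refine ⟨⟨fun a b => Subtype.ext ((huniq _ a.2).trans (huniq _ b.2).symm)⟩, ⟨⟨_, hone⟩⟩⟩
    rw [this]
    exact odd_one

end SS

end Cfsg.Agent.OddHalf.D5.Eight

end

-- merged: Cfsg.Agent.OddHalf.D5.EightBeta
section

/-!
# ODD D5, `n = 8`: the twist; `β = 1` is impossible (helper647)
-/

set_option autoImplicit false

namespace Cfsg.Agent.OddHalf.D5.Eight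

open Subgroup Equiv Cfsg.Agent.StdSpSix

variable {G : Type*} [Group G]

namespace Pre

variable {t y : G} {j : Perm (Fin 8) →* G} {be bs : Perm (Fin 8)}

theorem yt' (s : Pre t j y be bs) : y * t = t * j z0 * y := by
  rw [← s.yt, mul_assoc, mul_assoc, s.yy, mul_one]

theorem yz (s : Pre t j y be bs) (h : SS t j) : y * j z0 * y = j z0 := by
  have h1 : y * (t * j z0) * y = t := by
    rw [← s.yt]
    calc y * (y * t * y) * y = (y * y) * t * (y * y) := by group
      _ = t := by rw [s.yy]; group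
  have h2 : y * (t * j z0) * y = (y * t * y) * (y * j z0 * y) := by
    calc y * (t * j z0) * y = y * t * 1 * j z0 * y := by group
      _ = y * t * (y * y) * j z0 * y := by rw [s.yy]
      _ = (y * t * y) * (y * j z0 * y) := by group
  rw [h2, s.yt, mul_assoc] at h1
  have h3 : j z0 * (y * j z0 * y) = 1 := mul_eq_left.1 h1
  have h4 : y * j z0 * y = (j z0)⁻¹ := eq_inv_of_mul_eq_one_right h3
  rw [h4]
  exact inv_eq_of_mul_eq_one_left h.jz

theorem mul_conj (s : Pre t j y be bs) (a b : G) : y * (a * b) * y = (y * a * y) * (y * b * y) := by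
  calc y * (a * b) * y = y * a * 1 * b * y := by group
    _ = y * a * (y * y) * b * y := by rw [s.yy]
    _ = (y * a * y) * (y * b * y) := by group

theorem inv_conj (s : Pre t j y be bs) (a : G) : y * a⁻¹ * y = (y * a * y)⁻¹ := by
  have : y⁻¹ = y := inv_eq_of_mul_eq_one_left s.yy
  rw [mul_inv_rev, mul_inv_rev, this, mul_assoc]

/-- `y` acts on `j(C(z0))` -/
theorem act (s : Pre t j y be bs) (_h : SS t j) (hbe : be = 1 ∨ be = z0) (hbs : bs = 1 ∨ bs = z0)
    {p : Perm (Fin 8)} (hp : p * z0 = z0 * p) : ∃ c, (c = 1 ∨ c = z0) ∧ y * j p * y = j (p * c) := by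
  have cz : ∀ {c : Perm (Fin 8)}, (c = 1 ∨ c = z0) → ∀ {q : Perm (Fin 8)}, q * z0 = z0 * q → q * c = c * q := by
    rintro c (rfl | rfl) q hq
    · rw [mul_one, one_mul]
    · exact hq
  have czz : ∀ {c d : Perm (Fin 8)}, (c = 1 ∨ c = z0) → (d = 1 ∨ d = z0) → (c * d = 1 ∨ c * d = z0) := by
    rintro c d (rfl | rfl) (rfl | rfl)
    · exact Or.inl (one_mul 1)
    · exact Or.inr (one_mul _)
    · exact Or.inr (mul_one _)
    · exact Or.inl z0_sq
  let S : Subgroup (Perm (Fin 8)) :=
    { carrier := {p | p * z0 = z0 * p ∧ ∃ c, (c = 1 ∨ c = z0) ∧ y * j p * y = j (p * c)}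
      one_mem' := ⟨by simp, 1, Or.inl rfl, by rw [map_one, mul_one, mul_one, map_one, s.yy]⟩
      mul_mem' := by
        rintro a b ⟨ha, c, hc, hac⟩ ⟨hb, d, hd, hbd⟩
        refine ⟨by rw [mul_assoc, hb, ← mul_assoc, ha, mul_assoc], c * d, czz hc hd, ?_⟩
        rw [map_mul, s.mul_conj, hac, hbd, ← map_mul]
        congr 1
        calc a * c * (b * d) = a * (c * b) * d := by group
          _ = a * (b * c) * d := by rw [cz hc hb]
          _ = a * b * (c * d) := by group
      inv_mem' := by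
        rintro a ⟨ha, c, hc, hac⟩
        refine ⟨by rw [inv_mul_eq_iff_eq_mul, ← mul_assoc, ha, mul_inv_cancel_right], c, hc, ?_⟩
        rw [map_inv, s.inv_conj, hac, ← map_inv]
        congr 1
        have hci : c⁻¹ = c := by
          rcases hc with rfl | rfl
          · exact inv_one
          · exact inv_eq_of_mul_eq_one_left z0_sq
        rw [cz hc ha, mul_inv_rev, hci] }
  have hr : rho ∈ S := ⟨by decide, 1, Or.inl rfl, by rw [mul_one]; exact s.yr⟩
  have he : e6 ∈ S := ⟨by decide, be, hbe, s.ye⟩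
  have hs : s1 ∈ S := ⟨by decide, bs, hbs, s.ys⟩
  exact (gen_cz S hr he hs hp).2

/-- `be = bs = 1` : `y` centralises `j(C(z0))` -/
theorem act_one (s : Pre t j y 1 1) {p : Perm (Fin 8)} (hp : p * z0 = z0 * p) : y * j p * y = j p := by
  let S : Subgroup (Perm (Fin 8)) :=
    { carrier := {p | y * j p * y = j p}
      one_mem' := by
        change y * j 1 * y = j 1
        rw [map_one, mul_one, s.yy]
      mul_mem' := by
        intro a b (ha : y * j a * y = j a) (hb : y * j b * y = j b)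
        change y * j (a * b) * y = j (a * b)
        rw [map_mul, s.mul_conj, ha, hb]
      inv_mem' := by
        intro a (ha : y * j a * y = j a)
        change y * j a⁻¹ * y = j a⁻¹
        rw [map_inv, s.inv_conj, ha] }
  have hr : rho ∈ S := s.yr
  have he : e6 ∈ S := by
    have := s.ye
    rwa [mul_one] at this
  have hs : s1 ∈ S := by
    have := s.ys
    rwa [mul_one] at this
  exact gen_cz S hr he hs hp

end Pre

/-! ## the twist -/

open Classical in
/-- the other complement -/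
noncomputable def tw (t : G) (j : Perm (Fin 8) →* G) (h : SS t j) : Perm (Fin 8) →* G where
  toFun a := (if Perm.sign a = 1 then 1 else t) * j a
  map_one' := by simp
  map_mul' := by
    have hne : (-1 : ℤˣ) ≠ 1 := by decide
    intro a b
    rcases Int.units_eq_one_or (Perm.sign a) with ha | ha <;>
    rcases Int.units_eq_one_or (Perm.sign b) with hb | hb
    · simp [ha, hb]
    · simp only [map_mul, ha, hb, if_true, one_mul, if_neg hne]
      rw [← mul_assoc, h.comm a, mul_assoc]
    · simp only [map_mul, ha, hb, if_true, mul_one, if_neg hne, mul_assoc, one_mul]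
    · have h2 : (-1 : ℤˣ) * -1 = 1 := by decide
      simp only [map_mul, ha, hb, h2, if_true, if_neg hne, one_mul]
      calc j a * j b = (t * t) * j a * j b := by rw [h.tt, one_mul]
        _ = t * (t * j a) * j b := by group
        _ = t * (j a * t) * j b := by rw [h.comm a]
        _ = t * j a * (t * j b) := by group

theorem tw_even {t : G} {j : Perm (Fin 8) →* G} (h : SS t j) {a : Perm (Fin 8)} (ha : Perm.sign a = 1) :
    tw t j h a = j a := by
  change (if Perm.sign a = 1 then 1 else t) * j a = _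
  rw [if_pos ha, one_mul]

theorem tw_odd {t : G} {j : Perm (Fin 8) →* G} (h : SS t j) {a : Perm (Fin 8)} (ha : Perm.sign a ≠ 1) :
    tw t j h a = t * j a := by
  change (if Perm.sign a = 1 then 1 else t) * j a = _
  rw [if_neg ha]

theorem SS.tw {t : G} {j : Perm (Fin 8) →* G} (h : SS t j) : SS t (tw t j h) where
  tt := h.tt
  inj := by
    rw [injective_iff_map_eq_one]
    intro a ha
    by_cases hs : Perm.sign a = 1
    · rw [tw_even h hs] at ha
      exact h.inj (ha.trans (map_one j).symm)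
    · rw [tw_odd h hs] at ha
      exfalso
      exact h.t_ne 1 a ((map_one j).trans ha.symm)
  comm := by
    intro a
    by_cases hs : Perm.sign a = 1
    · rw [tw_even h hs]; exact h.comm a
    · rw [tw_odd h hs, mul_assoc t (j a) t, ← h.comm]
  cent := by
    intro g hg
    rcases h.cent g hg with ⟨a, rfl⟩ | ⟨a, rfl⟩
    · by_cases hs : Perm.sign a = 1
      · exact Or.inl ⟨a, (tw_even h hs).symm⟩
      · refine Or.inr ⟨a, ?_⟩
        rw [tw_odd h hs, ← mul_assoc, h.tt, one_mul]
    · by_cases hs : Perm.sign a = 1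
      · refine Or.inr ⟨a, ?_⟩
        rw [tw_even h hs]
      · exact Or.inl ⟨a, (tw_odd h hs).symm⟩
  ne := by
    intro a
    by_cases hs : Perm.sign a = 1
    · rw [tw_even h hs]; exact h.ne a
    · rw [tw_odd h hs]
      intro e
      have h1 : j a = 1 := mul_eq_left.1 e
      have h2 : a = 1 := h.inj (h1.trans (map_one j).symm)
      exact hs (by rw [h2, map_one])

/-- after a twist `be = 1` -/
theorem Pre.twist {t y : G} {j : Perm (Fin 8) →* G} {bs : Perm (Fin 8)} (s : Pre t j y z0 bs)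
    (hbs : bs = 1 ∨ bs = z0) (h : SS t j) : Pre t (tw t j h) y 1 bs := by
  have sz : Perm.sign z0 = 1 := by decide
  have sr : Perm.sign rho = 1 := by decide
  have se : Perm.sign e6 ≠ 1 := by decide
  have ss : Perm.sign s1 = 1 := by decide
  have ssz : Perm.sign (s1 * bs) = 1 := by
    rcases hbs with rfl | rfl
    · rw [mul_one]; exact ss
    · decide
  refine ⟨s.yy, ?_, ?_, ?_, ?_⟩
  · rw [tw_even h sz]; exact s.yt
  · rw [tw_even h sr]; exact s.yr
  · rw [mul_one, tw_odd h se, s.mul_conj, s.yt, s.ye, mul_assoc, ← map_mul]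
    have : z0 * (e6 * z0) = e6 := by decide
    rw [this]
  · rw [tw_even h ss, tw_even h ssz]; exact s.ys

/-- summary: `w` gives a pre-swap with `be = 1` after a change of complement -/
theorem exists_pre [Finite G] {t : G} {j : Perm (Fin 8) →* G} (h : SS t j) :
    (∃ m : G →* ℤˣ, m t = -1) ∨
      ∃ (j' : Perm (Fin 8) →* G) (y : G), SS t j' ∧ (Pre t j' y 1 1 ∨ Pre t j' y 1 z0) := by
  rcases h.exists_sw with hm | ⟨w, sw⟩
  · exact Or.inl hm
  · right
    obtain ⟨y, be, bs, hbe, hbs, s⟩ := sw.pre h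
    rcases hbe with rfl | rfl
    · refine ⟨j, y, h, ?_⟩
      rcases hbs with rfl | rfl
      · exact Or.inl s
      · exact Or.inr s
    · refine ⟨tw t j h, y, h.tw, ?_⟩
      have s' := s.twist hbs h
      rcases hbs with rfl | rfl
      · exact Or.inl s'
      · exact Or.inr s'

/-! ## `β = 1` : the action on `V` -/

namespace Pre

variable {t y : G} {j : Perm (Fin 8) →* G}

/-- conjugates of `s1` under `C(z0)` -/
theorem act_s1 (s : Pre t j y 1 z0) (h : SS t j) {c : Perm (Fin 8)} (hc : c * z0 = z0 * c) :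
    y * j (c * s1 * c⁻¹) * y = j (c * s1 * c⁻¹ * z0) := by
  obtain ⟨d, hd, hcd⟩ := s.act h (Or.inl rfl) (Or.inr rfl) hc
  have hsz : s1 * z0 = z0 * s1 := by decide
  have hdc : ∀ q : Perm (Fin 8), q * z0 = z0 * q → q * d = d * q := by
    rcases hd with rfl | rfl
    · intro q _; rw [mul_one, one_mul]
    · exact fun q hq => hq
  have hdd : d * d⁻¹ = 1 := mul_inv_cancel d
  rw [map_mul, map_mul, s.mul_conj, s.mul_conj, map_inv, s.inv_conj, hcd, s.ys, ← map_inv, ← map_mul,
    ← map_mul]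
  congr 1
  have hci : c⁻¹ * z0 = z0 * c⁻¹ := by rw [inv_mul_eq_iff_eq_mul, ← mul_assoc, hc, mul_inv_cancel_right]
  calc c * d * (s1 * z0) * (c * d)⁻¹ = c * (d * (s1 * z0)) * d⁻¹ * c⁻¹ := by group
    _ = c * ((s1 * z0) * d) * d⁻¹ * c⁻¹ := by
        rw [hdc (s1 * z0) (by rw [hsz, mul_assoc, hsz])]
    _ = c * s1 * (z0 * c⁻¹) := by group
    _ = c * s1 * c⁻¹ * z0 := by rw [← hci]; group

theorem act_vb (s : Pre t j y 1 z0) (h : SS t j) : y * j vb * y = j (vb * z0) := by
  have e : vb = sw * s1 * sw⁻¹ := by decide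
  rw [e]
  exact s.act_s1 h (by decide)

theorem act_vc (s : Pre t j y 1 z0) (h : SS t j) : y * j vc * y = j (vc * z0) := by
  have e : vc = (sw * e6) * s1 * (sw * e6)⁻¹ := by decide
  rw [e]
  exact s.act_s1 h (by decide)

theorem act_vc' (s : Pre t j y 1 z0) (h : SS t j) : y * j vc' * y = j (vc' * z0) := by
  have e : vc' = e6 * s1 * e6⁻¹ := by decide
  rw [e]
  exact s.act_s1 h (by decide)

theorem act_va (s : Pre t j y 1 z0) (h : SS t j) : y * j va * y = j va := by
  have e : va = vb * vc := by decide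
  rw [e, map_mul, s.mul_conj, s.act_vb h, s.act_vc h, ← map_mul, ← map_mul]
  congr 1
  decide

theorem act_va' (s : Pre t j y 1 z0) (h : SS t j) : y * j va' * y = j va' := by
  have e : va' = s1 * vc' := by decide
  rw [e, map_mul, s.mul_conj, s.ys, s.act_vc' h, ← map_mul, ← map_mul]
  congr 1
  decide

end Pre

end Cfsg.Agent.OddHalf.D5.Eight

end
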