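import Mathlib
import Cfsg.Agent.StdSpSix.TRCount

-- merged: Cfsg.Agent.OddHalf.D5.EightDefs
section

/-!
# ODD D5, `n = 8`: interface (helper647)

Text: `blueprints/ODD-D5-n8-helper647.md`.

`Spl t A ι` : `C_G(t) = ⟨t⟩ × ι(A)`, `A` a subgroup of `Perm (Fin 8)` (`A = alternatingGroup (Fin 8)` or `⊤`).
`Gen t φ K` : `C_G(t)` modulo `⟨t⟩` embeds through `φ` in `Perm (Fin 8)`, `K ≅ A₈` a normal subgroup of `C_G(t)` with
`t ∉ K`, `φ(K) = A₈` (covers `⟨t⟩ × A₈`, `⟨t⟩ × S₈` and the isoclinic group).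
-/

set_option autoImplicit false

namespace Cfsg.Agent.OddHalf.D5.Eight

open Subgroup Equiv

/-- The alternating group as a subgroup. -/
abbrev A8 : Subgroup (Perm (Fin 8)) := alternatingGroup (Fin 8)

variable {G : Type*} [Group G]

/-- `C_G(t) = ⟨t⟩ × ι(A)`. -/
structure Spl (t : G) (A : Subgroup (Perm (Fin 8))) (ι : A →* G) : Prop where
  tt : t * t = 1
  t1 : t ≠ 1
  inj : Function.Injective ι
  comm : ∀ a, t * ι a = ι a * t
  cent : ∀ g, g * t = t * g → (∃ a, g = ι a) ∨ ∃ a, g = t * ι a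
  ne : ∀ a, ι a ≠ t

/-- The general situation. -/
structure Gen (t : G) (φ : centralizer ({t} : Set G) →* Perm (Fin 8)) (K : Subgroup G) : Prop where
  tt : t * t = 1
  t1 : t ≠ 1
  ker : ∀ g, φ g = 1 ↔ (g : G) = 1 ∨ (g : G) = t
  le : K ≤ centralizer ({t} : Set G)
  notMem : t ∉ K
  surj : ∀ a ∈ A8, ∃ g : centralizer ({t} : Set G), (g : G) ∈ K ∧ φ g = a
  even : ∀ g : centralizer ({t} : Set G), (g : G) ∈ K → φ g ∈ A8
  mem : ∀ g : centralizer ({t} : Set G), φ g ∈ A8 → (g : G) ∈ K ∨ t * (g : G) ∈ K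

namespace Spl

variable {t : G} {A : Subgroup (Perm (Fin 8))} {ι : A →* G}

theorem comm' (h : Spl t A ι) (a : A) : ι a * t = t * ι a := (h.comm a).symm

theorem t_inv (h : Spl t A ι) : t⁻¹ = t := inv_eq_of_mul_eq_one_left h.tt

theorem tne (h : Spl t A ι) (a b : A) : ι a ≠ t * ι b := by
  intro e
  apply h.ne (a * b⁻¹)
  rw [map_mul, map_inv, e, mul_assoc, mul_inv_cancel, mul_one]

/-- an element of `C(t)` is `ι a` or `t ι a`, not both -/
theorem cases (h : Spl t A ι) {g : G} (hg : g * t = t * g) :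
    ∃ a : A, g = ι a ∨ g = t * ι a := by
  rcases h.cent g hg with ⟨a, ha⟩ | ⟨a, ha⟩
  · exact ⟨a, Or.inl ha⟩
  · exact ⟨a, Or.inr ha⟩

theorem iota_eq_one (h : Spl t A ι) {a : A} (e : ι a = 1) : a = 1 :=
  h.inj (e.trans (map_one ι).symm)

/-- transport by conjugation -/
theorem conj (h : Spl t A ι) (x : G) :
    Spl (x * t * x⁻¹) A ((MulAut.conj x).toMonoidHom.comp ι) where
  tt := by
    calc x * t * x⁻¹ * (x * t * x⁻¹) = x * (t * t) * x⁻¹ := by group
      _ = 1 := by rw [h.tt]; group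
  t1 := by
    intro e
    apply h.t1
    rw [mul_inv_eq_one] at e
    exact mul_eq_left.1 e
  inj := (MulAut.conj x).injective.comp h.inj
  comm := by
    intro a
    show x * t * x⁻¹ * (x * ι a * x⁻¹) = x * ι a * x⁻¹ * (x * t * x⁻¹)
    calc x * t * x⁻¹ * (x * ι a * x⁻¹) = x * (t * ι a) * x⁻¹ := by group
      _ = x * (ι a * t) * x⁻¹ := by rw [h.comm a]
      _ = x * ι a * x⁻¹ * (x * t * x⁻¹) := by group
  cent := by
    intro g hg
    have h1 : (x⁻¹ * g * x) * t = t * (x⁻¹ * g * x) := by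
      calc (x⁻¹ * g * x) * t = x⁻¹ * (g * (x * t * x⁻¹)) * x := by group
        _ = x⁻¹ * (x * t * x⁻¹ * g) * x := by rw [hg]
        _ = t * (x⁻¹ * g * x) := by group
    rcases h.cent _ h1 with ⟨a, ha⟩ | ⟨a, ha⟩
    · left
      refine ⟨a, ?_⟩
      show g = x * ι a * x⁻¹
      rw [← ha]; group
    · right
      refine ⟨a, ?_⟩
      show g = x * t * x⁻¹ * (x * ι a * x⁻¹)
      calc g = x * (x⁻¹ * g * x) * x⁻¹ := by group
        _ = x * t * x⁻¹ * (x * ι a * x⁻¹) := by rw [ha]; group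
  ne := by
    intro a e
    apply h.ne a
    have e' : x * ι a * x⁻¹ = x * t * x⁻¹ := e
    exact mul_left_cancel (mul_right_cancel e')

/-- The other complement: `a ↦ t^{(sign a)} ι a`. -/
def twist (t : G) (h : t * t = 1) (ι : (⊤ : Subgroup (Perm (Fin 8))) →* G)
    (hc : ∀ a, t * ι a = ι a * t) : (⊤ : Subgroup (Perm (Fin 8))) →* G where
  toFun a := (if Perm.sign (a : Perm (Fin 8)) = 1 then 1 else t) * ι a
  map_one' := by simp
  map_mul' := by
    intro a b
    rcases Int.units_eq_one_or (Perm.sign (a : Perm (Fin 8))) with ha | ha <;>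
    rcases Int.units_eq_one_or (Perm.sign (b : Perm (Fin 8))) with hb | hb
    · simp [ha, hb]
    · have : (-1 : ℤˣ) ≠ 1 := by decide
      simp only [Subgroup.coe_mul, map_mul, ha, hb, if_true, one_mul, if_neg this]
      rw [← mul_assoc, hc a, mul_assoc]
    · have : (-1 : ℤˣ) ≠ 1 := by decide
      simp only [Subgroup.coe_mul, map_mul, ha, hb, if_true, mul_one, if_neg this, mul_assoc, one_mul]
    · have : (-1 : ℤˣ) ≠ 1 := by decide
      have h2 : (-1 : ℤˣ) * -1 = 1 := by decide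
      simp only [Subgroup.coe_mul, map_mul, ha, hb, h2, if_true, if_neg this, one_mul]
      calc ι a * ι b = (t * t) * ι a * ι b := by rw [h, one_mul]
        _ = t * (t * ι a) * ι b := by group
        _ = t * (ι a * t) * ι b := by rw [hc a]
        _ = t * ι a * (t * ι b) := by group

theorem twist_apply (t : G) (h : t * t = 1) (ι : (⊤ : Subgroup (Perm (Fin 8))) →* G)
    (hc : ∀ a, t * ι a = ι a * t) (a) :
    twist t h ι hc a = (if Perm.sign (a : Perm (Fin 8)) = 1 then 1 else t) * ι a := rfl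

/-- the twisted complement is again a complement -/
theorem spl_twist {ι : (⊤ : Subgroup (Perm (Fin 8))) →* G} (h : Spl t ⊤ ι) :
    Spl t ⊤ (twist t h.tt ι h.comm) where
  tt := h.tt
  t1 := h.t1
  inj := by
    rw [injective_iff_map_eq_one]
    intro a ha
    rw [twist_apply] at ha
    split_ifs at ha with hs
    · rw [one_mul] at ha
      exact h.iota_eq_one ha
    · exfalso
      apply h.ne a⁻¹
      rw [map_inv, ← mul_eq_one_iff_eq_inv.1 ha]
  comm := by
    intro a
    rw [twist_apply]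
    split_ifs
    · rw [one_mul, h.comm]
    · rw [mul_assoc, ← h.comm]
  cent := by
    intro g hg
    rcases h.cent g hg with ⟨a, ha⟩ | ⟨a, ha⟩
    · by_cases hs : Perm.sign (a : Perm (Fin 8)) = 1
      · left; refine ⟨a, ?_⟩; rw [twist_apply, if_pos hs, one_mul, ha]
      · right; refine ⟨a, ?_⟩; rw [twist_apply, if_neg hs, ← mul_assoc, h.tt, one_mul, ha]
    · by_cases hs : Perm.sign (a : Perm (Fin 8)) = 1
      · right; refine ⟨a, ?_⟩; rw [twist_apply, if_pos hs, one_mul, ha]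
      · left; refine ⟨a, ?_⟩; rw [twist_apply, if_neg hs, ha]
  ne := by
    intro a e
    rw [twist_apply] at e
    split_ifs at e with hs
    · rw [one_mul] at e; exact h.ne a e
    · have h1 : ι a = 1 := mul_eq_left.1 e
      have h2 := h.iota_eq_one h1
      rw [h2] at hs
      exact hs (by simp)

end Spl

/-! ### Contracts (conclusions of the pieces)

* `401` : `theorem clean [Finite G] (h : Spl t A8 ι) : ∃ m : G →* ℤˣ, m t = -1`
* `16, 211, 432` : `theorem sym [Finite G] (h : Spl t ⊤ ι) : ∃ m : G →* ℤˣ, m t = -1`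
* `211` : `theorem isoclinic [Finite G] (h : Gen t φ K) (hodd : ∃ g, φ g ∉ A8) (h2 : ∀ g, φ g ∉ A8 → (g : G) * g ∉ K) :
    ∃ m : G →* Multiplicative (ZMod 4), m t ≠ 1` -/

end Cfsg.Agent.OddHalf.D5.Eight

end

-- merged: Cfsg.Agent.OddHalf.D5.EightDefs2
section

/-!
# ODD D5, `n = 8`: the swap interface (helper647)

`z0 = (01)(23)(45)(67)`; `Swp t A ι y` : the involution `y` maps `t` to `t z0` and centralises `ι(C_A(z0))`.
-/

set_option autoImplicit false

namespace Cfsg.Agent.OddHalf.D5.Eight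

open Subgroup Equiv

/-- `(01)(23)(45)(67)` -/
def z0 : Perm (Fin 8) := ⟨![1, 0, 3, 2, 5, 4, 7, 6], ![1, 0, 3, 2, 5, 4, 7, 6], by decide, by decide⟩

theorem z0_mem : z0 ∈ A8 := by
  rw [Equiv.Perm.mem_alternatingGroup]
  decide

theorem z0_sq : z0 * z0 = 1 := by
  decide

variable {G : Type*} [Group G]

/-- The swap. -/
structure Swp (t : G) (A : Subgroup (Perm (Fin 8))) (ι : A →* G) (y : G) : Prop where
  yy : y * y = 1
  yt : ∀ h : A, (h : Perm (Fin 8)) = z0 → y * t * y = t * ι h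
  yc : ∀ h : A, (h : Perm (Fin 8)) * z0 = z0 * h → y * ι h = ι h * y

end Cfsg.Agent.OddHalf.D5.Eight

end
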