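import Mathlib
import Cfsg.Agent.OddHalf.D5.EightDefs2
import Cfsg.Agent.Doubling.Growth

-- merged: Cfsg.Agent.OddHalf.D5.EightGrowCore
section

/-!
# ODD D5, `n = 8`: the growth, 1 (helper432)

`Grow t f y`: the common abstraction of `Swp t A ι y` for `A = A₈` and `A = ⊤`. `Y r` is the conjugate of `y` which
belongs to the involution `r` of the class of `x14 = (01)(23)(45)(67)`. Text: `blueprints/ODD-D5-n8-helper647.md` (B8) and
`blueprints/ODD-D5-n8-helper432.md` section 2.

Result of this file: `line1`, `line3` : `Y r * Y q = Y (r * q)` for collinear `r, q`.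
-/

set_option autoImplicit false

namespace Cfsg.Agent.OddHalf.D5.Eight.Gr

open Subgroup Equiv

/-- permutation with octal code `c` -/
def pc (c : ℕ) (i : Fin 8) : Fin 8 := ⟨(c / 8 ^ (i : ℕ)) % 8, Nat.mod_lt _ (by decide)⟩

/-- permutation from two codes -/
def pm (c d : ℕ) (h1 : ∀ i, pc d (pc c i) = i) (h2 : ∀ i, pc c (pc d i) = i) : Perm (Fin 8) := ⟨pc c, pc d, h1, h2⟩

/-- even permutation -/
def ev (p : Perm (Fin 8)) (h : Perm.sign p = 1) : A8 := ⟨p, Perm.mem_alternatingGroup.2 h⟩

theorem all_of {L : List A8} {P : A8 → Prop} [DecidablePred P] (h : (L.all fun d => decide (P d)) = true) :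
    ∀ d ∈ L, P d := fun d hd => of_decide_eq_true (List.all_eq_true.1 h d hd)

theorem any_of {L : List A8} {P : A8 → Prop} [DecidablePred P] (h : (L.any fun d => decide (P d)) = true) :
    ∃ d ∈ L, P d := by
  obtain ⟨d, hd, h1⟩ := List.any_eq_true.1 h
  exact ⟨d, hd, of_decide_eq_true h1⟩

def x14 : A8 := ev (pm 0o67452301 0o67452301 (by decide) (by decide)) (by decide)
def va : A8 := ev (pm 0o76542301 0o76542301 (by decide) (by decide)) (by decide)
def vb : A8 := ev (pm 0o76541032 0o76541032 (by decide) (by decide)) (by decide)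
def wa : A8 := ev (pm 0o67453210 0o67453210 (by decide) (by decide)) (by decide)
def wb : A8 := ev (pm 0o54763210 0o54763210 (by decide) (by decide)) (by decide)
def x13 : A8 := ev (pm 0o54761032 0o54761032 (by decide) (by decide)) (by decide)
def x24 : A8 := ev (pm 0o45671032 0o45671032 (by decide) (by decide)) (by decide)
def x23 : A8 := ev (pm 0o67450123 0o67450123 (by decide) (by decide)) (by decide)
def x12 : A8 := ev (pm 0o32107654 0o32107654 (by decide) (by decide)) (by decide)
def x34 : A8 := ev (pm 0o32017645 0o32017645 (by decide) (by decide)) (by decide)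
/-! the 16 elements of `V` -/
def V0 : A8 := ev (pm 0o76543210 0o76543210 (by decide) (by decide)) (by decide)
def V1 : A8 := ev (pm 0o67453210 0o67453210 (by decide) (by decide)) (by decide)
def V2 : A8 := ev (pm 0o54763210 0o54763210 (by decide) (by decide)) (by decide)
def V3 : A8 := ev (pm 0o45673210 0o45673210 (by decide) (by decide)) (by decide)
def V4 : A8 := ev (pm 0o76542301 0o76542301 (by decide) (by decide)) (by decide)
def V5 : A8 := ev (pm 0o67452301 0o67452301 (by decide) (by decide)) (by decide)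
def V6 : A8 := ev (pm 0o54762301 0o54762301 (by decide) (by decide)) (by decide)
def V7 : A8 := ev (pm 0o45672301 0o45672301 (by decide) (by decide)) (by decide)
def V8 : A8 := ev (pm 0o76541032 0o76541032 (by decide) (by decide)) (by decide)
def V9 : A8 := ev (pm 0o67451032 0o67451032 (by decide) (by decide)) (by decide)
def V10 : A8 := ev (pm 0o54761032 0o54761032 (by decide) (by decide)) (by decide)
def V11 : A8 := ev (pm 0o45671032 0o45671032 (by decide) (by decide)) (by decide)
def V12 : A8 := ev (pm 0o76540123 0o76540123 (by decide) (by decide)) (by decide)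
def V13 : A8 := ev (pm 0o67450123 0o67450123 (by decide) (by decide)) (by decide)
def V14 : A8 := ev (pm 0o54760123 0o54760123 (by decide) (by decide)) (by decide)
def V15 : A8 := ev (pm 0o45670123 0o45670123 (by decide) (by decide)) (by decide)

/-- the 16 elements of `V` -/
def Vl : List A8 := [V0, V1, V2, V3, V4, V5, V6, V7, V8, V9, V10, V11, V12, V13, V14, V15]

/-! conjugating elements -/
def kap : A8 := ev (pm 0o57641320 0o65742130 (by decide) (by decide)) (by decide)
def sig : A8 := ev (pm 0o75643120 0o75643120 (by decide) (by decide)) (by decide)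
def c1312 : A8 := ev (pm 0o75316420 0o73625140 (by decide) (by decide)) (by decide)
def c1412 : A8 := ev (pm 0o76325410 0o76325410 (by decide) (by decide)) (by decide)
def c1413_12 : A8 := ev (pm 0o56127430 0o36721450 (by decide) (by decide)) (by decide)
def c14_1312 : A8 := ev (pm 0o32547610 0o32547610 (by decide) (by decide)) (by decide)
def c2423 : A8 := ev (pm 0o13206574 0o13206574 (by decide) (by decide)) (by decide)
def d1434 : A8 := ev (pm 0o76234510 0o76234510 (by decide) (by decide)) (by decide)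
def d1323 : A8 := ev (pm 0o31207564 0o31207564 (by decide) (by decide)) (by decide)
def d2434 : A8 := ev (pm 0o74136520 0o73264150 (by decide) (by decide)) (by decide)
def o1324 : A8 := ev (pm 0o31207564 0o31207564 (by decide) (by decide)) (by decide)
def o1234 : A8 := ev (pm 0o73625140 0o75316420 (by decide) (by decide)) (by decide)
def s1224 : A8 := ev (pm 0o31207564 0o31207564 (by decide) (by decide)) (by decide)
def s1334 : A8 := ev (pm 0o73625140 0o75316420 (by decide) (by decide)) (by decide)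
def s2334 : A8 := ev (pm 0o41735260 0o51374260 (by decide) (by decide)) (by decide)
def g1 : A8 := ev (pm 0o76451230 0o76451230 (by decide) (by decide)) (by decide)
def g2 : A8 := ev (pm 0o75643201 0o75643201 (by decide) (by decide)) (by decide)

variable {G : Type*} [Group G]

/-- The common abstraction. -/
structure Grow (t : G) (f : A8 →* G) (y : G) : Prop where
  tt : t * t = 1
  t1 : t ≠ 1
  inj : Function.Injective f
  comm : ∀ a, t * f a = f a * t
  ne : ∀ a, f a ≠ t
  cent : ∀ g, g * t = t * g → ∃ p : Perm (Fin 8),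
    (∀ b : A8, g * f b = f b * g → p * (b : Perm (Fin 8)) = b * p) ∧
      ∀ hp : p ∈ A8, g = f ⟨p, hp⟩ ∨ g = t * f ⟨p, hp⟩
  yy : y * y = 1
  yt : y * t * y = t * f x14
  yc : ∀ a : A8, a * x14 = x14 * a → y * f a = f a * y

/-- The class of `x14`. -/
def Root (r : A8) : Prop := ∃ a : A8, a * x14 * a⁻¹ = r

open Classical in
/-- The doubled element belonging to the root `r`. -/
noncomputable def Y (f : A8 →* G) (y : G) (r : A8) : G :=
  if h : ∃ a : A8, a * x14 * a⁻¹ = r then f h.choose * y * (f h.choose)⁻¹ else 1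

theorem Root.conj {r : A8} (hr : Root r) (b : A8) : Root (b * r * b⁻¹) := by
  obtain ⟨a, rfl⟩ := hr
  exact ⟨b * a, by group⟩

theorem x14_sq : x14 * x14 = 1 := by decide

theorem Root.sq {r : A8} (hr : Root r) : r * r = 1 := by
  obtain ⟨a, rfl⟩ := hr
  calc a * x14 * a⁻¹ * (a * x14 * a⁻¹) = a * (x14 * x14) * a⁻¹ := by group
    _ = 1 := by rw [x14_sq]; group

theorem Root.ne_one {r : A8} (hr : Root r) : r ≠ 1 := by
  obtain ⟨a, rfl⟩ := hr
  intro e
  have : x14 = 1 := by
    calc x14 = a⁻¹ * (a * x14 * a⁻¹) * a := by group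
      _ = 1 := by rw [e]; group
  revert this
  decide

namespace Grow

variable {t : G} {f : A8 →* G} {y : G}

theorem t_inv (h : Grow t f y) : t⁻¹ = t := inv_eq_of_mul_eq_one_left h.tt

theorem comm_inv (h : Grow t f y) (a : A8) : t * (f a)⁻¹ = (f a)⁻¹ * t := by
  rw [← map_inv, h.comm]

theorem Y_eq (h : Grow t f y) (a : A8) : Y f y (a * x14 * a⁻¹) = f a * y * (f a)⁻¹ := by
  classical
  have hex : ∃ b : A8, b * x14 * b⁻¹ = a * x14 * a⁻¹ := ⟨a, rfl⟩
  unfold Y
  rw [dif_pos hex]
  generalize hb : hex.choose = b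
  have hb' : b * x14 * b⁻¹ = a * x14 * a⁻¹ := by rw [← hb]; exact hex.choose_spec
  have hc : (a⁻¹ * b) * x14 = x14 * (a⁻¹ * b) := by
    calc (a⁻¹ * b) * x14 = a⁻¹ * (b * x14 * b⁻¹) * b := by group
      _ = x14 * (a⁻¹ * b) := by rw [hb']; group
  have h1 := h.yc _ hc
  have h2 : f b = f a * f (a⁻¹ * b) := by rw [← map_mul]; congr 1; group
  rw [h2]
  calc f a * f (a⁻¹ * b) * y * (f a * f (a⁻¹ * b))⁻¹ = f a * (f (a⁻¹ * b) * y) * (f (a⁻¹ * b))⁻¹ * (f a)⁻¹ := by group
    _ = f a * y * (f a)⁻¹ := by rw [← h1]; group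

theorem Y14 (h : Grow t f y) : Y f y x14 = y := by
  have := h.Y_eq 1
  rwa [one_mul, inv_one, mul_one, map_one, one_mul, inv_one, mul_one] at this

theorem Y_conj (h : Grow t f y) {r : A8} (hr : Root r) (b : A8) : Y f y (b * r * b⁻¹) = f b * Y f y r * (f b)⁻¹ := by
  obtain ⟨a, rfl⟩ := hr
  have e : b * (a * x14 * a⁻¹) * b⁻¹ = (b * a) * x14 * (b * a)⁻¹ := by group
  rw [e, h.Y_eq, h.Y_eq, map_mul]
  group

theorem Y_sq (h : Grow t f y) {r : A8} (hr : Root r) : Y f y r * Y f y r = 1 := by
  obtain ⟨a, rfl⟩ := hr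
  rw [h.Y_eq]
  calc f a * y * (f a)⁻¹ * (f a * y * (f a)⁻¹) = f a * (y * y) * (f a)⁻¹ := by group
    _ = 1 := by rw [h.yy]; group

theorem Y_inv (h : Grow t f y) {r : A8} (hr : Root r) : (Y f y r)⁻¹ = Y f y r :=
  inv_eq_of_mul_eq_one_left (h.Y_sq hr)

/-- `Y t Y = t r` -/
theorem Y_t (h : Grow t f y) {r : A8} (hr : Root r) : Y f y r * t * Y f y r = t * f r := by
  obtain ⟨a, rfl⟩ := hr
  rw [h.Y_eq]
  calc f a * y * (f a)⁻¹ * t * (f a * y * (f a)⁻¹) = f a * y * ((f a)⁻¹ * t) * f a * y * (f a)⁻¹ := by group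
    _ = f a * y * (t * (f a)⁻¹) * f a * y * (f a)⁻¹ := by rw [h.comm_inv]
    _ = f a * (y * t * y) * (f a)⁻¹ := by group
    _ = (f a * t) * f x14 * (f a)⁻¹ := by rw [h.yt]; group
    _ = t * (f a * f x14 * (f a)⁻¹) := by rw [← h.comm]; group
    _ = t * f (a * x14 * a⁻¹) := by rw [map_mul, map_mul, map_inv]

theorem Y_comm (h : Grow t f y) {r : A8} (hr : Root r) {b : A8} (hb : b * r = r * b) :
    Y f y r * f b = f b * Y f y r := by
  have h1 := h.Y_conj hr b
  have h2 : b * r * b⁻¹ = r := by rw [hb]; group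
  rw [h2] at h1
  calc Y f y r * f b = f b * Y f y r * (f b)⁻¹ * f b := by rw [← h1]
    _ = f b * Y f y r := by group

/-- `t Y = Y t r` -/
theorem t_Y (h : Grow t f y) {r : A8} (hr : Root r) : t * Y f y r = Y f y r * t * f r := by
  calc t * Y f y r = (Y f y r * Y f y r) * t * Y f y r := by rw [h.Y_sq hr, one_mul]
    _ = Y f y r * (Y f y r * t * Y f y r) := by group
    _ = Y f y r * t * f r := by rw [h.Y_t hr, ← mul_assoc]

/-- `Y r` does not commute with `t` -/
theorem Y_ne (h : Grow t f y) {r : A8} (hr : Root r) : Y f y r * t ≠ t * Y f y r := by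
  intro e
  have h1 := h.t_Y hr
  rw [← e] at h1
  have h2 : f r = 1 := by
    have := mul_left_cancel (a := Y f y r * t) (b := 1) (c := f r) (by rw [mul_one]; exact h1)
    exact this.symm
  exact hr.ne_one (h.inj (h2.trans (map_one f).symm))

/-- Elements of `C(t)` commuting with some `f b`. -/
theorem cent_of (h : Grow t f y) {g : G} (hg : g * t = t * g) (L : List A8) (hL : ∀ b ∈ L, g * f b = f b * g)
    (P : A8 → Prop)
    (hP : ∀ p : Perm (Fin 8), (∀ b ∈ L, p * (b : Perm (Fin 8)) = b * p) → ∃ d : A8, P d ∧ (d : Perm (Fin 8)) = p) :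
    ∃ d : A8, P d ∧ (g = f d ∨ g = t * f d) := by
  obtain ⟨p, h1, h2⟩ := h.cent g hg
  obtain ⟨d, hd, rfl⟩ := hP p (fun b hb => h1 b (hL b hb))
  exact ⟨d, hd, h2 d.2⟩

end Grow

/-! ### The line -/

/-- centre type collinear pairs -/
def L1 (r q : A8) : Prop := ∃ c : A8, c * x14 * c⁻¹ = r ∧ c * x13 * c⁻¹ = q

theorem L1_base : L1 x14 x13 := ⟨1, by group, by group⟩
theorem L1_symm {r q : A8} (h : L1 r q) : L1 q r := by
  obtain ⟨c, rfl, rfl⟩ := h
  refine ⟨c * sig, ?_, ?_⟩
  · have : sig * x14 * sig⁻¹ = x13 := by decide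
    rw [← this]; group
  · have : sig * x13 * sig⁻¹ = x14 := by decide
    rw [← this]; group
theorem L1_cyc {r q : A8} (h : L1 r q) : L1 q (r * q) := by
  obtain ⟨c, rfl, rfl⟩ := h
  refine ⟨c * kap, ?_, ?_⟩
  · have : kap * x14 * kap⁻¹ = x13 := by decide
    rw [← this]; group
  · have : kap * x13 * kap⁻¹ = x14 * x13 := by decide
    calc c * kap * x13 * (c * kap)⁻¹ = c * (kap * x13 * kap⁻¹) * c⁻¹ := by group
      _ = _ := by rw [this]; group
theorem L1_1312 : L1 x13 x12 := ⟨c1312, by decide, by decide⟩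
theorem L1_1413_12 : L1 (x14 * x13) x12 := ⟨c1413_12, by decide, by decide⟩
theorem L1_14_1312 : L1 x14 (x13 * x12) := ⟨c14_1312, by decide, by decide⟩

theorem L1.left {r q : A8} (h : L1 r q) : Root r := by
  obtain ⟨c, rfl, -⟩ := h
  exact ⟨c, rfl⟩
theorem L1.right {r q : A8} (h : L1 r q) : Root q := (L1_symm h).left
theorem L1.prod {r q : A8} (h : L1 r q) : Root (r * q) := (L1_cyc h).right
theorem L1.comm {r q : A8} (h : L1 r q) : r * q = q * r := by
  obtain ⟨c, rfl, rfl⟩ := h
  have : x14 * x13 = x13 * x14 := by decide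
  calc c * x14 * c⁻¹ * (c * x13 * c⁻¹) = c * (x14 * x13) * c⁻¹ := by group
    _ = _ := by rw [this]; group
theorem L1.conj {r q : A8} (h : L1 r q) (b : A8) : L1 (b * r * b⁻¹) (b * q * b⁻¹) := by
  obtain ⟨c, rfl, rfl⟩ := h
  exact ⟨b * c, by group, by group⟩

/-- rigidity: a permutation commuting with the `w i` is determined by its values at the base points -/
theorem rigid {p q : Perm (Fin 8)} (w : Fin 8 → Perm (Fin 8)) (b : Fin 8 → Fin 8) (hw : ∀ i, w i (b i) = i)
    (hp : ∀ i, p * w i = w i * p) (hq : ∀ i, w i (q (b i)) = q i) (h : ∀ i, p (b i) = q (b i)) : p = q := by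
  ext i
  have h1 : p i = q i := by
    calc p i = p (w i (b i)) := by rw [hw]
      _ = w i (p (b i)) := by rw [← Perm.mul_apply, hp, Perm.mul_apply]
      _ = w i (q (b i)) := by rw [h]
      _ = q i := hq i
  rw [h1]

/-- elements of `V` moving the base point to `i` -/
def wV : Fin 8 → Perm (Fin 8) := ![(V0 : Perm (Fin 8)), (va : Perm (Fin 8)), (vb : Perm (Fin 8)), (V12 : Perm (Fin 8)),
  (V0 : Perm (Fin 8)), (wa : Perm (Fin 8)), (wb : Perm (Fin 8)), (V3 : Perm (Fin 8))]

theorem cent_V (p : Perm (Fin 8)) (ha : p * (va : Perm (Fin 8)) = va * p) (hb : p * (vb : Perm (Fin 8)) = vb * p)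
    (hc : p * (wa : Perm (Fin 8)) = wa * p) (hd : p * (wb : Perm (Fin 8)) = wb * p) :
    ∃ d ∈ Vl, (d : Perm (Fin 8)) = p := by
  have h0 : (wa : Perm (Fin 8)) (p 0) = p 0 := by
    rw [← Perm.mul_apply, ← hc, Perm.mul_apply]
    congr 1
  have h4 : (va : Perm (Fin 8)) (p 4) = p 4 := by
    rw [← Perm.mul_apply, ← ha, Perm.mul_apply]
    congr 1
  have key : ∀ i j : Fin 8, (wa : Perm (Fin 8)) i = i → (va : Perm (Fin 8)) j = j →
      (Vl.any fun d => decide ((d : Perm (Fin 8)) 0 = i ∧ (d : Perm (Fin 8)) 4 = j)) = true := by decide +kernel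
  obtain ⟨d, hdV, hd0, hd4⟩ := any_of (key _ _ h0 h4)
  refine ⟨d, hdV, ?_⟩
  symm
  apply rigid wV ![0, 0, 0, 0, 4, 4, 4, 4] (by decide)
  · intro i
    have e12 : (V12 : Perm (Fin 8)) = vb * va := by decide +kernel
    have e3 : (V3 : Perm (Fin 8)) = wb * wa := by decide +kernel
    have e0 : (V0 : Perm (Fin 8)) = 1 := by decide +kernel
    have hba : p * (V12 : Perm (Fin 8)) = V12 * p := by
      rw [e12, ← mul_assoc, hb, mul_assoc, ha, mul_assoc]
    have hdc : p * (V3 : Perm (Fin 8)) = V3 * p := by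
      rw [e3, ← mul_assoc, hd, mul_assoc, hc, mul_assoc]
    have h1 : p * (V0 : Perm (Fin 8)) = V0 * p := by rw [e0, mul_one, one_mul]
    fin_cases i
    · exact h1
    · exact ha
    · exact hb
    · exact hba
    · exact h1
    · exact hc
    · exact hd
    · exact hdc
  · exact all_of (P := fun d => ∀ i, wV i ((d : Perm (Fin 8)) ((![0, 0, 0, 0, 4, 4, 4, 4] : Fin 8 → Fin 8) i)) =
      (d : Perm (Fin 8)) i) (L := Vl) (by decide +kernel) d hdV
  · intro i
    fin_cases i
    · exact hd0.symm
    · exact hd0.symm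
    · exact hd0.symm
    · exact hd0.symm
    · exact hd4.symm
    · exact hd4.symm
    · exact hd4.symm
    · exact hd4.symm

/-- the four elements `⟨x14, x13⟩` -/
def Ll : List A8 := [1, x14, x13, x14 * x13]

theorem cent_L (p : Perm (Fin 8)) (hL : ∀ b ∈ [va, vb, wa, wb, x12], p * (b : Perm (Fin 8)) = b * p) :
    ∃ d : A8, d ∈ Ll ∧ (d : Perm (Fin 8)) = p := by
  obtain ⟨d, hd, rfl⟩ := cent_V p (hL _ (by simp)) (hL _ (by simp)) (hL _ (by simp)) (hL _ (by simp))
  refine ⟨d, ?_, rfl⟩
  have h1 := hL x12 (by simp)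
  exact all_of (P := fun d => (d : Perm (Fin 8)) * (x12 : Perm (Fin 8)) = x12 * d → d ∈ Ll) (L := Vl)
    (by decide +kernel) d hd h1

/-! abstract identities -/

theorem comm_of_sq {a b : G} (ha : a * a = 1) (hb : b * b = 1) (hab : (a * b) * (a * b) = 1) : a * b = b * a := by
  calc a * b = a * ((a * b) * (a * b)) * b := by rw [hab, mul_one]
    _ = (a * a) * (b * a) * (b * b) := by group
    _ = b * a := by rw [ha, hb, one_mul, mul_one]

namespace Grow

variable {t : G} {f : A8 →* G} {y : G}

/-- `m = Y r * Y q * Y (r q)` commutes with `t`. -/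
theorem line_t (h : Grow t f y) {r q : A8} (hr : Root r) (hq : Root q) (hs : Root (r * q)) (hc : r * q = q * r) :
    Y f y r * Y f y q * Y f y (r * q) * t = t * (Y f y r * Y f y q * Y f y (r * q)) := by
  have e1 := h.t_Y hr
  have e2 := h.t_Y hq
  have e3 := h.t_Y hs
  have c1 : f r * Y f y q = Y f y q * f r := (h.Y_comm hq hc).symm
  have c2 : f r * Y f y (r * q) = Y f y (r * q) * f r := (h.Y_comm hs (by rw [mul_assoc r q r, ← hc])).symm
  have c3 : f q * Y f y (r * q) = Y f y (r * q) * f q := (h.Y_comm hs (by rw [← mul_assoc, ← hc])).symm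
  have hone : f (r * q) * f q * f r = 1 := by
    rw [← map_mul, ← map_mul]
    have : r * q * q * r = 1 := by rw [mul_assoc r q q, hq.sq, mul_one, hr.sq]
    rw [this, map_one]
  symm
  calc t * (Y f y r * Y f y q * Y f y (r * q)) = (t * Y f y r) * Y f y q * Y f y (r * q) := by group
    _ = Y f y r * t * (f r * Y f y q) * Y f y (r * q) := by rw [e1]; group
    _ = Y f y r * (t * Y f y q) * (f r * Y f y (r * q)) := by rw [c1]; group
    _ = Y f y r * Y f y q * t * (f q * Y f y (r * q)) * f r := by rw [e2, c2]; group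
    _ = Y f y r * Y f y q * (t * Y f y (r * q)) * f q * f r := by rw [c3]; group
    _ = Y f y r * Y f y q * Y f y (r * q) * t * (f (r * q) * f q * f r) := by rw [e3]; group
    _ = Y f y r * Y f y q * Y f y (r * q) * t := by rw [hone, mul_one]

theorem line_base (h : Grow t f y) :
    ∃ d : A8, d ∈ Ll ∧ (Y f y x14 * Y f y x13 * Y f y (x14 * x13) = f d ∨
      Y f y x14 * Y f y x13 * Y f y (x14 * x13) = t * f d) := by
  have hr := L1_base.left
  have hq := L1_base.right
  have hs := L1_base.prod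
  refine h.cent_of (h.line_t hr hq hs L1_base.comm) [va, vb, wa, wb, x12] ?_ (fun d => d ∈ Ll) (fun p hp => cent_L p hp)
  intro b hb
  have h1 : b * x14 = x14 * b ∧ b * x13 = x13 * b := by
    exact all_of (P := fun b => b * x14 = x14 * b ∧ b * x13 = x13 * b) (L := [va, vb, wa, wb, x12])
      (by decide +kernel) b hb
  have h2 : b * (x14 * x13) = x14 * x13 * b := by rw [← mul_assoc, h1.1, mul_assoc, h1.2, mul_assoc]
  have e1 := h.Y_comm hr h1.1
  have e2 := h.Y_comm hq h1.2
  have e3 := h.Y_comm hs h2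
  calc Y f y x14 * Y f y x13 * Y f y (x14 * x13) * f b = Y f y x14 * Y f y x13 * (Y f y (x14 * x13) * f b) := by group
    _ = Y f y x14 * (Y f y x13 * f b) * Y f y (x14 * x13) := by rw [e3]; group
    _ = (Y f y x14 * f b) * Y f y x13 * Y f y (x14 * x13) := by rw [e2]; group
    _ = f b * (Y f y x14 * Y f y x13 * Y f y (x14 * x13)) := by rw [e1]; group

/-- conjugation by `kap` rotates the line -/
theorem kap14 : kap * x14 * kap⁻¹ = x13 := by decide
theorem kap13 : kap * x13 * kap⁻¹ = x14 * x13 := by decide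
theorem kap1413 : kap * (x14 * x13) * kap⁻¹ = x14 := by decide

/-- case A -/
theorem lineA (h : Grow t f y) {d : A8} (hd : d ∈ Ll) (hm : Y f y x14 * Y f y x13 * Y f y (x14 * x13) = f d) :
    Y f y x14 * Y f y x13 = Y f y (x14 * x13) := by
  have hr := L1_base.left
  have hq := L1_base.right
  have hs := L1_base.prod
  have k1 := h.Y_conj hr kap
  have k2 := h.Y_conj hq kap
  have k3 := h.Y_conj hs kap
  rw [kap14] at k1
  rw [kap13] at k2
  rw [kap1413] at k3
  have h1 : Y f y x13 * Y f y (x14 * x13) * Y f y x14 = f (kap * d * kap⁻¹) := by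
    rw [map_mul, map_mul, map_inv, ← hm]
    nth_rewrite 1 [k1]
    nth_rewrite 1 [k2]
    nth_rewrite 2 [k3]
    group
  have hd14 : d * x14 = x14 * d := all_of (P := fun d => d * x14 = x14 * d) (L := Ll) (by decide +kernel) d hd
  have h2 : Y f y x13 * Y f y (x14 * x13) * Y f y x14 = f d := by
    calc Y f y x13 * Y f y (x14 * x13) * Y f y x14
        = (Y f y x14)⁻¹ * (Y f y x14 * Y f y x13 * Y f y (x14 * x13)) * Y f y x14 := by group
      _ = (Y f y x14)⁻¹ * (f d * Y f y x14) := by rw [hm, mul_assoc]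
      _ = f d := by rw [← h.Y_comm hr hd14, inv_mul_cancel_left]
  have h3 : kap * d * kap⁻¹ = d := h.inj (h1.symm.trans h2)
  have h4 : d = 1 := all_of (P := fun d => kap * d * kap⁻¹ = d → d = 1) (L := Ll) (by decide +kernel) d hd h3
  rw [h4, map_one] at hm
  have h5 := mul_eq_one_iff_eq_inv.1 hm
  rw [h5, h.Y_inv hs]

/-- case B, the base line -/
theorem lineB (h : Grow t f y) {d : A8} (hd : d ∈ Ll) (hm : Y f y x14 * Y f y x13 * Y f y (x14 * x13) = t * f d) :
    (t * Y f y x14) * (t * Y f y x13) * (t * Y f y (x14 * x13)) = 1 := by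
  have hr := L1_base.left
  have hq := L1_base.right
  have hs := L1_base.prod
  -- `Z1 Z2 Z3 = f (x13 d)`
  have e1 : (t * Y f y x14) * (t * Y f y x13) * (t * Y f y (x14 * x13)) = f (x13 * d) := by
    have c1 : f x14 * Y f y x13 = Y f y x13 * f x14 := (h.Y_comm hq (by decide)).symm
    have c2 : f x14 * Y f y (x14 * x13) = Y f y (x14 * x13) * f x14 := (h.Y_comm hs (by decide)).symm
    have c3 : f x13 * Y f y (x14 * x13) = Y f y (x14 * x13) * f x13 := (h.Y_comm hs (by decide)).symm
    have e1 := h.t_Y hr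
    have e2 := h.t_Y hq
    have e3 := h.t_Y hs
    have hone : f (x14 * x13) * f x14 = f x13 := by
      rw [← map_mul]; congr 1; decide
    calc (t * Y f y x14) * (t * Y f y x13) * (t * Y f y (x14 * x13))
        = Y f y x14 * t * (f x14 * t) * Y f y x13 * (t * Y f y (x14 * x13)) := by rw [e1]; group
      _ = Y f y x14 * (t * t) * (f x14 * Y f y x13) * (t * Y f y (x14 * x13)) := by rw [← h.comm]; group
      _ = Y f y x14 * Y f y x13 * (f x14 * t) * Y f y (x14 * x13) := by rw [h.tt, c1]; group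
      _ = Y f y x14 * Y f y x13 * t * (f x14 * Y f y (x14 * x13)) := by rw [← h.comm]; group
      _ = Y f y x14 * Y f y x13 * (t * Y f y (x14 * x13)) * f x14 := by rw [c2]; group
      _ = (Y f y x14 * Y f y x13 * Y f y (x14 * x13)) * t * (f (x14 * x13) * f x14) := by rw [e3]; group
      _ = t * (f d * t) * f x13 := by rw [hm, hone]; group
      _ = (t * t) * (f d * f x13) := by rw [← h.comm]; group
      _ = f (x13 * d) := by
        rw [h.tt, one_mul, ← map_mul]
        congr 1
        exact all_of (P := fun d => d * x13 = x13 * d) (L := Ll) (by decide +kernel) d hd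
  have k1 := h.Y_conj hr kap
  have k2 := h.Y_conj hq kap
  have k3 := h.Y_conj hs kap
  rw [kap14] at k1
  rw [kap13] at k2
  rw [kap1413] at k3
  have ht : t = f kap * t * (f kap)⁻¹ := by rw [← h.comm, mul_inv_cancel_right]
  have h1 : (t * Y f y x13) * (t * Y f y (x14 * x13)) * (t * Y f y x14) = f (kap * (x13 * d) * kap⁻¹) := by
    rw [map_mul f (kap * (x13 * d)), map_mul f kap, map_inv, ← e1]
    nth_rewrite 1 [k1]
    nth_rewrite 1 [k2]
    nth_rewrite 2 [k3]
    nth_rewrite 1 [ht]
    nth_rewrite 2 [ht]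
    nth_rewrite 3 [ht]
    group
  have hd14 : (x13 * d) * x14 = x14 * (x13 * d) :=
    all_of (P := fun d => (x13 * d) * x14 = x14 * (x13 * d)) (L := Ll) (by decide +kernel) d hd
  have h2 : (t * Y f y x13) * (t * Y f y (x14 * x13)) * (t * Y f y x14) = f (x13 * d) := by
    calc (t * Y f y x13) * (t * Y f y (x14 * x13)) * (t * Y f y x14)
        = (t * Y f y x14)⁻¹ * ((t * Y f y x14) * (t * Y f y x13) * (t * Y f y (x14 * x13))) * (t * Y f y x14) := by group
      _ = (t * Y f y x14)⁻¹ * ((f (x13 * d) * t) * Y f y x14) := by rw [e1]; group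
      _ = (t * Y f y x14)⁻¹ * (t * (f (x13 * d) * Y f y x14)) := by rw [← h.comm]; group
      _ = (t * Y f y x14)⁻¹ * ((t * Y f y x14) * f (x13 * d)) := by rw [← h.Y_comm hr hd14]; group
      _ = f (x13 * d) := by rw [inv_mul_cancel_left]
  have h3 : kap * (x13 * d) * kap⁻¹ = x13 * d := h.inj (h1.symm.trans h2)
  have h4 : x13 * d = 1 :=
    all_of (P := fun d => kap * (x13 * d) * kap⁻¹ = x13 * d → x13 * d = 1) (L := Ll) (by decide +kernel) d hd h3
  rw [e1, h4, map_one]

/-- transport to all centre type pairs -/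
theorem lineB_all (h : Grow t f y)
    (hB : (t * Y f y x14) * (t * Y f y x13) * (t * Y f y (x14 * x13)) = 1) {r q : A8} (hrq : L1 r q) :
    (t * Y f y r) * (t * Y f y q) * (t * Y f y (r * q)) = 1 := by
  obtain ⟨c, rfl, rfl⟩ := hrq
  have hr := L1_base.left
  have hq := L1_base.right
  have hs := L1_base.prod
  have e : c * x14 * c⁻¹ * (c * x13 * c⁻¹) = c * (x14 * x13) * c⁻¹ := by group
  rw [e, h.Y_conj hr, h.Y_conj hq, h.Y_conj hs]
  have ht : t = f c * t * (f c)⁻¹ := by rw [← h.comm, mul_inv_cancel_right]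
  calc (t * (f c * Y f y x14 * (f c)⁻¹)) * (t * (f c * Y f y x13 * (f c)⁻¹)) * (t * (f c * Y f y (x14 * x13) * (f c)⁻¹))
      = ((f c * t * (f c)⁻¹) * (f c * Y f y x14 * (f c)⁻¹)) * ((f c * t * (f c)⁻¹) * (f c * Y f y x13 * (f c)⁻¹)) *
        ((f c * t * (f c)⁻¹) * (f c * Y f y (x14 * x13) * (f c)⁻¹)) := by rw [← ht]
    _ = f c * ((t * Y f y x14) * (t * Y f y x13) * (t * Y f y (x14 * x13))) * (f c)⁻¹ := by group
    _ = 1 := by rw [hB]; group

theorem Z_sq (h : Grow t f y) {r : A8} (hr : Root r) : (t * Y f y r) * (t * Y f y r) = f r := by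
  calc (t * Y f y r) * (t * Y f y r) = t * (Y f y r * t * Y f y r) := by group
    _ = f r := by rw [h.Y_t hr, ← mul_assoc, h.tt, one_mul]

/-- case B is impossible -/
theorem lineB_false (h : Grow t f y)
    (hB : (t * Y f y x14) * (t * Y f y x13) * (t * Y f y (x14 * x13)) = 1) : False := by
  have a1 := h.lineB_all hB L1_base
  have a2 := h.lineB_all hB L1_1312
  have a3 := h.lineB_all hB L1_1413_12
  have a4 := h.lineB_all hB L1_14_1312
  have b1 := h.lineB_all hB (L1_symm L1_base)
  have b2 := h.lineB_all hB (L1_symm L1_1312)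
  have s1 := h.Z_sq L1_base.left
  have s2 := h.Z_sq L1_1312.right
  rw [L1_base.comm.symm] at b1
  rw [L1_1312.comm.symm] at b2
  rw [mul_assoc x14 x13 x12] at a3
  generalize t * Y f y x14 = A at *
  generalize t * Y f y x13 = B at *
  generalize t * Y f y x12 = C at *
  generalize t * Y f y (x14 * x13) = D at *
  generalize t * Y f y (x13 * x12) = E at *
  generalize t * Y f y (x14 * (x13 * x12)) = F at *
  -- `A B = B A`, `B C = C B`
  have hAB : A * B = B * A := mul_right_cancel (a1.trans b1.symm)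
  have hBC : B * C = C * B := mul_right_cancel (a2.trans b2.symm)
  have hD : D = (A * B)⁻¹ := (inv_eq_of_mul_eq_one_right a1).symm
  have hE : E = (B * C)⁻¹ := (inv_eq_of_mul_eq_one_right a2).symm
  have h5 : D * C = A * E := mul_right_cancel (a3.trans a4.symm)
  rw [hD, hE] at h5
  have h6 : C * C = A * A := by
    calc C * C = (A * B) * ((A * B)⁻¹ * C) * C := by group
      _ = (A * B) * (A * (B * C)⁻¹) * C := by rw [h5]
      _ = (B * A) * (A * (C * B)⁻¹) * C := by rw [hAB, hBC]
      _ = B * (A * A) * B⁻¹ * (C⁻¹ * C) := by group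
      _ = (B * (A * A)) * B⁻¹ := by group
      _ = A * A := by
        have : B * (A * A) = (A * A) * B := by rw [← mul_assoc, ← hAB, mul_assoc, ← hAB, mul_assoc]
        rw [this, mul_inv_cancel_right]
  rw [s1, s2] at h6
  have : x12 = x14 := h.inj h6
  revert this
  decide

/-- **centre type lines** -/
theorem line1_base (h : Grow t f y) : Y f y x14 * Y f y x13 = Y f y (x14 * x13) := by
  obtain ⟨d, hd, hm | hm⟩ := h.line_base
  · exact h.lineA hd hm
  · exact (h.lineB_false (h.lineB hd hm)).elim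

theorem line1 (h : Grow t f y) {r q : A8} (hrq : L1 r q) : Y f y r * Y f y q = Y f y (r * q) := by
  obtain ⟨c, rfl, rfl⟩ := hrq
  have hr := L1_base.left
  have hq := L1_base.right
  have hs := L1_base.prod
  have e : c * x14 * c⁻¹ * (c * x13 * c⁻¹) = c * (x14 * x13) * c⁻¹ := by group
  rw [e, h.Y_conj hr, h.Y_conj hq, h.Y_conj hs, ← h.line1_base]
  group

end Grow

end Cfsg.Agent.OddHalf.D5.Eight.Gr

end

-- merged: Cfsg.Agent.OddHalf.D5.EightGrowPairs
section

/-!
# ODD D5, `n = 8`: the growth, 2 (helper432)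

Collinear, orthogonal and special pairs of roots.
-/

set_option autoImplicit false

namespace Cfsg.Agent.OddHalf.D5.Eight.Gr

open Subgroup Equiv

variable {G : Type*} [Group G]

/-! ### The flip -/

/-- the transposition `(45)` -/
def g45 : Perm (Fin 8) := pm 0o76453210 0o76453210 (by decide) (by decide)

/-- conjugation by `(45)` on the alternating group -/
def phi : A8 →* A8 := (MulAut.conjNormal g45 : MulAut A8).toMonoidHom

theorem phi_coe (a : A8) : (phi a : Perm (Fin 8)) = g45 * a * g45⁻¹ := MulAut.conjNormal_apply g45 a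

theorem phi_inj : Function.Injective phi := (MulAut.conjNormal g45 : MulAut A8).injective

theorem phi14 : phi x14 = x14 := Subtype.ext ((phi_coe _).trans (by decide +kernel))
theorem phi13 : phi x13 = x24 := Subtype.ext ((phi_coe _).trans (by decide +kernel))
theorem phi24 : phi x24 = x13 := Subtype.ext ((phi_coe _).trans (by decide +kernel))
theorem phi23 : phi x23 = x23 := Subtype.ext ((phi_coe _).trans (by decide +kernel))
theorem phi12 : phi x12 = x34 := Subtype.ext ((phi_coe _).trans (by decide +kernel))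
theorem phi34 : phi x34 = x12 := Subtype.ext ((phi_coe _).trans (by decide +kernel))

theorem Root.phi {r : A8} (hr : Root r) : Root (phi r) := by
  obtain ⟨a, rfl⟩ := hr
  exact ⟨Gr.phi a, by rw [map_mul, map_mul, map_inv, phi14]⟩

namespace Grow

variable {t : G} {f : A8 →* G} {y : G}

theorem flip (h : Grow t f y) : Grow t (f.comp phi) y where
  tt := h.tt
  t1 := h.t1
  inj := h.inj.comp phi_inj
  comm := fun a => h.comm _
  ne := fun a => h.ne _
  cent := by
    intro g hg
    obtain ⟨p, h1, h2⟩ := h.cent g hg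
    refine ⟨g45⁻¹ * p * g45, ?_, ?_⟩
    · intro b hb
      have h3 := h1 (phi b) hb
      rw [phi_coe] at h3
      calc g45⁻¹ * p * g45 * (b : Perm (Fin 8)) = g45⁻¹ * (p * (g45 * b * g45⁻¹)) * g45 := by group
        _ = g45⁻¹ * ((g45 * b * g45⁻¹) * p) * g45 := by rw [h3]
        _ = b * (g45⁻¹ * p * g45) := by group
    · intro hp
      have hpe : (phi ⟨g45⁻¹ * p * g45, hp⟩ : Perm (Fin 8)) = p := by
        rw [phi_coe]
        show g45 * (g45⁻¹ * p * g45) * g45⁻¹ = p
        group
      have hpA : p ∈ A8 := by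
        rw [← hpe]
        exact (phi ⟨g45⁻¹ * p * g45, hp⟩).2
      have he : phi ⟨g45⁻¹ * p * g45, hp⟩ = ⟨p, hpA⟩ := Subtype.ext hpe
      rw [MonoidHom.comp_apply, he]
      exact h2 hpA
  yy := h.yy
  yt := by rw [MonoidHom.comp_apply, phi14]; exact h.yt
  yc := by
    intro a ha
    apply h.yc
    rw [← phi14, ← map_mul, ha, map_mul]

theorem Y_flip (h : Grow t f y) {r : A8} (hr : Root r) : Y (f.comp phi) y r = Y f y (phi r) := by
  obtain ⟨a, rfl⟩ := hr
  rw [h.flip.Y_eq, map_mul, map_mul, map_inv, phi14, h.Y_eq]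
  rfl

end Grow

/-- axis type collinear pairs -/
def L3 (r q : A8) : Prop := ∃ c : A8, c * x14 * c⁻¹ = r ∧ c * x24 * c⁻¹ = q

theorem L3_base : L3 x14 x24 := ⟨1, by group, by group⟩

theorem L3.left {r q : A8} (h : L3 r q) : Root r := by
  obtain ⟨c, rfl, -⟩ := h
  exact ⟨c, rfl⟩

theorem root24 : Root x24 := by
  have := L1_base.right.phi
  rwa [phi13] at this

theorem L3.right {r q : A8} (h : L3 r q) : Root q := by
  obtain ⟨c, -, rfl⟩ := h
  exact root24.conj c

theorem L1.flip {r q : A8} (h : L1 r q) : L3 (phi r) (phi q) := by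
  obtain ⟨c, rfl, rfl⟩ := h
  exact ⟨phi c, by rw [map_mul, map_mul, map_inv, phi14], by rw [map_mul, map_mul, map_inv, phi13]⟩

theorem L3.prod {r q : A8} (h : L3 r q) : Root (r * q) := by
  obtain ⟨c, rfl, rfl⟩ := h
  have h1 := L1_base.prod.phi
  rw [map_mul, phi14, phi13] at h1
  have h2 := h1.conj c
  have e : c * x14 * c⁻¹ * (c * x24 * c⁻¹) = c * (x14 * x24) * c⁻¹ := by group
  rwa [e]

theorem L3.comm {r q : A8} (h : L3 r q) : r * q = q * r := by
  obtain ⟨c, rfl, rfl⟩ := h
  have : x14 * x24 = x24 * x14 := by decide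
  calc c * x14 * c⁻¹ * (c * x24 * c⁻¹) = c * (x14 * x24) * c⁻¹ := by group
    _ = _ := by rw [this]; group

namespace Grow

variable {t : G} {f : A8 →* G} {y : G}

/-- **axis type lines** -/
theorem line3 (h : Grow t f y) {r q : A8} (hrq : L3 r q) : Y f y r * Y f y q = Y f y (r * q) := by
  obtain ⟨c, rfl, rfl⟩ := hrq
  have hr := L3_base.left
  have hq := L3_base.right
  have hs := L3_base.prod
  have e : c * x14 * c⁻¹ * (c * x24 * c⁻¹) = c * (x14 * x24) * c⁻¹ := by group
  have h1 := h.flip.line1_base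
  rw [h.Y_flip L1_base.left, h.Y_flip L1_base.right, h.Y_flip L1_base.prod, map_mul, phi14, phi13] at h1
  rw [e, h.Y_conj hr, h.Y_conj hq, h.Y_conj hs, ← h1]
  group

theorem comm_of_line (h : Grow t f y) {r q : A8} (hr : Root r) (hq : Root q) (hs : Root (r * q))
    (hl : Y f y r * Y f y q = Y f y (r * q)) : Y f y r * Y f y q = Y f y q * Y f y r := by
  apply comm_of_sq (h.Y_sq hr) (h.Y_sq hq)
  rw [hl]
  exact h.Y_sq hs

theorem comm1 (h : Grow t f y) {r q : A8} (hrq : L1 r q) : Y f y r * Y f y q = Y f y q * Y f y r :=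
  h.comm_of_line hrq.left hrq.right hrq.prod (h.line1 hrq)

theorem comm3 (h : Grow t f y) {r q : A8} (hrq : L3 r q) : Y f y r * Y f y q = Y f y q * Y f y r :=
  h.comm_of_line hrq.left hrq.right hrq.prod (h.line3 hrq)

end Grow

/-! ### Orthogonal pairs -/

def csp : A8 := ev (pm 0o57643210 0o65743210 (by decide) (by decide)) (by decide)
/-- `(01)(23)(46)(57)` -/
def xsp : A8 := va * wb

theorem xsp_mul : xsp * x24 = x23 := by decide
theorem L1_sp : L1 xsp x24 := ⟨csp, by decide, by decide⟩
theorem root23 : Root x23 := by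
  rw [← xsp_mul]
  exact L1_sp.prod
theorem g1_14 : g1 * x14 * g1⁻¹ = x23 := by decide
theorem g1_23 : g1 * x23 * g1⁻¹ = x14 := by decide
theorem g2_14 : g2 * x14 * g2⁻¹ = xsp := by decide
theorem g2_sp : g2 * xsp * g2⁻¹ = x14 := by decide

theorem cent_V' (p : Perm (Fin 8)) (hL : ∀ b ∈ [va, vb, wa, wb], p * (b : Perm (Fin 8)) = b * p) :
    ∃ d : A8, d ∈ Vl ∧ (d : Perm (Fin 8)) = p :=
  cent_V p (hL _ (by simp)) (hL _ (by simp)) (hL _ (by simp)) (hL _ (by simp))

namespace Grow

variable {t : G} {f : A8 →* G} {y : G}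

/-- `(Y r Y s)²` commutes with `t` for commuting `r, s`. -/
theorem sq_t (h : Grow t f y) {r s : A8} (hr : Root r) (hs : Root s) (hc : r * s = s * r) :
    Y f y r * Y f y s * Y f y r * Y f y s * t = t * (Y f y r * Y f y s * Y f y r * Y f y s) := by
  have e1 := h.t_Y hr
  have e2 := h.t_Y hs
  have c1 : f r * Y f y s = Y f y s * f r := (h.Y_comm hs hc).symm
  have c2 : f r * Y f y r = Y f y r * f r := (h.Y_comm hr rfl).symm
  have c3 : f s * Y f y r = Y f y r * f s := (h.Y_comm hr hc.symm).symm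
  have c4 : f s * Y f y s = Y f y s * f s := (h.Y_comm hs rfl).symm
  have hone : f s * f r * f s * f r = 1 := by
    rw [← map_mul, ← map_mul, ← map_mul]
    have : s * r * s * r = 1 := by
      calc s * r * s * r = s * (r * s) * r := by group
        _ = (s * s) * (r * r) := by rw [hc]; group
        _ = 1 := by rw [hs.sq, hr.sq, one_mul]
    rw [this, map_one]
  symm
  calc t * (Y f y r * Y f y s * Y f y r * Y f y s)
      = (t * Y f y r) * Y f y s * Y f y r * Y f y s := by group
    _ = Y f y r * t * (f r * Y f y s) * Y f y r * Y f y s := by rw [e1]; group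
    _ = Y f y r * (t * Y f y s) * (f r * Y f y r) * Y f y s := by rw [c1]; group
    _ = Y f y r * Y f y s * t * (f s * Y f y r) * (f r * Y f y s) := by rw [e2, c2]; group
    _ = Y f y r * Y f y s * (t * Y f y r) * (f s * Y f y s) * f r := by rw [c3, c1]; group
    _ = Y f y r * Y f y s * Y f y r * t * (f r * Y f y s) * f s * f r := by rw [e1, c4]; group
    _ = Y f y r * Y f y s * Y f y r * (t * Y f y s) * f r * f s * f r := by rw [c1]; group
    _ = Y f y r * Y f y s * Y f y r * Y f y s * t * (f s * f r * f s * f r) := by rw [e2]; group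
    _ = Y f y r * Y f y s * Y f y r * Y f y s * t := by rw [hone, mul_one]

theorem commute4 (h : Grow t f y) {r s b : A8} (hr : Root r) (hs : Root s) (h1 : b * r = r * b) (h2 : b * s = s * b) :
    Y f y r * Y f y s * Y f y r * Y f y s * f b = f b * (Y f y r * Y f y s * Y f y r * Y f y s) := by
  have e1 := h.Y_comm hr h1
  have e2 := h.Y_comm hs h2
  calc Y f y r * Y f y s * Y f y r * Y f y s * f b = Y f y r * Y f y s * Y f y r * (Y f y s * f b) := by group
    _ = Y f y r * Y f y s * (Y f y r * f b) * Y f y s := by rw [e2]; group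
    _ = Y f y r * (Y f y s * f b) * Y f y r * Y f y s := by rw [e1]; group
    _ = (Y f y r * f b) * Y f y s * Y f y r * Y f y s := by rw [e2]; group
    _ = f b * (Y f y r * Y f y s * Y f y r * Y f y s) := by rw [e1]; group

/-- the base orthogonal pair -/
theorem orth_base (h : Grow t f y) : Y f y x14 * Y f y x23 = Y f y x23 * Y f y x14 := by
  have hr : Root x14 := L1_base.left
  have hs := root23
  have hp := L1_sp.left
  have e0 : x14 * x23 = x23 * x14 := by decide
  apply comm_of_sq (h.Y_sq hr) (h.Y_sq hs)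
  have s1 := h.Y_sq hr
  have s2 := h.Y_sq hs
  have s3 := h.Y_sq hp
  obtain ⟨d, hd, hm⟩ := h.cent_of (h.sq_t hr hs e0) [va, vb, wa, wb] (by
    intro b hb
    have h1 := all_of (P := fun b => b * x14 = x14 * b ∧ b * x23 = x23 * b) (L := [va, vb, wa, wb])
      (by decide +kernel) b hb
    exact h.commute4 hr hs h1.1 h1.2) (fun d => d ∈ Vl) (fun p hp => cent_V' p hp)
  have hdd : d * d = 1 := all_of (P := fun d => d * d = 1) (L := Vl) (by decide +kernel) d hd
  have hfd : f d * f d = 1 := by rw [← map_mul, hdd, map_one]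
  have hd14 : d * x14 = x14 * d := all_of (P := fun d => d * x14 = x14 * d) (L := Vl) (by decide +kernel) d hd
  have hinv : Y f y x23 * Y f y x14 * Y f y x23 * Y f y x14 = (Y f y x14 * Y f y x23 * Y f y x14 * Y f y x23)⁻¹ := by
    rw [mul_inv_rev, mul_inv_rev, mul_inv_rev, h.Y_inv hr, h.Y_inv hs]
    group
  have hinv' : Y f y x14 * (Y f y x14 * Y f y x23 * Y f y x14 * Y f y x23) * Y f y x14 =
      (Y f y x14 * Y f y x23 * Y f y x14 * Y f y x23)⁻¹ := by
    rw [← hinv]
    calc Y f y x14 * (Y f y x14 * Y f y x23 * Y f y x14 * Y f y x23) * Y f y x14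
        = (Y f y x14 * Y f y x14) * (Y f y x23 * Y f y x14 * Y f y x23 * Y f y x14) := by group
      _ = _ := by rw [s1, one_mul]
  rcases hm with hm | hm
  · -- `e = f d`
    have hfinv : (f d)⁻¹ = f d := inv_eq_of_mul_eq_one_left hfd
    have h1 : g1 * d * g1⁻¹ = d := by
      apply h.inj
      have k1 := h.Y_conj hr g1
      have k2 := h.Y_conj hs g1
      rw [g1_14] at k1
      rw [g1_23] at k2
      calc f (g1 * d * g1⁻¹) = f g1 * (Y f y x14 * Y f y x23 * Y f y x14 * Y f y x23) * (f g1)⁻¹ := by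
            rw [map_mul, map_mul, map_inv, hm]
        _ = (f g1 * Y f y x14 * (f g1)⁻¹) * (f g1 * Y f y x23 * (f g1)⁻¹) * (f g1 * Y f y x14 * (f g1)⁻¹) *
            (f g1 * Y f y x23 * (f g1)⁻¹) := by group
        _ = Y f y x23 * Y f y x14 * Y f y x23 * Y f y x14 := by rw [← k1, ← k2]
        _ = f d := by rw [hinv, hm, hfinv]
    have hl := h.line1 L1_sp
    rw [xsp_mul] at hl
    have hc1 := h.comm1 L1_sp
    have hc3 := h.comm3 L3_base
    have s24 := h.Y_sq root24
    have he : Y f y x14 * Y f y x23 * Y f y x14 * Y f y x23 = Y f y x14 * Y f y xsp * Y f y x14 * Y f y xsp := by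
      rw [← hl]
      calc Y f y x14 * (Y f y xsp * Y f y x24) * Y f y x14 * (Y f y xsp * Y f y x24)
          = Y f y x14 * Y f y xsp * (Y f y x24 * Y f y x14) * (Y f y xsp * Y f y x24) := by group
        _ = Y f y x14 * Y f y xsp * (Y f y x14 * Y f y x24) * (Y f y x24 * Y f y xsp) := by rw [← hc3, hc1]
        _ = Y f y x14 * Y f y xsp * Y f y x14 * (Y f y x24 * Y f y x24) * Y f y xsp := by group
        _ = Y f y x14 * Y f y xsp * Y f y x14 * Y f y xsp := by rw [s24, mul_one]
    have h2 : g2 * d * g2⁻¹ = d := by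
      apply h.inj
      have k1 := h.Y_conj hr g2
      have k2 := h.Y_conj hp g2
      rw [g2_14] at k1
      rw [g2_sp] at k2
      calc f (g2 * d * g2⁻¹) = f g2 * (Y f y x14 * Y f y xsp * Y f y x14 * Y f y xsp) * (f g2)⁻¹ := by
            rw [map_mul, map_mul, map_inv, ← he, hm]
        _ = (f g2 * Y f y x14 * (f g2)⁻¹) * (f g2 * Y f y xsp * (f g2)⁻¹) * (f g2 * Y f y x14 * (f g2)⁻¹) *
            (f g2 * Y f y xsp * (f g2)⁻¹) := by group
        _ = Y f y xsp * Y f y x14 * Y f y xsp * Y f y x14 := by rw [← k1, ← k2]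
        _ = (Y f y x14 * Y f y xsp * Y f y x14 * Y f y xsp)⁻¹ := by
            rw [mul_inv_rev, mul_inv_rev, mul_inv_rev, h.Y_inv hr, h.Y_inv hp]
            group
        _ = f d := by rw [← he, hm, hfinv]
    have h3 : d = 1 := all_of (P := fun d => g1 * d * g1⁻¹ = d → g2 * d * g2⁻¹ = d → d = 1) (L := Vl)
      (by decide +kernel) d hd h1 h2
    rw [h3, map_one] at hm
    rw [← mul_assoc]
    exact hm
  · -- `e = t f d`
    exfalso
    rw [hm] at hinv'
    have h1 : Y f y x14 * (t * f d) * Y f y x14 = t * f x14 * f d := by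
      calc Y f y x14 * (t * f d) * Y f y x14 = Y f y x14 * t * (f d * Y f y x14) := by group
        _ = (Y f y x14 * t * Y f y x14) * f d := by rw [← h.Y_comm hr hd14]; group
        _ = t * f x14 * f d := by rw [h.Y_t hr]
    have h2 : (t * f d)⁻¹ = t * f d := by
      apply inv_eq_of_mul_eq_one_left
      calc t * f d * (t * f d) = t * (f d * t) * f d := by group
        _ = (t * t) * (f d * f d) := by rw [← h.comm]; group
        _ = 1 := by rw [h.tt, hfd, one_mul]
    rw [h1, h2] at hinv'
    have h3 : f x14 = 1 := by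
      have := mul_right_cancel hinv'
      exact mul_eq_left.1 this
    exact hr.ne_one (h.inj (h3.trans (map_one f).symm))

end Grow

/-- orthogonal pairs -/
def Or (r s : A8) : Prop := ∃ c : A8, c * x14 * c⁻¹ = r ∧ c * x23 * c⁻¹ = s

theorem Grow.orth {t : G} {f : A8 →* G} {y : G} (h : Grow t f y) {r s : A8} (hrs : Or r s) :
    Y f y r * Y f y s = Y f y s * Y f y r := by
  obtain ⟨c, rfl, rfl⟩ := hrs
  rw [h.Y_conj L1_base.left, h.Y_conj root23]
  calc f c * Y f y x14 * (f c)⁻¹ * (f c * Y f y x23 * (f c)⁻¹) = f c * (Y f y x14 * Y f y x23) * (f c)⁻¹ := by group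
    _ = _ := by rw [h.orth_base]; group

end Cfsg.Agent.OddHalf.D5.Eight.Gr

end

-- merged: Cfsg.Agent.OddHalf.D5.EightGrowSpec
section

/-!
# ODD D5, `n = 8`: the growth, 3 (helper432)

Special pairs of roots: `(Y r Y s)² ∈ {Y q, q Y q}`, `q = [r, s]`.
-/

set_option autoImplicit false
set_option linter.dupNamespace false

namespace Cfsg.Agent.OddHalf.D5.Eight.Gr

open Subgroup Equiv

variable {G : Type*} [Group G]

/-- special pairs -/
def Sp (r s : A8) : Prop := ∃ c : A8, c * x12 * c⁻¹ = r ∧ c * x23 * c⁻¹ = s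

theorem root12 : Root x12 := L1_1312.right
theorem root13 : Root x13 := L1_base.right
theorem L1_1213 : L1 x12 x13 := L1_symm L1_1312

theorem L3_1323 : L3 x13 x23 := ⟨d1323, by decide, by decide⟩

def x43 : A8 := ev (pm 0o12305674 0o12305674 (by decide) (by decide)) (by decide)
def D0 : A8 := ev (pm 0o76543210 0o76543210 (by decide) (by decide)) (by decide)
def D1 : A8 := ev (pm 0o45672301 0o45672301 (by decide) (by decide)) (by decide)
def D2 : A8 := ev (pm 0o54761032 0o54761032 (by decide) (by decide)) (by decide)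
def D3 : A8 := ev (pm 0o67450123 0o67450123 (by decide) (by decide)) (by decide)
def D4 : A8 := ev (pm 0o32107654 0o32107654 (by decide) (by decide)) (by decide)
def D5 : A8 := ev (pm 0o01236745 0o23014567 (by decide) (by decide)) (by decide)
def D6 : A8 := ev (pm 0o10325476 0o10325476 (by decide) (by decide)) (by decide)
def D7 : A8 := ev (pm 0o23014567 0o01236745 (by decide) (by decide)) (by decide)

/-- the dihedral group `⟨x12, x23⟩` -/
def Dl : List A8 := [D0, D1, D2, D3, D4, D5, D6, D7]

def C0 : A8 := ev (pm 0o76543210 0o76543210 (by decide) (by decide)) (by decide)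
def C1 : A8 := ev (pm 0o67452301 0o67452301 (by decide) (by decide)) (by decide)
def C2 : A8 := ev (pm 0o54761032 0o54761032 (by decide) (by decide)) (by decide)
def C3 : A8 := ev (pm 0o45670123 0o45670123 (by decide) (by decide)) (by decide)
def C4 : A8 := ev (pm 0o12305674 0o12305674 (by decide) (by decide)) (by decide)
def C5 : A8 := ev (pm 0o03214765 0o21036547 (by decide) (by decide)) (by decide)
def C6 : A8 := ev (pm 0o30127456 0o30127456 (by decide) (by decide)) (by decide)
def C7 : A8 := ev (pm 0o21036547 0o03214765 (by decide) (by decide)) (by decide)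

/-- elements of `⟨x14, x43⟩` moving the base point `0` to `i` -/
def wC : Fin 8 → Perm (Fin 8) := ![(C0 : Perm (Fin 8)), (C1 : Perm (Fin 8)), (C2 : Perm (Fin 8)), (C3 : Perm (Fin 8)),
  (C4 : Perm (Fin 8)), (C5 : Perm (Fin 8)), (C6 : Perm (Fin 8)), (C7 : Perm (Fin 8))]

theorem cent_D (p : Perm (Fin 8)) (hL : ∀ b ∈ [x14, x43], p * (b : Perm (Fin 8)) = b * p) :
    ∃ d : A8, d ∈ Dl ∧ (d : Perm (Fin 8)) = p := by
  have ha : p * (x14 : Perm (Fin 8)) = x14 * p := hL _ (by simp)
  have hb : p * (x43 : Perm (Fin 8)) = x43 * p := hL _ (by simp)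
  have key : ∀ i : Fin 8, (Dl.any fun d => decide ((d : Perm (Fin 8)) 0 = i)) = true := by decide +kernel
  obtain ⟨d, hdD, hd0⟩ := any_of (key (p 0))
  refine ⟨d, hdD, ?_⟩
  have hm : ∀ a b : Perm (Fin 8), p * a = a * p → p * b = b * p → p * (a * b) = a * b * p := by
    intro a b h1 h2
    rw [← mul_assoc, h1, mul_assoc, h2, mul_assoc]
  symm
  apply rigid wC ![0, 0, 0, 0, 0, 0, 0, 0] (by decide)
  · have e0 : (C0 : Perm (Fin 8)) = x14 * x14 := by decide +kernel
    have e1 : (C1 : Perm (Fin 8)) = x14 := by decide +kernel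
    have e4 : (C4 : Perm (Fin 8)) = x43 := by decide +kernel
    have e5 : (C5 : Perm (Fin 8)) = C1 * C4 := by decide +kernel
    have e2 : (C2 : Perm (Fin 8)) = C5 * C5 := by decide +kernel
    have e3 : (C3 : Perm (Fin 8)) = C1 * C2 := by decide +kernel
    have e6 : (C6 : Perm (Fin 8)) = C4 * C2 := by decide +kernel
    have e7 : (C7 : Perm (Fin 8)) = C1 * C6 := by decide +kernel
    have k1 : p * (C1 : Perm (Fin 8)) = C1 * p := by rw [e1]; exact ha
    have k4 : p * (C4 : Perm (Fin 8)) = C4 * p := by rw [e4]; exact hb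
    have k0 : p * (C0 : Perm (Fin 8)) = C0 * p := by rw [e0]; exact hm _ _ ha ha
    have k5 : p * (C5 : Perm (Fin 8)) = C5 * p := by rw [e5]; exact hm _ _ k1 k4
    have k2 : p * (C2 : Perm (Fin 8)) = C2 * p := by rw [e2]; exact hm _ _ k5 k5
    have k3 : p * (C3 : Perm (Fin 8)) = C3 * p := by rw [e3]; exact hm _ _ k1 k2
    have k6 : p * (C6 : Perm (Fin 8)) = C6 * p := by rw [e6]; exact hm _ _ k4 k2
    have k7 : p * (C7 : Perm (Fin 8)) = C7 * p := by rw [e7]; exact hm _ _ k1 k6
    intro i
    fin_cases i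
    · exact k0
    · exact k1
    · exact k2
    · exact k3
    · exact k4
    · exact k5
    · exact k6
    · exact k7
  · exact all_of (P := fun d => ∀ i, wC i ((d : Perm (Fin 8)) ((![0, 0, 0, 0, 0, 0, 0, 0] : Fin 8 → Fin 8) i)) =
      (d : Perm (Fin 8)) i) (L := Dl) (by decide +kernel) d hdD
  · intro i
    fin_cases i <;> exact hd0.symm

namespace Grow

variable {t : G} {f : A8 →* G} {y : G}

/-- `x23 Y12 x23 = Y12 Y13` -/
theorem sY12 (h : Grow t f y) : f x23 * Y f y x12 * f x23 = Y f y x12 * Y f y x13 := by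
  rw [h.line1 L1_1213]
  have h1 := h.Y_conj root12 x23
  have h2 : x23 * x12 * x23⁻¹ = x12 * x13 := by decide
  have h3 : (f x23)⁻¹ = f x23 := by rw [← map_inv]; congr 1
  rw [h2, h3] at h1
  exact h1.symm

/-- `x12 Y23 x12 = Y13 Y23` -/
theorem rY23 (h : Grow t f y) : f x12 * Y f y x23 * f x12 = Y f y x13 * Y f y x23 := by
  rw [h.line3 L3_1323]
  have h1 := h.Y_conj root23 x12
  have h2 : x12 * x23 * x12⁻¹ = x13 * x23 := by decide
  have h3 : (f x12)⁻¹ = f x12 := by rw [← map_inv]; congr 1
  rw [h2, h3] at h1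
  exact h1.symm

theorem f_sq (_h : Grow t f y) {r : A8} (hr : Root r) : f r * f r = 1 := by rw [← map_mul, hr.sq, map_one]

/-- `Y23 x12 Y23 = x12 Y13` -/
theorem Yr (h : Grow t f y) : Y f y x23 * f x12 * Y f y x23 = f x12 * Y f y x13 := by
  have h1 := h.rY23
  have s := h.Y_sq root23
  have r := h.f_sq root12
  calc Y f y x23 * f x12 * Y f y x23 = (f x12 * f x12) * Y f y x23 * f x12 * Y f y x23 := by rw [r, one_mul]
    _ = f x12 * (f x12 * Y f y x23 * f x12) * Y f y x23 := by group
    _ = f x12 * Y f y x13 * (Y f y x23 * Y f y x23) := by rw [h1]; group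
    _ = f x12 * Y f y x13 := by rw [s, mul_one]

/-- `Y12 x23 Y12 = x23 Y13` -/
theorem Ys (h : Grow t f y) : Y f y x12 * f x23 * Y f y x12 = f x23 * Y f y x13 := by
  have h1 := h.sY12
  have s := h.Y_sq root12
  have r := h.f_sq root23
  have c := h.comm1 L1_1213
  have c13 : Y f y x13 * f x23 = f x23 * Y f y x13 := h.Y_comm root13 (by decide)
  calc Y f y x12 * f x23 * Y f y x12 = Y f y x12 * (f x23 * Y f y x12 * f x23) * (f x23)⁻¹ := by group
    _ = (Y f y x12 * Y f y x12) * Y f y x13 * (f x23)⁻¹ := by rw [h1]; group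
    _ = Y f y x13 * f x23 := by
      rw [s, one_mul]
      congr 1
      exact inv_eq_of_mul_eq_one_left r
    _ = f x23 * Y f y x13 := c13

/-- the product `c = (Y12 Y23)² Y13` commutes with `t` -/
theorem spec_t (h : Grow t f y) :
    Y f y x12 * Y f y x23 * Y f y x12 * Y f y x23 * Y f y x13 * t =
      t * (Y f y x12 * Y f y x23 * Y f y x12 * Y f y x23 * Y f y x13) := by
  have y12 := h.Y_sq root12
  have y23 := h.Y_sq root23
  have y13 := h.Y_sq root13
  have t12 := h.Y_t root12
  have t23 := h.Y_t root23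
  have t13 := h.Y_t root13
  have c1312 : Y f y x13 * Y f y x12 = Y f y x12 * Y f y x13 := h.comm1 L1_1312
  have c1323 : Y f y x13 * Y f y x23 = Y f y x23 * Y f y x13 := h.comm3 L3_1323
  have d1312 : Y f y x13 * f x12 = f x12 * Y f y x13 := h.Y_comm root13 (by decide)
  have hrev : f x12 * f x23 * f x12 = f (x23 * x13) := by
    rw [← map_mul, ← map_mul]; congr 1; decide
  have d23 : Y f y x23 * f (x23 * x13) = f (x23 * x13) * Y f y x23 := h.Y_comm root23 (by decide)
  have f13 : f x23 * f (x23 * x13) = f x13 := by rw [← map_mul]; congr 1; decide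
  -- step 2
  have a2 : Y f y x23 * (t * f x12) * Y f y x23 = t * f x23 * f x12 * Y f y x13 := by
    calc Y f y x23 * (t * f x12) * Y f y x23
        = (Y f y x23 * t * Y f y x23) * (Y f y x23⁻¹ * f x12 * Y f y x23) := by
          have : Y f y x23⁻¹ = Y f y x23 := by congr 1
          rw [this]
          calc Y f y x23 * (t * f x12) * Y f y x23 = Y f y x23 * t * 1 * f x12 * Y f y x23 := by group
            _ = _ := by rw [← y23]; group
      _ = t * f x23 * (f x12 * Y f y x13) := by
          have : Y f y x23⁻¹ = Y f y x23 := by congr 1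
          rw [this, t23, h.Yr]
      _ = _ := by group
  -- step 3
  have a3 : Y f y x12 * (t * f x23 * f x12 * Y f y x13) * Y f y x12 = t * f (x23 * x13) := by
    have e1 : Y f y x12 * f x12 = f x12 * Y f y x12 := h.Y_comm root12 rfl
    calc Y f y x12 * (t * f x23 * f x12 * Y f y x13) * Y f y x12
        = Y f y x12 * t * f x23 * f x12 * (Y f y x13 * Y f y x12) := by group
      _ = Y f y x12 * t * f x23 * (f x12 * Y f y x12) * Y f y x13 := by rw [c1312]; group
      _ = Y f y x12 * t * 1 * f x23 * Y f y x12 * f x12 * Y f y x13 := by rw [← e1]; group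
      _ = (Y f y x12 * t * Y f y x12) * (Y f y x12 * f x23 * Y f y x12) * f x12 * Y f y x13 := by rw [← y12]; group
      _ = t * f x12 * f x23 * (Y f y x13 * f x12) * Y f y x13 := by rw [t12, h.Ys]; group
      _ = t * (f x12 * f x23 * f x12) * (Y f y x13 * Y f y x13) := by rw [d1312]; group
      _ = t * f (x23 * x13) := by rw [hrev, y13, mul_one]
  -- step 4
  have a4 : Y f y x23 * (t * f (x23 * x13)) * Y f y x23 = t * f x13 := by
    calc Y f y x23 * (t * f (x23 * x13)) * Y f y x23 = Y f y x23 * t * (f (x23 * x13) * Y f y x23) := by group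
      _ = (Y f y x23 * t * Y f y x23) * f (x23 * x13) := by rw [← d23]; group
      _ = t * f x13 := by rw [t23, mul_assoc, f13]
  -- `u⁻¹ t u = t x13`
  have hu : Y f y x23 * Y f y x12 * Y f y x23 * Y f y x12 * t * (Y f y x12 * Y f y x23 * Y f y x12 * Y f y x23) =
      t * f x13 := by
    calc Y f y x23 * Y f y x12 * Y f y x23 * Y f y x12 * t * (Y f y x12 * Y f y x23 * Y f y x12 * Y f y x23)
        = Y f y x23 * (Y f y x12 * (Y f y x23 * (Y f y x12 * t * Y f y x12) * Y f y x23) * Y f y x12) * Y f y x23 := by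
          group
      _ = t * f x13 := by rw [t12, a2, a3, a4]
  have hinv : (Y f y x12 * Y f y x23 * Y f y x12 * Y f y x23 * Y f y x13)⁻¹ =
      Y f y x13 * (Y f y x23 * Y f y x12 * Y f y x23 * Y f y x12) := by
    rw [mul_inv_rev, mul_inv_rev, mul_inv_rev, mul_inv_rev, h.Y_inv root12, h.Y_inv root23, h.Y_inv root13]
    group
  have hfin : (Y f y x12 * Y f y x23 * Y f y x12 * Y f y x23 * Y f y x13)⁻¹ * t *
      (Y f y x12 * Y f y x23 * Y f y x12 * Y f y x23 * Y f y x13) = t := by
    rw [hinv]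
    calc Y f y x13 * (Y f y x23 * Y f y x12 * Y f y x23 * Y f y x12) * t *
        (Y f y x12 * Y f y x23 * Y f y x12 * Y f y x23 * Y f y x13)
        = Y f y x13 * (Y f y x23 * Y f y x12 * Y f y x23 * Y f y x12 * t *
          (Y f y x12 * Y f y x23 * Y f y x12 * Y f y x23)) * Y f y x13 := by group
      _ = (Y f y x13 * t) * (f x13 * Y f y x13) := by rw [hu]; group
      _ = (Y f y x13 * t * Y f y x13) * f x13 := by rw [← h.Y_comm root13 rfl]; group
      _ = t * (f x13 * f x13) := by rw [t13]; group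
      _ = t := by rw [h.f_sq root13, mul_one]
  generalize Y f y x12 * Y f y x23 * Y f y x12 * Y f y x23 * Y f y x13 = c at hfin
  calc c * t = c * (c⁻¹ * t * c) := by rw [hfin]
    _ = t * c := by group

/-- **the base special pair** -/
theorem spec_base (h : Grow t f y) :
    Y f y x12 * Y f y x23 * Y f y x12 * Y f y x23 = Y f y x13 ∨
      Y f y x12 * Y f y x23 * Y f y x12 * Y f y x23 = f x13 * Y f y x13 := by
  have y12 := h.Y_sq root12
  have y23 := h.Y_sq root23
  have y13 := h.Y_sq root13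
  have t12 := h.Y_t root12
  have t23 := h.Y_t root23
  have t13 := h.Y_t root13
  have c1312 : Y f y x13 * Y f y x12 = Y f y x12 * Y f y x13 := h.comm1 L1_1312
  have c1323 : Y f y x13 * Y f y x23 = Y f y x23 * Y f y x13 := h.comm3 L3_1323
  obtain ⟨d, hd, hm⟩ := h.cent_of h.spec_t [x14, x43] (by
    intro b hb
    have h1 := all_of (P := fun b => b * x12 = x12 * b ∧ b * x23 = x23 * b ∧ b * x13 = x13 * b) (L := [x14, x43])
      (by decide +kernel) b hb
    have e1 := h.commute4 root12 root23 h1.1 h1.2.1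
    have e2 := h.Y_comm root13 h1.2.2
    calc Y f y x12 * Y f y x23 * Y f y x12 * Y f y x23 * Y f y x13 * f b
        = Y f y x12 * Y f y x23 * Y f y x12 * Y f y x23 * (Y f y x13 * f b) := by group
      _ = (Y f y x12 * Y f y x23 * Y f y x12 * Y f y x23 * f b) * Y f y x13 := by rw [e2]; group
      _ = _ := by rw [e1]; group) (fun d => d ∈ Dl) (fun p hp => cent_D p hp)
  have hd13 : d * x13 = x13 * d := all_of (P := fun d => d * x13 = x13 * d) (L := Dl) (by decide +kernel) d hd
  have hd13' : d⁻¹ * x13 = x13 * d⁻¹ := by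
    calc d⁻¹ * x13 = d⁻¹ * (x13 * d) * d⁻¹ := by group
      _ = d⁻¹ * (d * x13) * d⁻¹ := by rw [hd13]
      _ = x13 * d⁻¹ := by group
  -- conjugation of `c` by `Y12` and `Y23`
  have r1 : Y f y x12 * (Y f y x12 * Y f y x23 * Y f y x12 * Y f y x23 * Y f y x13) * Y f y x12 =
      Y f y x13 * (Y f y x12 * Y f y x23 * Y f y x12 * Y f y x23 * Y f y x13)⁻¹ * Y f y x13 := by
    rw [mul_inv_rev, mul_inv_rev, mul_inv_rev, mul_inv_rev, h.Y_inv root12, h.Y_inv root23, h.Y_inv root13]
    calc Y f y x12 * (Y f y x12 * Y f y x23 * Y f y x12 * Y f y x23 * Y f y x13) * Y f y x12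
        = (Y f y x12 * Y f y x12) * Y f y x23 * Y f y x12 * Y f y x23 * (Y f y x13 * Y f y x12) := by group
      _ = Y f y x23 * Y f y x12 * Y f y x23 * Y f y x12 * Y f y x13 := by rw [y12, c1312]; group
      _ = (Y f y x13 * Y f y x13) * (Y f y x23 * (Y f y x12 * (Y f y x23 * Y f y x12))) * Y f y x13 := by
        rw [y13]; group
      _ = _ := by group
  have r2 : Y f y x23 * (Y f y x12 * Y f y x23 * Y f y x12 * Y f y x23 * Y f y x13) * Y f y x23 =
      Y f y x13 * (Y f y x12 * Y f y x23 * Y f y x12 * Y f y x23 * Y f y x13)⁻¹ * Y f y x13 := by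
    rw [mul_inv_rev, mul_inv_rev, mul_inv_rev, mul_inv_rev, h.Y_inv root12, h.Y_inv root23, h.Y_inv root13]
    calc Y f y x23 * (Y f y x12 * Y f y x23 * Y f y x12 * Y f y x23 * Y f y x13) * Y f y x23
        = Y f y x23 * Y f y x12 * Y f y x23 * Y f y x12 * Y f y x23 * (Y f y x13 * Y f y x23) := by group
      _ = Y f y x23 * Y f y x12 * Y f y x23 * Y f y x12 * (Y f y x23 * Y f y x23) * Y f y x13 := by rw [c1323]; group
      _ = (Y f y x13 * Y f y x13) * (Y f y x23 * (Y f y x12 * (Y f y x23 * Y f y x12))) * Y f y x13 := by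
        rw [y13, y23]; group
      _ = _ := by group
  rcases hm with hm | hm
  · -- `c = f d`: then `d` is central in the dihedral group
    have key : ∀ {r : A8} (hr : Root r), Y f y r * (f d) * Y f y r = Y f y x13 * (f d)⁻¹ * Y f y x13 → r * d = d * r := by
      intro r hr e
      have e1 : Y f y x13 * (f d)⁻¹ * Y f y x13 = f d⁻¹ := by
        rw [← map_inv, h.Y_comm root13 hd13', mul_assoc, y13, mul_one]
      rw [e1] at e
      -- `Y r (f d) Y r` commutes with `t`
      have yr := h.Y_sq hr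
      have tr := h.Y_t hr
      have e2 : t * f r * f d = f d * (t * f r) := by
        have e3 : f d = Y f y r * f d⁻¹ * Y f y r := by
          rw [← e]
          calc f d = (Y f y r * Y f y r) * f d * (Y f y r * Y f y r) := by rw [yr]; group
            _ = _ := by group
        calc t * f r * f d = (Y f y r * t * Y f y r) * (Y f y r * f d⁻¹ * Y f y r) := by rw [tr, ← e3]
          _ = Y f y r * t * (Y f y r * Y f y r) * f d⁻¹ * Y f y r := by group
          _ = Y f y r * (t * f d⁻¹) * Y f y r := by rw [yr]; group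
          _ = Y f y r * f d⁻¹ * (Y f y r * Y f y r) * t * Y f y r := by rw [h.comm, yr]; group
          _ = (Y f y r * f d⁻¹ * Y f y r) * (Y f y r * t * Y f y r) := by group
          _ = f d * (t * f r) := by rw [tr, ← e3]
      apply h.inj
      rw [map_mul, map_mul]
      apply mul_left_cancel (a := t)
      calc t * (f r * f d) = f d * (t * f r) := by rw [← mul_assoc, e2]
        _ = t * (f d * f r) := by rw [← mul_assoc, ← h.comm, mul_assoc]
    rw [hm] at r1 r2
    have k1 := key root12 r1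
    have k2 := key root23 r2
    have k3 : d = 1 ∨ d = x13 := all_of (P := fun d => x12 * d = d * x12 → x23 * d = d * x23 → d = 1 ∨ d = x13)
      (L := Dl) (by decide +kernel) d hd k1 k2
    have hu : Y f y x12 * Y f y x23 * Y f y x12 * Y f y x23 = f d * Y f y x13 := by
      rw [← hm, mul_assoc _ (Y f y x13), y13, mul_one]
    rw [hu]
    rcases k3 with rfl | rfl
    · left; rw [map_one, one_mul]
    · right; rfl
  · -- `c = t f d`
    exfalso
    have key : ∀ {r : A8} (hr : Root r), Y f y r * (t * f d) * Y f y r = Y f y x13 * (t * f d)⁻¹ * Y f y x13 →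
        r * d = d⁻¹ * x13 := by
      intro r hr e
      have yr := h.Y_sq hr
      have tr := h.Y_t hr
      have e1 : Y f y x13 * (t * f d)⁻¹ * Y f y x13 = t * f (d⁻¹ * x13) := by
        calc Y f y x13 * (t * f d)⁻¹ * Y f y x13 = Y f y x13 * f d⁻¹ * t⁻¹ * Y f y x13 := by
              rw [mul_inv_rev, map_inv]; group
          _ = f d⁻¹ * (Y f y x13 * t * Y f y x13) := by rw [h.t_inv, h.Y_comm root13 hd13']; group
          _ = (f d⁻¹ * t) * f x13 := by rw [t13]; group
          _ = t * f (d⁻¹ * x13) := by rw [← h.comm, map_mul, mul_assoc]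
      rw [e1] at e
      -- the left-hand side commutes with `t`, so `t f d` commutes with `t f r`
      have e2 : (t * f r) * (t * f d) = (t * f d) * (t * f r) := by
        have e3 : t * f d = Y f y r * (t * f (d⁻¹ * x13)) * Y f y r := by
          rw [← e]
          calc t * f d = (Y f y r * Y f y r) * (t * f d) * (Y f y r * Y f y r) := by rw [yr]; group
            _ = _ := by group
        calc t * f r * (t * f d) = (Y f y r * t * Y f y r) * (Y f y r * (t * f (d⁻¹ * x13)) * Y f y r) := by
              rw [tr, ← e3]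
          _ = Y f y r * t * (Y f y r * Y f y r) * (t * f (d⁻¹ * x13)) * Y f y r := by group
          _ = Y f y r * t * (t * f (d⁻¹ * x13)) * Y f y r := by rw [yr, mul_one]
          _ = Y f y r * t * (f (d⁻¹ * x13) * t) * Y f y r := by rw [h.comm (d⁻¹ * x13)]
          _ = Y f y r * (t * f (d⁻¹ * x13)) * (Y f y r * Y f y r) * t * Y f y r := by rw [yr]; group
          _ = (Y f y r * (t * f (d⁻¹ * x13)) * Y f y r) * (Y f y r * t * Y f y r) := by group
          _ = (t * f d) * (t * f r) := by rw [tr, ← e3]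
      have e4 : r * d = d * r := by
        apply h.inj
        rw [map_mul, map_mul]
        calc f r * f d = t * t * f r * f d := by rw [h.tt, one_mul]
          _ = (t * f r) * (t * f d) := by
            calc t * t * f r * f d = t * (t * f r) * f d := by group
              _ = t * (f r * t) * f d := by rw [h.comm]
              _ = _ := by group
          _ = (t * f d) * (t * f r) := e2
          _ = t * (f d * t) * f r := by group
          _ = (t * t) * f d * f r := by rw [← h.comm]; group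
          _ = f d * f r := by rw [h.tt, one_mul]
      have e5 : Y f y r * (t * f d) * Y f y r = t * f (r * d) := by
        calc Y f y r * (t * f d) * Y f y r = Y f y r * t * (f d * Y f y r) := by group
          _ = (Y f y r * t * Y f y r) * f d := by rw [← h.Y_comm hr e4.symm]; group
          _ = t * f (r * d) := by rw [tr, map_mul]; group
      rw [e5] at e
      exact h.inj (mul_left_cancel e)
    rw [hm] at r1 r2
    have k1 := key root12 r1
    have k2 := key root23 r2
    have k3 : x12 = x23 := mul_right_cancel (k1.trans k2.symm)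
    revert k3
    decide

/-- the product of a special pair -/
theorem spec (h : Grow t f y) {r s : A8} (hrs : Sp r s) :
    Y f y r * Y f y s * Y f y r * Y f y s = Y f y (r * s * r * s) ∨
      Y f y r * Y f y s * Y f y r * Y f y s = f (r * s * r * s) * Y f y (r * s * r * s) := by
  obtain ⟨c, rfl, rfl⟩ := hrs
  have e : c * x12 * c⁻¹ * (c * x23 * c⁻¹) * (c * x12 * c⁻¹) * (c * x23 * c⁻¹) = c * x13 * c⁻¹ := by
    have : x12 * x23 * x12 * x23 = x13 := by decide
    rw [← this]; group
  rw [e, h.Y_conj root12, h.Y_conj root23, h.Y_conj root13]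
  rcases h.spec_base with hb | hb
  · left
    rw [← hb]; group
  · right
    calc f c * Y f y x12 * (f c)⁻¹ * (f c * Y f y x23 * (f c)⁻¹) * (f c * Y f y x12 * (f c)⁻¹) * (f c * Y f y x23 * (f c)⁻¹)
        = f c * (Y f y x12 * Y f y x23 * Y f y x12 * Y f y x23) * (f c)⁻¹ := by group
      _ = f (c * x13 * c⁻¹) * (f c * Y f y x13 * (f c)⁻¹) := by
        rw [hb, map_mul, map_mul, map_inv]; group

/-- `s Y_r s = Y_r Y_q` -/
theorem spec_s (h : Grow t f y) {r s : A8} (hrs : Sp r s) :
    Y f y r * f s * Y f y r * f s = Y f y (r * s * r * s) := by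
  obtain ⟨c, rfl, rfl⟩ := hrs
  have e : c * x12 * c⁻¹ * (c * x23 * c⁻¹) * (c * x12 * c⁻¹) * (c * x23 * c⁻¹) = c * x13 * c⁻¹ := by
    have : x12 * x23 * x12 * x23 = x13 := by decide
    rw [← this]; group
  rw [e, h.Y_conj root12, h.Y_conj root13, map_mul, map_mul, map_inv]
  have h1 := h.Ys
  have h2 : Y f y x13 * f x23 = f x23 * Y f y x13 := h.Y_comm root13 (by decide)
  calc f c * Y f y x12 * (f c)⁻¹ * (f c * f x23 * (f c)⁻¹) * (f c * Y f y x12 * (f c)⁻¹) * (f c * f x23 * (f c)⁻¹)
      = f c * ((Y f y x12 * f x23 * Y f y x12) * f x23) * (f c)⁻¹ := by group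
    _ = f c * (Y f y x13 * (f x23 * f x23)) * (f c)⁻¹ := by rw [h1, ← h2]; group
    _ = _ := by rw [h.f_sq root23, mul_one]

/-- `[r, Y_s] = Y_q` -/
theorem spec_r (h : Grow t f y) {r s : A8} (hrs : Sp r s) :
    f r * Y f y s * f r * Y f y s = Y f y (r * s * r * s) := by
  obtain ⟨c, rfl, rfl⟩ := hrs
  have e : c * x12 * c⁻¹ * (c * x23 * c⁻¹) * (c * x12 * c⁻¹) * (c * x23 * c⁻¹) = c * x13 * c⁻¹ := by
    have : x12 * x23 * x12 * x23 = x13 := by decide
    rw [← this]; group
  rw [e, h.Y_conj root23, h.Y_conj root13, map_mul, map_mul, map_inv]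
  have h1 := h.rY23
  calc f c * f x12 * (f c)⁻¹ * (f c * Y f y x23 * (f c)⁻¹) * (f c * f x12 * (f c)⁻¹) * (f c * Y f y x23 * (f c)⁻¹)
      = f c * ((f x12 * Y f y x23 * f x12) * Y f y x23) * (f c)⁻¹ := by group
    _ = f c * (Y f y x13 * (Y f y x23 * Y f y x23)) * (f c)⁻¹ := by rw [h1]; group
    _ = _ := by rw [h.Y_sq root23, mul_one]

end Grow

end Cfsg.Agent.OddHalf.D5.Eight.Gr

end

-- merged: Cfsg.Agent.OddHalf.D5.EightGrowDbl
section

/-!
# ODD D5, `n = 8`: the growth, 4 (helper432)

The doubled root groups `V i = {1, r, Y r, r Y r}` for the six positive roots form a `Growth.Dbl` of length 6.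
-/

set_option autoImplicit false
set_option linter.dupNamespace false

namespace Cfsg.Agent.OddHalf.D5.Eight.Gr

open Subgroup Equiv Cfsg.Agent.Doubling.Growth

variable {G : Type*} [Group G]

/-- `(x14, x12)`, `(x24, x23)` centre type; `(x14, x34)`, `(x24, x34)` axis type -/
theorem L1_1412 : L1 x14 x12 := ⟨c1412, by decide, by decide⟩
theorem L1_2423 : L1 x24 x23 := ⟨c2423, by decide, by decide⟩
theorem L3_1434 : L3 x14 x34 := ⟨d1434, by decide, by decide⟩
theorem L3_2434 : L3 x24 x34 := ⟨d2434, by decide, by decide⟩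
theorem Or_1423 : Or x14 x23 := ⟨1, by group, by group⟩
theorem Or_1324 : Or x13 x24 := ⟨o1324, by decide, by decide⟩
theorem Or_1234 : Or x12 x34 := ⟨o1234, by decide, by decide⟩
theorem Sp_1223 : Sp x12 x23 := ⟨1, by group, by group⟩
theorem Sp_1224 : Sp x12 x24 := ⟨s1224, by decide, by decide⟩
theorem Sp_1334 : Sp x13 x34 := ⟨s1334, by decide, by decide⟩
theorem Sp_2334 : Sp x23 x34 := ⟨s2334, by decide, by decide⟩
theorem root14 : Root x14 := L1_base.left
theorem root34 : Root x34 := L3_1434.right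

/-- the positive roots -/
def xr : ℕ → A8
  | 0 => x14
  | 1 => x13
  | 2 => x24
  | 3 => x23
  | 4 => x12
  | _ => x34

theorem root_xr (i : ℕ) : Root (xr i) := by
  unfold xr
  split
  · exact root14
  · exact root13
  · exact root24
  · exact root23
  · exact root12
  · exact root34

/-- the doubled root group -/
def Wd (f : A8 →* G) (y : G) (r : A8) : Subgroup G := closure {f r, Y f y r}

/-- the root group -/
def Xd (f : A8 →* G) (r : A8) : Subgroup G := closure {f r}

/-- commutators of generators -/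
theorem comm_mem {N : Subgroup G} {A B : Set G} (hA : ∀ a ∈ A, ∀ n ∈ N, a * n = n * a) (hB : ∀ b ∈ B, ∀ n ∈ N, b * n = n * b)
    (hAB : ∀ a ∈ A, ∀ b ∈ B, a * b * a⁻¹ * b⁻¹ ∈ N) :
    ∀ v ∈ closure A, ∀ w ∈ closure B, v * w * v⁻¹ * w⁻¹ ∈ N := by
  have cA : ∀ v ∈ closure A, ∀ n ∈ N, v * n = n * v := by
    have hle : closure A ≤ centralizer (N : Set G) := by
      rw [closure_le]
      intro a ha
      rw [SetLike.mem_coe, mem_centralizer_iff]
      exact fun n hn => (hA a ha n hn).symm
    intro v hv n hn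
    exact (mem_centralizer_iff.1 (hle hv) n hn).symm
  have cB : ∀ v ∈ closure B, ∀ n ∈ N, v * n = n * v := by
    have hle : closure B ≤ centralizer (N : Set G) := by
      rw [closure_le]
      intro a ha
      rw [SetLike.mem_coe, mem_centralizer_iff]
      exact fun n hn => (hB a ha n hn).symm
    intro v hv n hn
    exact (mem_centralizer_iff.1 (hle hv) n hn).symm
  have h1 : ∀ b ∈ B, ∀ v ∈ closure A, v * b * v⁻¹ * b⁻¹ ∈ N := by
    intro b hb v hv
    induction hv using closure_induction with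
    | mem x hx => exact hAB x hx b hb
    | one => rw [one_mul, inv_one, mul_one, mul_inv_cancel]; exact one_mem _
    | mul x z hx hz ihx ihz =>
      have e : x * z * b * (x * z)⁻¹ * b⁻¹ = (x * (z * b * z⁻¹ * b⁻¹)) * x⁻¹ * (x * b * x⁻¹ * b⁻¹) := by group
      rw [e, cA x hx _ ihz, mul_inv_cancel_right]
      exact mul_mem ihz ihx
    | inv x hx ih =>
      have e : x⁻¹ * b * x⁻¹⁻¹ * b⁻¹ = x⁻¹ * ((x * b * x⁻¹ * b⁻¹)⁻¹ * x) := by group
      rw [e, ← cA x hx _ (inv_mem ih), inv_mul_cancel_left]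
      exact inv_mem ih
  intro v hv w hw
  induction hw using closure_induction with
  | mem x hx => exact h1 x hx v hv
  | one => rw [mul_one, mul_inv_cancel, inv_one, mul_one]; exact one_mem _
  | mul x z hx hz ihx ihz =>
    have e : v * (x * z) * v⁻¹ * (x * z)⁻¹ = (v * x * v⁻¹ * x⁻¹) * (x * (v * z * v⁻¹ * z⁻¹) * x⁻¹) := by group
    rw [e, cB x hx _ ihz, mul_inv_cancel_right]
    exact mul_mem ihx ihz
  | inv x hx ih =>
    have e : v * x⁻¹ * v⁻¹ * x⁻¹⁻¹ = x⁻¹ * ((v * x * v⁻¹ * x⁻¹)⁻¹ * x) := by group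
    rw [e, ← cB x hx _ (inv_mem ih), inv_mul_cancel_left]
    exact inv_mem ih

namespace Grow

variable {t : G} {f : A8 →* G} {y : G}

theorem fY (h : Grow t f y) {r : A8} (hr : Root r) : Y f y r * f r = f r * Y f y r := h.Y_comm hr rfl

/-- `t Y t = r Y` -/
theorem tYt (h : Grow t f y) {r : A8} (hr : Root r) : t * Y f y r * t = f r * Y f y r := by
  calc t * Y f y r * t = Y f y r * t * (f r * t) := by rw [h.t_Y hr]; group
    _ = Y f y r * (t * t) * f r := by rw [← h.comm]; group
    _ = f r * Y f y r := by rw [h.tt, mul_one, h.fY hr]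

theorem tft (h : Grow t f y) (r : A8) : t * f r * t = f r := by
  rw [h.comm, mul_assoc, h.tt, mul_one]

/-- the four elements -/
theorem mem_Wd (h : Grow t f y) {r : A8} (hr : Root r) {x : G} :
    x ∈ Wd f y r ↔ x = 1 ∨ x = f r ∨ x = Y f y r ∨ x = f r * Y f y r := by
  have s1 := h.f_sq hr
  have s2 := h.Y_sq hr
  have c := h.fY hr
  constructor
  · intro hx
    induction hx using closure_induction with
    | mem x hx =>
      rcases hx with rfl | rfl
      · exact Or.inr (Or.inl rfl)
      · exact Or.inr (Or.inr (Or.inl rfl))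
    | one => exact Or.inl rfl
    | mul a b _ _ ha hb =>
      have s1' : ∀ z, f r * (f r * z) = z := fun z => by rw [← mul_assoc, s1, one_mul]
      have s2' : ∀ z, Y f y r * (Y f y r * z) = z := fun z => by rw [← mul_assoc, s2, one_mul]
      have c' : ∀ z, Y f y r * (f r * z) = f r * (Y f y r * z) := fun z => by rw [← mul_assoc, c, mul_assoc]
      rcases ha with rfl | rfl | rfl | rfl <;> rcases hb with rfl | rfl | rfl | rfl <;>
        simp only [one_mul, mul_one, mul_assoc, s1, s2, c, s1', c', true_or, or_true]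
    | inv a _ ha =>
      have i1 : (f r)⁻¹ = f r := inv_eq_of_mul_eq_one_left s1
      have i2 : (Y f y r)⁻¹ = Y f y r := inv_eq_of_mul_eq_one_left s2
      rcases ha with rfl | rfl | rfl | rfl
      · exact Or.inl inv_one
      · exact Or.inr (Or.inl i1)
      · exact Or.inr (Or.inr (Or.inl i2))
      · refine Or.inr (Or.inr (Or.inr ?_))
        rw [mul_inv_rev, i1, i2, c]
  · have m1 : f r ∈ Wd f y r := subset_closure (Or.inl rfl)
    have m2 : Y f y r ∈ Wd f y r := subset_closure (Or.inr rfl)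
    rintro (rfl | rfl | rfl | rfl)
    · exact one_mem _
    · exact m1
    · exact m2
    · exact mul_mem m1 m2

theorem mem_Xd (h : Grow t f y) {r : A8} (hr : Root r) {x : G} : x ∈ Xd f r ↔ x = 1 ∨ x = f r := by
  have s1 := h.f_sq hr
  constructor
  · intro hx
    induction hx using closure_induction with
    | mem x hx => exact Or.inr hx
    | one => exact Or.inl rfl
    | mul a b _ _ ha hb =>
      rcases ha with rfl | rfl <;> rcases hb with rfl | rfl <;>
        simp only [one_mul, mul_one, s1, true_or, or_true]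
    | inv a _ ha =>
      rcases ha with rfl | rfl
      · exact Or.inl inv_one
      · exact Or.inr (inv_eq_of_mul_eq_one_left s1)
  · rintro (rfl | rfl)
    · exact one_mem _
    · exact subset_closure rfl

/-- commuting pairs -/
theorem comm_Wd (h : Grow t f y) {r s : A8} (hr : Root r) (hs : Root s) (hrs : r * s = s * r)
    (hY : Y f y r * Y f y s = Y f y s * Y f y r) : ∀ v ∈ Wd f y r, ∀ w ∈ Wd f y s, v * w = w * v := by
  have h1 : f r * f s = f s * f r := by rw [← map_mul, hrs, map_mul]
  have h2 : f r * Y f y s = Y f y s * f r := (h.Y_comm hs hrs).symm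
  have h3 : Y f y r * f s = f s * Y f y r := h.Y_comm hr hrs.symm
  have key := comm_mem (N := (⊥ : Subgroup G)) (A := {f r, Y f y r}) (B := {f s, Y f y s})
    (fun a _ n hn => by rw [Subgroup.mem_bot.1 hn, one_mul, mul_one])
    (fun a _ n hn => by rw [Subgroup.mem_bot.1 hn, one_mul, mul_one]) (by
      rintro a (rfl | rfl) b (rfl | rfl) <;> rw [Subgroup.mem_bot, mul_inv_eq_one, mul_inv_eq_iff_eq_mul]
      · exact h1
      · exact h2
      · exact h3
      · exact hY)
  intro v hv w hw
  have := key v hv w hw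
  rwa [Subgroup.mem_bot, mul_inv_eq_one, mul_inv_eq_iff_eq_mul] at this

theorem comm_base (h : Grow t f y) {r s : A8} (hrs : Sp r s) :
    Root r ∧ Root s ∧ Root (r * s * r * s) ∧ (r * (r * s * r * s) = r * s * r * s * r) ∧
      (s * (r * s * r * s) = r * s * r * s * s) ∧
      Y f y r * Y f y (r * s * r * s) = Y f y (r * s * r * s) * Y f y r ∧
      Y f y s * Y f y (r * s * r * s) = Y f y (r * s * r * s) * Y f y s := by
  obtain ⟨c, rfl, rfl⟩ := hrs
  have e : c * x12 * c⁻¹ * (c * x23 * c⁻¹) * (c * x12 * c⁻¹) * (c * x23 * c⁻¹) = c * x13 * c⁻¹ := by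
    have : x12 * x23 * x12 * x23 = x13 := by decide
    rw [← this]; group
  rw [e]
  refine ⟨root12.conj c, root23.conj c, root13.conj c, ?_, ?_, ?_, ?_⟩
  · have : x12 * x13 = x13 * x12 := by decide
    calc c * x12 * c⁻¹ * (c * x13 * c⁻¹) = c * (x12 * x13) * c⁻¹ := by group
      _ = _ := by rw [this]; group
  · have : x23 * x13 = x13 * x23 := by decide
    calc c * x23 * c⁻¹ * (c * x13 * c⁻¹) = c * (x23 * x13) * c⁻¹ := by group
      _ = _ := by rw [this]; group
  · rw [h.Y_conj root12, h.Y_conj root13]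
    have : Y f y x12 * Y f y x13 = Y f y x13 * Y f y x12 := h.comm1 L1_1213
    calc f c * Y f y x12 * (f c)⁻¹ * (f c * Y f y x13 * (f c)⁻¹) = f c * (Y f y x12 * Y f y x13) * (f c)⁻¹ := by group
      _ = _ := by rw [this]; group
  · rw [h.Y_conj root23, h.Y_conj root13]
    have : Y f y x23 * Y f y x13 = Y f y x13 * Y f y x23 := (h.comm3 L3_1323).symm
    calc f c * Y f y x23 * (f c)⁻¹ * (f c * Y f y x13 * (f c)⁻¹) = f c * (Y f y x23 * Y f y x13) * (f c)⁻¹ := by group
      _ = _ := by rw [this]; group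

/-- special pairs -/
theorem spec_Wd (h : Grow t f y) {r s q : A8} (hrs : Sp r s) (hq : r * s * r * s = q) :
    ∀ v ∈ Wd f y r, ∀ w ∈ Wd f y s, v * w * v⁻¹ * w⁻¹ ∈ Wd f y q := by
  have k1 := h.spec hrs
  have k2 := h.spec_r hrs
  have k3 := h.spec_s hrs
  obtain ⟨hr, hs, hqr, e1, e2, e3, e4⟩ := h.comm_base hrs
  rw [hq] at k1 k2 k3 hqr e1 e2 e3 e4
  have c1 := h.comm_Wd hr hqr e1 e3
  have c2 := h.comm_Wd hs hqr e2 e4
  have i1 : (f r)⁻¹ = f r := inv_eq_of_mul_eq_one_left (h.f_sq hr)
  have i2 : (f s)⁻¹ = f s := inv_eq_of_mul_eq_one_left (h.f_sq hs)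
  have i3 := h.Y_inv hr
  have i4 := h.Y_inv hs
  have m1 : f q ∈ Wd f y q := subset_closure (Or.inl rfl)
  have m2 : Y f y q ∈ Wd f y q := subset_closure (Or.inr rfl)
  apply comm_mem (fun a ha n hn => c1 a (subset_closure ha) n hn) (fun a ha n hn => c2 a (subset_closure ha) n hn)
  rintro a (rfl | rfl) b (rfl | rfl)
  · rw [i1, i2, ← map_mul, ← map_mul, ← map_mul, hq]; exact m1
  · rw [i1, i4, k2]; exact m2
  · rw [i3, i2, k3]; exact m2
  · rw [i3, i4]
    rcases k1 with k1 | k1
    · rw [k1]; exact m2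
    · rw [k1]; exact mul_mem m1 m2

end Grow

/-- the eight elements `⟨x14, x13, x24⟩` -/
def E3 : List A8 := [V0, V1, V4, V5, V10, V11, V14, V15]

/-- the subgroup `⟨x14, x13, x24⟩` -/
def S3 : Subgroup A8 where
  carrier := {x | x ∈ E3}
  one_mem' := by
    show (1 : A8) ∈ E3
    decide +kernel
  mul_mem' := by
    intro a b ha hb
    have := all_of (P := fun a => (E3.all fun b => decide (a * b ∈ E3)) = true) (L := E3) (by decide +kernel) a ha
    exact all_of (P := fun b => a * b ∈ E3) this b hb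
  inv_mem' := by
    intro a ha
    exact all_of (P := fun a => a⁻¹ ∈ E3) (L := E3) (by decide +kernel) a ha

/-- separating subgroups -/
def Ssep : ℕ → Subgroup A8
  | 0 => ⊥
  | 1 => centralizer {x34}
  | 2 => centralizer {x12}
  | 3 => S3
  | 4 => centralizer {x23}
  | _ => centralizer {x13}

theorem sep_mem {i k : ℕ} (hik : i < k) (hk : k < 6) : xr i ∈ Ssep k := by
  interval_cases k <;> interval_cases i
  all_goals first
    | exact mem_centralizer_singleton_iff.2 (by decide)
    | (show _ ∈ E3; decide +kernel)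

theorem sep_notMem {k : ℕ} (hk : k < 6) : xr k ∉ Ssep k := by
  interval_cases k
  · show x14 ∉ (⊥ : Subgroup A8)
    rw [Subgroup.mem_bot]
    decide
  · intro hx
    have := mem_centralizer_singleton_iff.1 hx
    revert this
    decide
  · intro hx
    have := mem_centralizer_singleton_iff.1 hx
    revert this
    decide
  · show ¬ (x23 ∈ E3)
    decide +kernel
  · intro hx
    have := mem_centralizer_singleton_iff.1 hx
    revert this
    decide
  · intro hx
    have := mem_centralizer_singleton_iff.1 hx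
    revert this
    decide

namespace Grow

variable {t : G} {f : A8 →* G} {y : G}

theorem W_le_map (_h : Grow t f y) {k : ℕ} (hk : k < 6) : W (fun i => Xd f (xr i)) k ≤ (Ssep k).map f := by
  refine iSup₂_le fun i hi => ?_
  unfold Xd
  rw [closure_le]
  rintro x rfl
  exact ⟨xr i, sep_mem hi hk, rfl⟩

/-- **the doubled root groups** -/
theorem dbl (h : Grow t f y) : Dbl t (fun i => Wd f y (xr i)) (fun i => Xd f (xr i)) 6 where
  tt := h.tt
  conj := by
    intro i _ v hv
    have hr := root_xr i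
    rw [h.mem_Wd hr] at hv ⊢
    rcases hv with rfl | rfl | rfl | rfl
    · left; rw [mul_one, h.tt]
    · right; left; exact h.tft _
    · right; right; right; exact h.tYt hr
    · right; right; left
      calc t * (f (xr i) * Y f y (xr i)) * t = (t * f (xr i) * t) * (t⁻¹ * Y f y (xr i) * t) := by group
        _ = (f (xr i) * f (xr i)) * Y f y (xr i) := by rw [h.tft, h.t_inv, h.tYt hr, mul_assoc]
        _ = Y f y (xr i) := by rw [h.f_sq hr, one_mul]
  sq := by
    intro i _ v hv
    have hr := root_xr i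
    rw [h.mem_Wd hr] at hv
    rcases hv with rfl | rfl | rfl | rfl
    · exact one_mul 1
    · exact h.f_sq hr
    · exact h.Y_sq hr
    · calc f (xr i) * Y f y (xr i) * (f (xr i) * Y f y (xr i))
          = f (xr i) * (Y f y (xr i) * f (xr i)) * Y f y (xr i) := by group
        _ = (f (xr i) * f (xr i)) * (Y f y (xr i) * Y f y (xr i)) := by rw [h.fY hr]; group
        _ = 1 := by rw [h.f_sq hr, h.Y_sq hr, one_mul]
  fix := by
    intro i _ v hv hf
    have hr := root_xr i
    have hne : f (xr i) ≠ 1 := fun e => hr.ne_one (h.inj (e.trans (map_one f).symm))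
    rw [h.mem_Wd hr] at hv
    rw [h.mem_Xd hr]
    rcases hv with rfl | rfl | rfl | rfl
    · exact Or.inl rfl
    · exact Or.inr rfl
    · rw [h.tYt hr] at hf
      exact absurd (mul_eq_right.1 hf) hne
    · exfalso
      apply hne
      have e : t * (f (xr i) * Y f y (xr i)) * t = Y f y (xr i) := by
        calc t * (f (xr i) * Y f y (xr i)) * t = (t * f (xr i) * t) * (t⁻¹ * Y f y (xr i) * t) := by group
          _ = (f (xr i) * f (xr i)) * Y f y (xr i) := by rw [h.tft, h.t_inv, h.tYt hr, mul_assoc]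
          _ = Y f y (xr i) := by rw [h.f_sq hr, one_mul]
      rw [e] at hf
      exact mul_eq_right.1 hf.symm
  X_le := by
    intro i _ v hv
    have hr := root_xr i
    rw [h.mem_Xd hr] at hv
    rw [h.mem_Wd hr]
    rcases hv with rfl | rfl
    · exact Or.inl rfl
    · exact Or.inr (Or.inl rfl)
  X_fix := by
    intro i _ v hv
    have hr := root_xr i
    rw [h.mem_Xd hr] at hv
    rcases hv with rfl | rfl
    · rw [mul_one, h.tt]
    · exact h.tft _
  free := by
    intro i _ v hv
    have hr := root_xr i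
    rw [h.mem_Xd hr] at hv
    rcases hv with rfl | rfl
    · exact ⟨1, one_mem _, by rw [mul_one, h.tt, inv_one, one_mul]⟩
    · exact ⟨Y f y (xr i), (h.mem_Wd hr).2 (Or.inr (Or.inr (Or.inl rfl))), by rw [h.tYt hr, mul_inv_cancel_right]⟩
  comm := by
    intro i j hij hj
    have hcom : ∀ {r s : A8} (K : Subgroup G), Root r → Root s → r * s = s * r → Y f y r * Y f y s = Y f y s * Y f y r →
        ∀ v ∈ Wd f y r, ∀ w ∈ Wd f y s, v * w * v⁻¹ * w⁻¹ ∈ K := by
      intro r s K hr hs hrs hY v hv w hw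
      rw [h.comm_Wd hr hs hrs hY v hv w hw, mul_inv_cancel_right, mul_inv_cancel]
      exact one_mem _
    have hsp : ∀ {r s q : A8}, Sp r s → r * s * r * s = q → ∀ v ∈ Wd f y s, ∀ w ∈ Wd f y r,
        v * w * v⁻¹ * w⁻¹ ∈ Wd f y q := by
      intro r s q hrs hq v hv w hw
      have := inv_mem (h.spec_Wd hrs hq w hw v hv)
      have e : (w * v * w⁻¹ * v⁻¹)⁻¹ = v * w * v⁻¹ * w⁻¹ := by group
      rwa [e] at this
    have hW : ∀ {i k : ℕ}, i < k → Wd f y (xr i) ≤ W (fun i => Wd f y (xr i)) k := fun h => le_W (fun i => Wd f y (xr i)) h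
    interval_cases j
    · omega
    · interval_cases i
      exact hcom _ root14 root13 (by decide) (h.comm1 L1_base)
    · interval_cases i
      · exact hcom _ root14 root24 (by decide) (h.comm3 L3_base)
      · exact hcom _ root13 root24 (by decide) (h.orth Or_1324)
    · interval_cases i
      · exact hcom _ root14 root23 (by decide) (h.orth Or_1423)
      · exact hcom _ root13 root23 (by decide) (h.comm3 L3_1323)
      · exact hcom _ root24 root23 (by decide) (h.comm1 L1_2423)
    · interval_cases i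
      · exact hcom _ root14 root12 (by decide) (h.comm1 L1_1412)
      · exact hcom _ root13 root12 (by decide) (h.comm1 L1_1312)
      · exact fun v hv w hw => hW (by norm_num : 0 < 2) (hsp Sp_1224 (by decide) v hv w hw)
      · exact fun v hv w hw => hW (by norm_num : 1 < 3) (hsp Sp_1223 (by decide) v hv w hw)
    · interval_cases i
      · exact hcom _ root14 root34 (by decide) (h.comm3 L3_1434)
      · exact fun v hv w hw => hW (by norm_num : 0 < 1) (h.spec_Wd Sp_1334 (by decide) v hv w hw)
      · exact hcom _ root24 root34 (by decide) (h.comm3 L3_2434)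
      · exact fun v hv w hw => hW (by norm_num : 2 < 3) (h.spec_Wd Sp_2334 (by decide) v hv w hw)
      · exact hcom _ root12 root34 (by decide) (h.orth Or_1234)
  indep := by
    intro k hk
    rw [eq_bot_iff]
    rintro x ⟨hx, hW⟩
    rw [Subgroup.mem_bot]
    rcases (h.mem_Xd (root_xr k)).1 hx with rfl | rfl
    · rfl
    · exfalso
      obtain ⟨a, ha, e⟩ := h.W_le_map hk hW
      rw [h.inj e] at ha
      exact sep_notMem hk ha

end Grow

end Cfsg.Agent.OddHalf.D5.Eight.Gr

end

-- merged: Cfsg.Agent.OddHalf.D5.EightGrowA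
section

/-!
# ODD D5, `n = 8`: the growth, 5 (helper432): `growA8`

`C_G(t) = ⟨t⟩ × A₈` together with the swap `y` gives a subgroup of index 2 of `G` not containing `t`.
-/

set_option autoImplicit false

namespace Cfsg.Agent.OddHalf.D5.Eight.Gr

open Subgroup Equiv Cfsg.Agent.Doubling.Growth

variable {G : Type*} [Group G]

theorem card_subgroupOf' {H K : Subgroup G} (h : H ≤ K) : Nat.card (H.subgroupOf K) = Nat.card H :=
  Nat.card_congr (Subgroup.subgroupOfEquivOfLe h).toEquiv

theorem card_mul_relIndex' {H K : Subgroup G} (h : H ≤ K) : Nat.card H * H.relIndex K = Nat.card K := by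
  rw [Subgroup.relIndex, ← card_subgroupOf' h]
  exact Subgroup.card_mul_index _

/-- `|K H| = |K| |H|` -/
theorem card_sup_eq [Finite G] {K H : Subgroup G} (h : H ≤ normalizer (K : Set G)) (hd : K ⊓ H = ⊥) :
    Nat.card (K ⊔ H : Subgroup G) = Nat.card K * Nat.card H := by
  have hKn : (K.subgroupOf (K ⊔ H)).Normal :=
    normal_subgroupOf_of_le_normalizer (sup_le le_normalizer h)
  have h1 := relIndex_sup_left (H.subgroupOf (K ⊔ H)) (K.subgroupOf (K ⊔ H))
  rw [← Subgroup.subgroupOf_sup le_sup_left le_sup_right, Subgroup.subgroupOf_self,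
    Subgroup.relIndex_subgroupOf le_sup_right, relIndex_top_right] at h1
  have h2 : Nat.card K * K.relIndex H = Nat.card (K ⊔ H : Subgroup G) := by
    rw [← h1]
    exact card_mul_relIndex' le_sup_left
  have h3 : Nat.card (K ⊓ H : Subgroup G) * K.relIndex H = Nat.card H := by
    rw [← inf_relIndex_right]
    exact card_mul_relIndex' inf_le_right
  rw [hd, Subgroup.card_bot, one_mul] at h3
  rw [← h2, h3]

/-- orders along a `Dbl` -/
theorem card_W [Finite G] {t : G} {V X : ℕ → Subgroup G} {n : ℕ} (h : Dbl t V X n) (hX : ∀ i < n, Nat.card (X i) = 2) :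
    ∀ k ≤ n, Nat.card (W X k) = 2 ^ k := by
  intro k
  induction k with
  | zero =>
    intro _
    rw [W_zero, Subgroup.card_bot, pow_zero]
  | succ k ih =>
    intro hk
    have hk' : k < n := hk
    rw [W_succ, card_sup_eq, ih hk'.le, hX k hk', pow_succ]
    · have key : ∀ x ∈ X k, ∀ w ∈ W X k, x * w * x⁻¹ ∈ W X k := by
        intro x hx w hw
        have h1 := (h.mem_U_iff hk'.le).1 hw
        refine (h.mem_U_iff hk'.le).2 ⟨h.normal le_rfl hk' (h.X_le k hk' hx) h1.1, ?_⟩
        rw [h.conj_mul, h.conj_mul, h.conj_inv, h.X_fix k hk' x hx, h1.2]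
      intro x hx
      rw [mem_normalizer_iff]
      intro w
      refine ⟨fun hw => key x hx w hw, fun hw => ?_⟩
      have h2 := key x⁻¹ (inv_mem hx) _ hw
      have e : x⁻¹ * (x * w * x⁻¹) * x⁻¹⁻¹ = w := by group
      rwa [e] at h2
    · rw [inf_comm]
      exact h.indep k hk'

theorem x14_coe : (x14 : Perm (Fin 8)) = z0 := by decide +kernel

/-- both cases -/
theorem Grow.of {t : G} {A : Subgroup (Perm (Fin 8))} {ι : A →* G} {y : G} (h : Spl t A ι) (s : Swp t A ι y)
    (hA : A8 ≤ A) : Grow t (ι.comp (Subgroup.inclusion hA)) y where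
  tt := h.tt
  t1 := h.t1
  inj := h.inj.comp (Subgroup.inclusion_injective hA)
  comm := fun a => h.comm _
  ne := fun a => h.ne _
  cent := by
    intro g hg
    have key : ∀ a : A, (∀ b : A8, ι a * ι (Subgroup.inclusion hA b) = ι (Subgroup.inclusion hA b) * ι a →
        (a : Perm (Fin 8)) * b = b * a) := by
      intro a b hb
      rw [← map_mul, ← map_mul] at hb
      exact congrArg Subtype.val (h.inj hb)
    have hinc : ∀ (a : A) (hp : (a : Perm (Fin 8)) ∈ A8), Subgroup.inclusion hA ⟨a, hp⟩ = a := fun a hp => rfl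
    rcases h.cent g hg with ⟨a, rfl⟩ | ⟨a, rfl⟩
    · refine ⟨a, fun b hb => key a b hb, fun hp => Or.inl ?_⟩
      rw [MonoidHom.comp_apply, hinc]
    · refine ⟨a, fun b hb => key a b ?_, fun hp => Or.inr ?_⟩
      · have hb' : t * ι a * ι (Subgroup.inclusion hA b) = ι (Subgroup.inclusion hA b) * (t * ι a) := hb
        apply mul_left_cancel (a := t)
        calc t * (ι a * ι (Subgroup.inclusion hA b)) = ι (Subgroup.inclusion hA b) * (t * ι a) := by
              rw [← mul_assoc, hb']
          _ = (ι (Subgroup.inclusion hA b) * t) * ι a := by group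
          _ = t * (ι (Subgroup.inclusion hA b) * ι a) := by rw [← h.comm]; group
      · rw [MonoidHom.comp_apply, hinc]
  yy := s.yy
  yt := s.yt _ x14_coe
  yc := by
    intro a ha
    apply s.yc
    have := congrArg Subtype.val ha
    rw [Subgroup.coe_mul, Subgroup.coe_mul, x14_coe] at this
    exact this

/-- `|C_G(t)| = 2 |A|` -/
theorem card_cent {t : G} {A : Subgroup (Perm (Fin 8))} {ι : A →* G} (h : Spl t A ι) :
    Nat.card (centralizer ({t} : Set G)) = 2 * Nat.card A := by
  have hmem : ∀ (b : Bool) (a : A), (cond b (t * ι a) (ι a)) ∈ centralizer ({t} : Set G) := by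
    intro b a
    rw [mem_centralizer_singleton_iff]
    cases b
    · exact (h.comm a).symm
    · show t * ι a * t = t * (t * ι a)
      rw [mul_assoc, ← h.comm]
  have hbij : Function.Bijective (fun x : Bool × A => (⟨cond x.1 (t * ι x.2) (ι x.2), hmem x.1 x.2⟩ :
      centralizer ({t} : Set G))) := by
    constructor
    · rintro ⟨b, a⟩ ⟨b', a'⟩ e
      have e1 : cond b (t * ι a) (ι a) = cond b' (t * ι a') (ι a') := congrArg Subtype.val e
      cases b <;> cases b'
      · rw [h.inj (show ι a = ι a' from e1)]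
      · exact absurd e1 (h.tne a a')
      · exact absurd e1.symm (h.tne a' a)
      · rw [h.inj (mul_left_cancel (show t * ι a = t * ι a' from e1))]
    · rintro ⟨g, hg⟩
      rcases h.cent g (mem_centralizer_singleton_iff.1 hg) with ⟨a, rfl⟩ | ⟨a, rfl⟩
      · exact ⟨(false, a), rfl⟩
      · exact ⟨(true, a), rfl⟩
  rw [← Nat.card_congr (Equiv.ofBijective _ hbij), Nat.card_prod, Nat.card_eq_fintype_card, Fintype.card_bool]

theorem card_A8 : Nat.card A8 = 2 ^ 6 * 315 := by
  have h1 : 2 * Nat.card A8 = Nat.card (Perm (Fin 8)) := two_mul_nat_card_alternatingGroup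
  rw [Nat.card_perm, Nat.card_eq_fintype_card (α := Fin 8), Fintype.card_fin] at h1
  have h2 : Nat.factorial 8 = 2 * (2 ^ 6 * 315) := by decide
  rw [h2] at h1
  exact Nat.eq_of_mul_eq_mul_left (by norm_num) h1

theorem card_Xd {t : G} {f : A8 →* G} {y : G} (h : Grow t f y) {r : A8} (hr : Root r) : Nat.card (Xd f r) = 2 := by
  unfold Xd
  rw [← zpowers_eq_closure, Nat.card_zpowers]
  refine orderOf_eq_prime (p := 2) (by rw [pow_two]; exact h.f_sq hr) ?_
  exact fun e => hr.ne_one (h.inj (e.trans (map_one f).symm))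

namespace Grow

variable {t : G} {f : A8 →* G} {y : G}

theorem W_le_range (_h : Grow t f y) (k : ℕ) : W (fun i => Xd f (xr i)) k ≤ f.range := by
  refine iSup₂_le fun i _ => ?_
  unfold Xd
  rw [closure_le]
  rintro x rfl
  exact ⟨xr i, rfl⟩

theorem t_notMem (h : Grow t f y) : t ∉ W (fun i => Xd f (xr i)) 6 := by
  intro ht
  obtain ⟨a, ha⟩ := h.W_le_range 6 ht
  exact h.ne a ha

theorem card_U [Finite G] (h : Grow t f y) : Nat.card (W (fun i => Xd f (xr i)) 6) = 2 ^ 6 :=
  card_W h.dbl (fun i _ => card_Xd h (root_xr i)) 6 le_rfl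

theorem card_UT [Finite G] (h : Grow t f y) :
    Nat.card (W (fun i => Xd f (xr i)) 6 ⊔ zpowers t : Subgroup G) = 2 ^ 7 := by
  rw [card_sup_eq, h.card_U, Nat.card_zpowers, orderOf_eq_prime (p := 2) (by rw [pow_two]; exact h.tt) h.t1]
  · norm_num
  · rw [zpowers_le, mem_normalizer_iff]
    have key : ∀ w ∈ W (fun i => Xd f (xr i)) 6, t * w * t⁻¹ = w := by
      intro w hw
      rw [h.t_inv]
      exact h.dbl.U_fix le_rfl hw
    intro w
    constructor
    · intro hw
      rwa [key w hw]
    · intro hw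
      have e := key _ hw
      rw [mul_inv_eq_iff_eq_mul] at e
      have e2 : t * w * t⁻¹ = w := by
        have := mul_left_cancel (a := t) (b := t * w * t⁻¹) (c := w) (by rw [e]; group)
        exact this
      rwa [e2] at hw
  · rw [eq_bot_iff]
    rintro x ⟨hx, hz⟩
    rw [Subgroup.mem_bot]
    obtain ⟨n, rfl⟩ := mem_zpowers_iff.1 hz
    rcases Int.even_or_odd n with ⟨m, rfl⟩ | ⟨m, rfl⟩
    · rw [← two_mul, zpow_mul, zpow_ofNat, pow_two, h.tt, one_zpow]
    · exfalso
      apply h.t_notMem
      rwa [zpow_add, zpow_mul, zpow_ofNat, pow_two, h.tt, one_zpow, one_mul, zpow_one] at hx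

end Grow

/-- **Growth, case `C_G(t) = ⟨t⟩ × A₈`.** -/
theorem growA8 [Finite G] {t : G} {ι : A8 →* G} {y : G} (h : Spl t A8 ι) (s : Swp t A8 ι y) :
    ∃ m : G →* ℤˣ, m t = -1 := by
  have g := Grow.of h s le_rfl
  apply g.dbl.exists_hom g.t_notMem
  have h1 := card_mul_relIndex' (H := W (fun i => Xd (ι.comp (Subgroup.inclusion le_rfl)) (xr i)) 6 ⊔ zpowers t)
    (K := centralizer ({t} : Set G)) (by
      apply sup_le
      · intro w hw
        rw [mem_centralizer_singleton_iff]
        have := g.dbl.U_fix le_rfl hw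
        calc w * t = (t * w * t) * t := by rw [this]
          _ = t * w * (t * t) := by group
          _ = t * w := by rw [h.tt, mul_one]
      · rw [zpowers_le, mem_centralizer_singleton_iff])
  rw [g.card_UT, card_cent h, card_A8] at h1
  have h2 : (W (fun i => Xd (ι.comp (Subgroup.inclusion le_rfl)) (xr i)) 6 ⊔ zpowers t).relIndex
      (centralizer ({t} : Set G)) = 315 := by omega
  rw [h2]
  decide

end Cfsg.Agent.OddHalf.D5.Eight.Gr

end
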