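import Mathlib
import Cfsg.Agent.OddHalf.D5.EightGrowA

-- merged: Cfsg.Agent.OddHalf.D5.AbelEight
section

/-!
# Abelian permutation groups of degree 8 (helper647)

* `card_pow_three_le` : an abelian permutation group `E` moving only points of `S` satisfies `|E|³ ≤ 3^|S|`;
* `card_abel` : an abelian subgroup of the symmetric group of degree 8 has order at most 18.
-/

set_option autoImplicit false

namespace Cfsg.Agent.OddHalf.D5.Eight.Gr

open Subgroup Equiv MulAction

theorem pow_three_le (m : ℕ) (hm : 1 ≤ m) : m ^ 3 ≤ 3 ^ m := by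
  rcases Nat.lt_or_ge m 3 with h | h
  · interval_cases m <;> norm_num
  · induction m, h using Nat.le_induction with
    | base => norm_num
    | succ n hn ih =>
      have h1 := ih (by omega)
      have h2 : (n + 1) ^ 3 ≤ 3 * n ^ 3 := by nlinarith [sq_nonneg n, mul_le_mul hn hn (by omega) (by omega)]
      calc (n + 1) ^ 3 ≤ 3 * n ^ 3 := h2
        _ ≤ 3 * 3 ^ n := by omega
        _ = 3 ^ (n + 1) := by ring

theorem card_pow_three_le {α : Type*} [Finite α] [DecidableEq α] (k : ℕ) :
    ∀ (S : Finset α) (_ : S.card = k) (E : Subgroup (Perm α)) (_ : ∀ x ∈ E, ∀ y ∈ E, x * y = y * x)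
      (_ : ∀ x ∈ E, ∀ i, i ∉ S → x i = i), Nat.card E ^ 3 ≤ 3 ^ S.card := by
  induction k using Nat.strong_induction_on with
  | _ k ih =>
    intro S hS E hE hfix
    rcases S.eq_empty_or_nonempty with h0 | ⟨i, hi⟩
    · have : E = ⊥ := by
        rw [eq_bot_iff]
        intro x hx
        rw [mem_bot]
        ext j
        rw [hfix x hx j (by simp [h0]), Perm.one_apply]
      rw [this, h0]
      simp
    · classical
      have hO : ∀ j ∈ orbit E i, j ∈ S := by
        rintro _ ⟨⟨x, hx⟩, rfl⟩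
        by_contra hj
        have h1 : x i ∉ S := hj
        have h2 := hfix x hx _ h1
        have h3 : x i = i := x.injective h2
        rw [h3] at h1
        exact h1 hi
      have hfin : (orbit E i).Finite := Set.toFinite _
      set O : Finset α := hfin.toFinset with hOdef
      have hOS : O ⊆ S := fun j hj => hO j (hfin.mem_toFinset.1 hj)
      have hiO : i ∈ O := hfin.mem_toFinset.2 (mem_orbit_self i)
      set E' : Subgroup (Perm α) := (stabilizer E i).map E.subtype with hE'
      have hcard' : Nat.card E' = Nat.card (stabilizer E i) :=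
        Nat.card_congr (Subgroup.equivMapOfInjective _ _ E.subtype_injective).toEquiv.symm
      have hle : E' ≤ E := by
        rintro _ ⟨x, _, rfl⟩
        exact x.2
      have hcO : (stabilizer E i).index = O.card := by
        rw [MulAction.index_stabilizer, Set.ncard_eq_toFinset_card _ hfin]
      have hmul : Nat.card E = Nat.card E' * O.card := by
        rw [hcard', ← hcO, Subgroup.card_mul_index]
      have hfix' : ∀ x ∈ E', ∀ j, j ∉ S \ O → x j = j := by
        rintro _ ⟨x, hx, rfl⟩ j hj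
        rw [Finset.mem_sdiff, not_and_not_right] at hj
        by_cases hjS : j ∈ S
        · obtain ⟨⟨g, hg⟩, hgj⟩ := hfin.mem_toFinset.1 (hj hjS)
          have hgj' : g i = j := hgj
          have hxi : (x : Perm α) i = i := hx
          have h1 := hE x x.2 g hg
          have h2 : (x : Perm α) (g i) = g ((x : Perm α) i) := by
            rw [← Perm.mul_apply, ← Perm.mul_apply, h1]
          rw [hgj', hxi, hgj'] at h2
          exact h2
        · exact hfix x x.2 j hjS
      have hlt : (S \ O).card < k := by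
        rw [← hS]
        apply Finset.card_lt_card
        rw [Finset.ssubset_iff_of_subset Finset.sdiff_subset]
        exact ⟨i, hi, fun h => (Finset.mem_sdiff.1 h).2 hiO⟩
      have h1 := ih _ hlt (S \ O) rfl E' (fun x hx y hy => hE x (hle hx) y (hle hy)) hfix'
      have h2 := pow_three_le O.card (Finset.card_pos.2 ⟨i, hiO⟩)
      have h3 : (S \ O).card + O.card = S.card := by
        rw [Finset.card_sdiff_of_subset hOS]
        exact Nat.sub_add_cancel (Finset.card_le_card hOS)
      calc Nat.card E ^ 3 = Nat.card E' ^ 3 * O.card ^ 3 := by rw [hmul, mul_pow]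
        _ ≤ 3 ^ (S \ O).card * 3 ^ O.card := Nat.mul_le_mul h1 h2
        _ = 3 ^ S.card := by rw [← pow_add, h3]

/-- abelian permutation groups of degree 8 have order at most 18 -/
theorem card_abel (E : Subgroup (Perm (Fin 8))) (hE : ∀ x ∈ E, ∀ y ∈ E, x * y = y * x) : Nat.card E ≤ 18 := by
  have h := card_pow_three_le 8 (Finset.univ : Finset (Fin 8)) (by simp) E hE
    (fun x _ i hi => absurd (Finset.mem_univ i) hi)
  rw [Finset.card_univ, Fintype.card_fin] at h
  by_contra hc
  have h1 : 19 ≤ Nat.card E := by omega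
  have h2 : 19 ^ 3 ≤ Nat.card E ^ 3 := Nat.pow_le_pow_left h1 3
  have h3 : (19 : ℕ) ^ 3 ≤ 3 ^ 8 := h2.trans h
  norm_num at h3

end Cfsg.Agent.OddHalf.D5.Eight.Gr

end

-- merged: Cfsg.Agent.OddHalf.D5.EightGrowS
section

/-!
# ODD D5, `n = 8`: the growth, 6 (helper432): `growS8`

`C_G(t) = ⟨t⟩ × S₈` together with the swap `y` gives a subgroup of index 2 of `G` not containing `t`:
`H = P^⟨g, t⟩`, `g` the graph automorphism (a transposition), `λ(t) = λ(g) = -1`; `g P^` contains no conjugate of `t`, because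
`C_{V^}(g)` has order 64 and `⟨t⟩ × S₈` has no abelian subgroup of order 64.
-/

set_option autoImplicit false

namespace Cfsg.Agent.OddHalf.D5.Eight.Gr

open Subgroup Equiv Cfsg.Agent.Doubling.Growth

variable {G : Type*} [Group G]

/-! ### The extension of a subgroup by an involution, with its sign -/

/-- `N ∪ a N` -/
def ext (N : Subgroup G) (a : G) (ha : a * a = 1) (hn : ∀ n ∈ N, a * n * a ∈ N) : Subgroup G where
  carrier := {x | x ∈ N ∨ a * x ∈ N}
  one_mem' := Or.inl (one_mem _)
  mul_mem' := by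
    rintro x z (hx | hx) (hz | hz)
    · exact Or.inl (mul_mem hx hz)
    · right
      have h1 := mul_mem (hn _ hx) hz
      have h2 : a * x * a * (a * z) = a * (x * z) := by
        calc a * x * a * (a * z) = a * x * (a * a) * z := by group
          _ = a * (x * z) := by rw [ha]; group
      rwa [h2] at h1
    · right
      have h1 := mul_mem hx hz
      rwa [mul_assoc] at h1
    · left
      have h1 := mul_mem (hn _ hx) hz
      have h2 : a * (a * x) * a * (a * z) = x * z := by
        calc a * (a * x) * a * (a * z) = (a * a) * x * (a * a) * z := by group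
          _ = x * z := by rw [ha]; group
      rwa [h2] at h1
  inv_mem' := by
    rintro x (hx | hx)
    · exact Or.inl (inv_mem hx)
    · right
      have h1 := hn _ (inv_mem hx)
      have ai : a⁻¹ = a := inv_eq_of_mul_eq_one_left ha
      rw [mul_inv_rev, ai] at h1
      have h2 : a * (x⁻¹ * a) * a = a * x⁻¹ := by
        calc a * (x⁻¹ * a) * a = a * x⁻¹ * (a * a) := by group
          _ = a * x⁻¹ := by rw [ha, mul_one]
      rwa [h2] at h1

theorem mem_ext {N : Subgroup G} {a : G} {ha : a * a = 1} {hn : ∀ n ∈ N, a * n * a ∈ N} {x : G} :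
    x ∈ ext N a ha hn ↔ x ∈ N ∨ a * x ∈ N := Iff.rfl

open Classical in
/-- the sign with kernel `N` -/
noncomputable def sgn (N : Subgroup G) (a : G) (ha : a * a = 1) (hn : ∀ n ∈ N, a * n * a ∈ N) (_haN : a ∉ N) :
    ext N a ha hn →* ℤˣ where
  toFun x := if (x : G) ∈ N then 1 else -1
  map_one' := if_pos (one_mem _)
  map_mul' := by
    rintro ⟨x, hx⟩ ⟨z, hz⟩
    have key : ∀ g ∈ ext N a ha hn, g ∉ N → a * g ∈ N := fun g hg hn => hg.resolve_left hn
    simp only [MulMemClass.mk_mul_mk]
    by_cases h1 : x ∈ N <;> by_cases h2 : z ∈ N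
    · rw [if_pos h1, if_pos h2, if_pos (mul_mem h1 h2), one_mul]
    · have h3 : x * z ∉ N := fun hn => h2 (by
        have := mul_mem (inv_mem h1) hn
        rwa [inv_mul_cancel_left] at this)
      rw [if_pos h1, if_neg h2, if_neg h3, one_mul]
    · have h3 : x * z ∉ N := fun hn => h1 (by
        have := mul_mem hn (inv_mem h2)
        rwa [mul_inv_cancel_right] at this)
      rw [if_neg h1, if_pos h2, if_neg h3, mul_one]
    · have h4 := key x hx h1
      have h5 := key z hz h2
      have h6 := mul_mem (hn _ h4) h5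
      have h7 : a * (a * x) * a * (a * z) = x * z := by
        calc a * (a * x) * a * (a * z) = (a * a) * x * (a * a) * z := by group
          _ = x * z := by rw [ha]; group
      rw [h7] at h6
      rw [if_neg h1, if_neg h2, if_pos h6]
      rfl

theorem sgn_apply {N : Subgroup G} {a : G} {ha : a * a = 1} {hn : ∀ n ∈ N, a * n * a ∈ N} (haN : a ∉ N)
    (x : ext N a ha hn) : sgn N a ha hn haN x = -1 ↔ (x : G) ∉ N := by
  classical
  show (if (x : G) ∈ N then (1 : ℤˣ) else -1) = -1 ↔ _
  by_cases h1 : (x : G) ∈ N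
  · rw [if_pos h1]
    exact ⟨fun h => absurd h (by decide), fun h => absurd h1 h⟩
  · rw [if_neg h1]
    exact ⟨fun _ => h1, fun _ => rfl⟩

/-! ### Unique decomposition in a `Dbl` -/

theorem inf_W {t : G} {V X : ℕ → Subgroup G} {n : ℕ} (h : Dbl t V X n) {k : ℕ} (hk : k < n) {v : G} (hv : v ∈ V k)
    (hw : v ∈ W V k) : v = 1 := by
  have hX : ∀ v ∈ V k, v ∈ W V k → t * v * t = v → v = 1 := by
    intro v hv hw hf
    have h3 : v ∈ X k ⊓ W X k := ⟨h.fix k hk v hv hf, (h.main k hk.le).1 v hw hf⟩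
    rw [h.indep k hk] at h3
    exact Subgroup.mem_bot.1 h3
  have hv' := h.conj k hk v hv
  have hw' := h.conj_W hk.le hw
  have hcomm : ∀ a ∈ V k, ∀ b ∈ V k, a * b = b * a := fun a ha b hb =>
    comm_of_sq (h.sq k hk a ha) (h.sq k hk b hb) (h.sq k hk (a * b) (mul_mem ha hb))
  have e : v * (t * v * t) = 1 := by
    apply hX _ (mul_mem hv hv') (mul_mem hw hw')
    rw [h.conj_mul, h.conj_conj]
    exact hcomm _ hv' _ hv
  have e1 : t * v * t = v := by
    have e2 := h.sq k hk v hv
    exact mul_left_cancel (e.trans e2.symm)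
  exact hX v hv hw e1

theorem uniq {t : G} {V X : ℕ → Subgroup G} {n : ℕ} (h : Dbl t V X n) {k : ℕ} (hk : k < n) {u v u' v' : G}
    (hu : u ∈ W V k) (hv : v ∈ V k) (hu' : u' ∈ W V k) (hv' : v' ∈ V k) (e : u * v = u' * v') : u = u' ∧ v = v' := by
  have e1 : v * v'⁻¹ = u⁻¹ * u' := by
    rw [eq_inv_mul_iff_mul_eq, ← mul_assoc, e, mul_inv_cancel_right]
  have e2 : v * v'⁻¹ = 1 := inf_W h hk (mul_mem hv (inv_mem hv')) (by rw [e1]; exact mul_mem (inv_mem hu) hu')
  have e3 : v = v' := mul_inv_eq_one.1 e2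
  refine ⟨?_, e3⟩
  rw [e3] at e
  exact mul_right_cancel e

/-! ### The transposition -/

/-- the permutation of the indices -/
def pii : ℕ → ℕ
  | 1 => 2
  | 2 => 1
  | 4 => 5
  | 5 => 4
  | n => n

theorem phi_xr {i : ℕ} (hi : i < 6) : phi (xr i) = xr (pii i) := by
  interval_cases i
  · exact phi14
  · exact phi13
  · exact phi24
  · exact phi23
  · exact phi12
  · exact phi34

theorem pii_lt {i : ℕ} (hi : i < 6) : pii i < 6 := by
  interval_cases i <;> decide

theorem pii_lt4 {i : ℕ} (hi : i < 4) : pii i < 4 := by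
  interval_cases i <;> decide

/-- An involution acting as the graph automorphism. -/
structure Gra (t : G) (f : A8 →* G) (y g : G) : Prop where
  gg : g * g = 1
  gt : g * t = t * g
  gy : g * y = y * g
  gf : ∀ a, g * f a * g = f (phi a)
  gA : ∀ a, g ≠ f a
  gtA : ∀ a, t * g ≠ f a

namespace Gra

variable {t : G} {f : A8 →* G} {y g : G}

theorem gY (k : Gra t f y g) (h : Grow t f y) {r : A8} (hr : Root r) : g * Y f y r * g = Y f y (phi r) := by
  obtain ⟨a, rfl⟩ := hr
  rw [map_mul, map_mul, map_inv, phi14, h.Y_eq, h.Y_eq]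
  have e : (f (phi a))⁻¹ = g * (f a)⁻¹ * g := by
    rw [← k.gf, mul_inv_rev, mul_inv_rev, inv_eq_of_mul_eq_one_left k.gg]
    group
  rw [e, ← k.gf]
  calc g * (f a * y * (f a)⁻¹) * g = g * f a * (g * g) * y * (g * g) * (f a)⁻¹ * g := by rw [k.gg]; group
    _ = g * f a * g * (g * y) * g * (g * (f a)⁻¹ * g) := by group
    _ = g * f a * g * y * (g * g) * (g * (f a)⁻¹ * g) := by rw [k.gy]; group
    _ = g * f a * g * y * (g * (f a)⁻¹ * g) := by rw [k.gg]; group

theorem gW (k : Gra t f y g) (h : Grow t f y) {r : A8} (hr : Root r) {v : G} (hv : v ∈ Wd f y r) :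
    g * v * g ∈ Wd f y (phi r) := by
  rw [h.mem_Wd hr] at hv
  rw [h.mem_Wd hr.phi]
  rcases hv with rfl | rfl | rfl | rfl
  · left; rw [mul_one, k.gg]
  · right; left; exact k.gf r
  · right; right; left; exact k.gY h hr
  · right; right; right
    calc g * (f r * Y f y r) * g = g * f r * (g * g) * Y f y r * g := by rw [k.gg]; group
      _ = (g * f r * g) * (g * Y f y r * g) := by group
      _ = f (phi r) * Y f y (phi r) := by rw [k.gf, k.gY h hr]

theorem g_inv (k : Gra t f y g) : g⁻¹ = g := inv_eq_of_mul_eq_one_left k.gg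

theorem gN (k : Gra t f y g) (h : Grow t f y) {n : ℕ} (hn : n ≤ 6) (hp : ∀ i < n, pii i < n) {w : G}
    (hw : w ∈ W (fun i => Wd f y (xr i)) n) : g * w * g ∈ W (fun i => Wd f y (xr i)) n := by
  have hle : W (fun i => Wd f y (xr i)) n ≤ (W (fun i => Wd f y (xr i)) n).comap (MulAut.conj g).toMonoidHom := by
    refine iSup₂_le fun i hi v hv => ?_
    show g * v * g⁻¹ ∈ W (fun i => Wd f y (xr i)) n
    rw [k.g_inv]
    have h1 := k.gW h (root_xr i) hv
    rw [phi_xr (lt_of_lt_of_le hi hn)] at h1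
    exact le_W (fun i => Wd f y (xr i)) (hp i hi) h1
  have h1 : g * w * g⁻¹ ∈ W (fun i => Wd f y (xr i)) n := hle hw
  rwa [k.g_inv] at h1

end Gra

namespace Grow

variable {t : G} {f : A8 →* G} {y : G}

theorem commV (h : Grow t f y) {i j : ℕ} (hi : i < 4) (hj : j < 4) :
    ∀ v ∈ Wd f y (xr i), ∀ w ∈ Wd f y (xr j), v * w = w * v := by
  have hs : ∀ {r s : A8}, Root r → Root s → r * s = s * r → Y f y r * Y f y s = Y f y s * Y f y r →
      (∀ v ∈ Wd f y r, ∀ w ∈ Wd f y s, v * w = w * v) ∧ (∀ v ∈ Wd f y s, ∀ w ∈ Wd f y r, v * w = w * v) :=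
    fun hr hs e1 e2 => ⟨h.comm_Wd hr hs e1 e2, h.comm_Wd hs hr e1.symm e2.symm⟩
  have a01 := hs root14 root13 (by decide) (h.comm1 L1_base)
  have a02 := hs root14 root24 (by decide) (h.comm3 L3_base)
  have a12 := hs root13 root24 (by decide) (h.orth Or_1324)
  have a03 := hs root14 root23 (by decide) (h.orth Or_1423)
  have a13 := hs root13 root23 (by decide) (h.comm3 L3_1323)
  have a23 := hs root24 root23 (by decide) (h.comm1 L1_2423)
  interval_cases i <;> interval_cases j
  · exact h.comm_Wd root14 root14 rfl rfl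
  · exact a01.1
  · exact a02.1
  · exact a03.1
  · exact a01.2
  · exact h.comm_Wd root13 root13 rfl rfl
  · exact a12.1
  · exact a13.1
  · exact a02.2
  · exact a12.2
  · exact h.comm_Wd root24 root24 rfl rfl
  · exact a23.1
  · exact a03.2
  · exact a13.2
  · exact a23.2
  · exact h.comm_Wd root23 root23 rfl rfl

/-- `V^` is abelian -/
theorem comm4 (h : Grow t f y) : ∀ v ∈ W (fun i => Wd f y (xr i)) 4, ∀ w ∈ W (fun i => Wd f y (xr i)) 4, v * w = w * v := by
  have h1 : ∀ i < 4, ∀ v ∈ Wd f y (xr i), ∀ w ∈ W (fun i => Wd f y (xr i)) 4, v * w = w * v := by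
    intro i hi v hv w hw
    have hle : W (fun i => Wd f y (xr i)) 4 ≤ centralizer {v} := by
      refine iSup₂_le fun j hj u hu => ?_
      rw [mem_centralizer_singleton_iff]
      exact h.commV hj hi u hu v hv
    exact (mem_centralizer_singleton_iff.1 (hle hw)).symm
  intro v hv w hw
  have hle : W (fun i => Wd f y (xr i)) 4 ≤ centralizer {w} := by
    refine iSup₂_le fun i hi u hu => ?_
    rw [mem_centralizer_singleton_iff]
    exact h1 i hi u hu w hw
  exact mem_centralizer_singleton_iff.1 (hle hv)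

theorem card_Wd_ge [Finite G] (h : Grow t f y) {r : A8} (hr : Root r) : 4 ≤ Nat.card (Wd f y r) := by
  have hle : Xd f r ≤ Wd f y r := by
    intro x hx
    rw [h.mem_Xd hr] at hx
    rw [h.mem_Wd hr]
    rcases hx with rfl | rfl
    · exact Or.inl rfl
    · exact Or.inr (Or.inl rfl)
  have h1 := card_mul_relIndex' hle
  rw [card_Xd h hr] at h1
  have h2 : (Xd f r).relIndex (Wd f y r) ≠ 1 := by
    intro e
    have h3 : Y f y r ∈ Xd f r := relIndex_eq_one.1 e ((h.mem_Wd hr).2 (Or.inr (Or.inr (Or.inl rfl))))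
    rcases (h.mem_Xd hr).1 h3 with e | e
    · apply h.Y_ne hr
      rw [e, one_mul, mul_one]
    · apply h.Y_ne hr
      rw [e, h.comm]
  have h3 : (Xd f r).relIndex (Wd f y r) ≠ 0 := by
    intro e
    rw [e, mul_zero] at h1
    exact Nat.card_pos.ne h1
  omega

end Grow

/-- `|C_{V^}(g)| ≥ 64` -/
theorem card_CE [Finite G] {t : G} {f : A8 →* G} {y g : G} (k : Gra t f y g) (h : Grow t f y) :
    64 ≤ Nat.card (W (fun i => Wd f y (xr i)) 4 ⊓ centralizer {g} : Subgroup G) := by
  have hV : ∀ {i n : ℕ}, i < n → Wd f y (xr i) ≤ W (fun i => Wd f y (xr i)) n := fun h => le_W (fun i => Wd f y (xr i)) h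
  have hb2 : ∀ b ∈ Wd f y (xr 1), g * b * g ∈ Wd f y (xr 2) := by
    intro b hb
    have := k.gW h (root_xr 1) hb
    rwa [phi_xr (by norm_num)] at this
  have hb1 : ∀ b ∈ Wd f y (xr 1), g * (g * b * g) * g = b := by
    intro b _
    calc g * (g * b * g) * g = (g * g) * b * (g * g) := by group
      _ = b := by rw [k.gg, one_mul, mul_one]
  have hfix : ∀ {r : A8}, Root r → phi r = r → ∀ a ∈ Wd f y r, g * a * g = a := by
    intro r hr hp a ha
    have e1 : g * f r * g = f r := by rw [k.gf, hp]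
    have e2 : g * Y f y r * g = Y f y r := by rw [k.gY h hr, hp]
    rcases (h.mem_Wd hr).1 ha with rfl | rfl | rfl | rfl
    · rw [mul_one, k.gg]
    · exact e1
    · exact e2
    · calc g * (f r * Y f y r) * g = g * f r * (g * g) * Y f y r * g := by rw [k.gg]; group
        _ = (g * f r * g) * (g * Y f y r * g) := by group
        _ = _ := by rw [e1, e2]
  have hm : ∀ (a : Wd f y (xr 0)) (b : Wd f y (xr 1)) (c : Wd f y (xr 3)),
      (a : G) * b * (g * b * g) * c ∈ W (fun i => Wd f y (xr i)) 4 ⊓ centralizer {g} := by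
    intro a b c
    have ma := hV (show 0 < 4 by norm_num) a.2
    have mb := hV (show 1 < 4 by norm_num) b.2
    have mb' := hV (show 2 < 4 by norm_num) (hb2 b b.2)
    have mc := hV (show 3 < 4 by norm_num) c.2
    refine Subgroup.mem_inf.2 ⟨mul_mem (mul_mem (mul_mem ma mb) mb') mc, ?_⟩
    rw [mem_centralizer_singleton_iff]
    have ea := hfix root14 phi14 a a.2
    have ec := hfix root23 phi23 c c.2
    have e : g * ((a : G) * b * (g * b * g) * c) * g = (a : G) * b * (g * b * g) * c := by
      calc g * ((a : G) * b * (g * b * g) * c) * g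
          = g * a * (g * g) * b * (g * g) * (g * b * g) * (g * g) * c * g := by rw [k.gg]; group
        _ = (g * a * g) * ((g * b * g) * (g * (g * b * g) * g)) * (g * c * g) := by
            group
        _ = a * ((g * b * g) * b) * c := by rw [ea, ec, hb1 b b.2]
        _ = a * (b * (g * b * g)) * c := by rw [h.comm4 _ mb' _ mb]
        _ = _ := by group
    calc (a : G) * b * (g * b * g) * c * g = g * g * ((a : G) * b * (g * b * g) * c) * g := by rw [k.gg, one_mul]
      _ = g * (g * ((a : G) * b * (g * b * g) * c) * g) := by group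
      _ = g * ((a : G) * b * (g * b * g) * c) := by rw [e]
  have hinj : Function.Injective (fun x : Wd f y (xr 0) × Wd f y (xr 1) × Wd f y (xr 3) =>
      (⟨(x.1 : G) * x.2.1 * (g * x.2.1 * g) * x.2.2, hm x.1 x.2.1 x.2.2⟩ :
        (W (fun i => Wd f y (xr i)) 4 ⊓ centralizer {g} : Subgroup G))) := by
    rintro ⟨a, b, c⟩ ⟨a', b', c'⟩ e
    have e0 : (a : G) * b * (g * b * g) * c = a' * b' * (g * b' * g) * c' := congrArg Subtype.val e
    have m1 : ∀ (a : Wd f y (xr 0)) (b : Wd f y (xr 1)), (a : G) * b ∈ W (fun i => Wd f y (xr i)) 2 := fun a b =>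
      mul_mem (hV (show 0 < 2 by norm_num) a.2) (hV (show 1 < 2 by norm_num) b.2)
    have m2 : ∀ (a : Wd f y (xr 0)) (b : Wd f y (xr 1)), (a : G) * b * (g * b * g) ∈ W (fun i => Wd f y (xr i)) 3 :=
      fun a b => mul_mem (W_mono _ (by norm_num) (m1 a b)) (hV (show 2 < 3 by norm_num) (hb2 b b.2))
    obtain ⟨e1, e2⟩ := uniq h.dbl (show 3 < 6 by norm_num) (m2 a b) c.2 (m2 a' b') c'.2 e0
    obtain ⟨e3, e4⟩ := uniq h.dbl (show 2 < 6 by norm_num) (m1 a b) (hb2 b b.2) (m1 a' b') (hb2 b' b'.2) e1
    have e5 : (b : G) = b' := by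
      have := mul_right_cancel e4
      exact mul_left_cancel this
    rw [e5] at e3
    have e6 : (a : G) = a' := mul_right_cancel e3
    rw [Subtype.ext e6, Subtype.ext e5, Subtype.ext e2]
  have h1 := Nat.card_le_card_of_injective _ hinj
  rw [Nat.card_prod, Nat.card_prod] at h1
  have c0 := h.card_Wd_ge (root_xr 0)
  have c1 := h.card_Wd_ge (root_xr 1)
  have c3 := h.card_Wd_ge (root_xr 3)
  have h2 : 4 * (4 * 4) ≤ Nat.card (Wd f y (xr 0)) * (Nat.card (Wd f y (xr 1)) * Nat.card (Wd f y (xr 3))) :=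
    Nat.mul_le_mul c0 (Nat.mul_le_mul c1 c3)
  exact le_trans (by norm_num) (h2.trans h1)

/-- the embedding of the symmetric group -/
def kp (ι : (⊤ : Subgroup (Perm (Fin 8))) →* G) : Perm (Fin 8) →* G :=
  ι.comp (Subgroup.topEquiv.symm : Perm (Fin 8) ≃* (⊤ : Subgroup (Perm (Fin 8)))).toMonoidHom

theorem kp_apply (ι : (⊤ : Subgroup (Perm (Fin 8))) →* G) (a : (⊤ : Subgroup (Perm (Fin 8)))) :
    kp ι (a : Perm (Fin 8)) = ι a := rfl

/-- abelian subgroups of `⟨t⟩ × S₈` -/
theorem card_abel_cent [Finite G] {t : G} {ι : (⊤ : Subgroup (Perm (Fin 8))) →* G} (h : Spl t ⊤ ι) (B : Subgroup G)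
    (hB : ∀ x ∈ B, x * t = t * x) (hab : ∀ x ∈ B, ∀ z ∈ B, x * z = z * x) : Nat.card B ≤ 36 := by
  have hc : ∀ a, t * kp ι a = kp ι a * t := fun a => h.comm ⟨a, mem_top a⟩
  let P : Subgroup (Perm (Fin 8)) :=
    { carrier := {a | kp ι a ∈ B ∨ t * kp ι a ∈ B}
      one_mem' := Or.inl (by rw [map_one]; exact one_mem _)
      mul_mem' := by
        rintro a b (ha | ha) (hb | hb)
        · left; rw [map_mul]; exact mul_mem ha hb
        · right
          have := mul_mem ha hb
          rw [← mul_assoc, ← hc, mul_assoc, ← map_mul] at this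
          exact this
        · right
          have := mul_mem ha hb
          rw [mul_assoc, ← map_mul] at this
          exact this
        · left
          have := mul_mem ha hb
          have e : t * kp ι a * (t * kp ι b) = kp ι (a * b) := by
            calc t * kp ι a * (t * kp ι b) = t * (kp ι a * t) * kp ι b := by group
              _ = (t * t) * kp ι a * kp ι b := by rw [← hc]; group
              _ = kp ι (a * b) := by rw [h.tt, one_mul, map_mul]
          rw [e] at this
          exact this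
      inv_mem' := by
        rintro a (ha | ha)
        · left; rw [map_inv]; exact inv_mem ha
        · right
          have := inv_mem ha
          rw [mul_inv_rev, h.t_inv, ← map_inv, ← hc] at this
          exact this }
  have hP : ∀ a ∈ P, ∀ b ∈ P, a * b = b * a := by
    have hinj : Function.Injective (kp ι) := h.inj.comp (Subgroup.topEquiv.symm : Perm (Fin 8) ≃* _).injective
    have key : ∀ a b, kp ι a * kp ι b = kp ι b * kp ι a → a * b = b * a := by
      intro a b e
      rw [← map_mul, ← map_mul] at e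
      exact hinj e
    rintro a (ha | ha) b (hb | hb)
    · exact key a b (hab _ ha _ hb)
    · apply key
      have e := hab _ ha _ hb
      apply mul_left_cancel (a := t)
      calc t * (kp ι a * kp ι b) = kp ι a * (t * kp ι b) := by rw [← mul_assoc, hc, mul_assoc]
        _ = t * (kp ι b * kp ι a) := by rw [e, mul_assoc]
    · apply key
      have e := hab _ ha _ hb
      apply mul_left_cancel (a := t)
      calc t * (kp ι a * kp ι b) = kp ι b * (t * kp ι a) := by rw [← mul_assoc, e]
        _ = t * (kp ι b * kp ι a) := by rw [← mul_assoc, ← hc, mul_assoc]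
    · apply key
      have e := hab _ ha _ hb
      have e1 : ∀ a b, t * kp ι a * (t * kp ι b) = kp ι a * kp ι b := by
        intro a b
        calc t * kp ι a * (t * kp ι b) = t * (kp ι a * t) * kp ι b := by group
          _ = (t * t) * kp ι a * kp ι b := by rw [← hc]; group
          _ = kp ι a * kp ι b := by rw [h.tt, one_mul]
      rw [e1, e1] at e
      exact e
  have hex : ∀ x : B, ∃ p : Bool × P, (x : G) = cond p.1 (t * kp ι p.2) (kp ι p.2) := by
    rintro ⟨x, hx⟩
    rcases h.cent x (hB x hx) with ⟨a, rfl⟩ | ⟨a, rfl⟩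
    · exact ⟨(false, ⟨a, Or.inl hx⟩), rfl⟩
    · exact ⟨(true, ⟨a, Or.inr hx⟩), rfl⟩
  choose φ hφ using hex
  have hinj : Function.Injective φ := by
    intro x z e
    apply Subtype.ext
    rw [hφ x, hφ z, e]
  have h1 := Nat.card_le_card_of_injective φ hinj
  rw [Nat.card_prod, Nat.card_eq_fintype_card (α := Bool), Fintype.card_bool] at h1
  have h2 := card_abel P hP
  omega

/-- `g V^ … ` contains no conjugate of `t`. -/
theorem no_conj [Finite G] {t : G} {f : A8 →* G} {y g : G} (k : Gra t f y g) (h : Grow t f y)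
    (hab : ∀ B : Subgroup G, (∀ x ∈ B, x * t = t * x) → (∀ x ∈ B, ∀ z ∈ B, x * z = z * x) → Nat.card B ≤ 36)
    {x d : G} (hd : d = x⁻¹ * t * x) (hgd : g * d ∈ W (fun i => Wd f y (xr i)) 6) : False := by
  have hN4 : ∀ {j : ℕ}, 4 ≤ j → j < 6 → ∀ v ∈ Wd f y (xr j), ∀ w ∈ W (fun i => Wd f y (xr i)) 4,
      v * w * v⁻¹ ∈ W (fun i => Wd f y (xr i)) 4 := fun h4 h6 v hv w hw => h.dbl.normal h4 h6 hv hw
  have hg4 : ∀ w ∈ W (fun i => Wd f y (xr i)) 4, g * w * g ∈ W (fun i => Wd f y (xr i)) 4 := fun w hw =>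
    k.gN h (by norm_num) (fun i hi => pii_lt4 hi) hw
  have sqW : ∀ {i : ℕ}, i < 6 → ∀ v ∈ Wd f y (xr i), v * v = 1 := fun hi v hv => h.dbl.sq _ hi v hv
  obtain ⟨u5, hu5, v5, hv5, e1⟩ := h.dbl.mem_succ (show 5 < 6 by norm_num) hgd
  obtain ⟨w, hw, v4, hv4, rfl⟩ := h.dbl.mem_succ (show 4 < 6 by norm_num) hu5
  have hv4' : g * v4 * g ∈ Wd f y (xr 5) := by
    have := k.gW h (root_xr 4) hv4
    rwa [phi_xr (by norm_num)] at this
  have hv5' : g * v5 * g ∈ Wd f y (xr 4) := by
    have := k.gW h (root_xr 5) hv5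
    rwa [phi_xr (by norm_num)] at this
  have c45 : ∀ a ∈ Wd f y (xr 4), ∀ b ∈ Wd f y (xr 5), a * b = b * a :=
    h.comm_Wd root12 root34 (by decide) (h.orth Or_1234)
  have hdd : d * d = 1 := by
    rw [hd]
    calc x⁻¹ * t * x * (x⁻¹ * t * x) = x⁻¹ * (t * t) * x := by group
      _ = 1 := by rw [h.tt]; group
  have ed : d = g * (w * v4 * v5) := by
    rw [← e1, ← mul_assoc, k.gg, one_mul]
  -- modulo `V^`
  have hmod : (g * v5 * g * v4) * (g * v4 * g * v5) ∈ W (fun i => Wd f y (xr i)) 4 := by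
    have hq : (g * w * g) * ((g * v4 * g) * ((g * v5 * g) * w * (g * v5 * g)⁻¹) * (g * v4 * g)⁻¹) *
        ((g * v4 * g) * (g * v5 * g) * v4 * v5) = 1 := by
      rw [← hdd, ed]
      calc (g * w * g) * ((g * v4 * g) * ((g * v5 * g) * w * (g * v5 * g)⁻¹) * (g * v4 * g)⁻¹) *
          ((g * v4 * g) * (g * v5 * g) * v4 * v5)
          = g * w * (g * g) * v4 * (g * g) * v5 * g * w * v4 * v5 := by group
        _ = g * (w * v4 * v5) * (g * (w * v4 * v5)) := by rw [k.gg]; group
    have m1 := hg4 w hw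
    have m2 := hN4 (show 4 ≤ 5 by norm_num) (by norm_num) _ hv4' _ (hN4 le_rfl (by norm_num) _ hv5' w hw)
    have e2 := eq_inv_of_mul_eq_one_right hq
    have e3 : (g * v4 * g) * (g * v5 * g) * v4 * v5 = (g * v5 * g * v4) * (g * v4 * g * v5) := by
      calc (g * v4 * g) * (g * v5 * g) * v4 * v5 = ((g * v5 * g) * (g * v4 * g)) * v4 * v5 := by
            rw [c45 _ hv5' _ hv4']
        _ = (g * v5 * g) * ((g * v4 * g) * v4) * v5 := by group
        _ = (g * v5 * g) * (v4 * (g * v4 * g)) * v5 := by rw [c45 _ hv4 _ hv4']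
        _ = _ := by group
    rw [← e3, e2]
    exact inv_mem (mul_mem m1 m2)
  have hA : g * v5 * g * v4 ∈ Wd f y (xr 4) := mul_mem hv5' hv4
  have hB : g * v4 * g * v5 ∈ Wd f y (xr 5) := mul_mem hv4' hv5
  have hB1 : g * v4 * g * v5 = 1 := by
    refine inf_W h.dbl (show 5 < 6 by norm_num) hB ?_
    have h1 : g * v4 * g * v5 = (g * v5 * g * v4)⁻¹ * ((g * v5 * g * v4) * (g * v4 * g * v5)) := by group
    rw [h1]
    exact mul_mem (inv_mem (le_W (fun i => Wd f y (xr i)) (show 4 < 5 by norm_num) hA)) (W_mono _ (by norm_num) hmod)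
  -- conjugate by `v4`
  have s4 : v4 * v4 = 1 := sqW (by norm_num) v4 hv4
  have i4 : v4⁻¹ = v4 := inv_eq_of_mul_eq_one_left s4
  have s5 : v5 * v5 = 1 := sqW (by norm_num) v5 hv5
  have e5 : v5 = g * v4 * g := by
    have := mul_eq_one_iff_eq_inv.1 hB1
    rw [inv_eq_of_mul_eq_one_left s5] at this
    exact this.symm
  have e6 : v4 * d * v4 = (v4 * (g * w * g) * v4⁻¹) * g := by
    rw [ed, e5, i4]
    calc v4 * (g * (w * v4 * (g * v4 * g))) * v4 = v4 * g * w * (v4 * (g * v4 * g)) * v4 := by group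
      _ = v4 * g * w * ((g * v4 * g) * v4) * v4 := by rw [c45 _ hv4 _ hv4']
      _ = v4 * (g * w * g) * v4 * g * (v4 * v4) := by group
      _ = v4 * (g * w * g) * v4 * g := by rw [s4, mul_one]
  have hw'' := hN4 le_rfl (by norm_num) _ hv4 _ (hg4 w hw)
  generalize v4 * (g * w * g) * v4⁻¹ = w' at e6 hw''
  -- the abelian group
  let B : Subgroup G := (W (fun i => Wd f y (xr i)) 4 ⊓ centralizer {g}).map (MulAut.conj (x * v4)).toMonoidHom
  have hBc : Nat.card B = Nat.card (W (fun i => Wd f y (xr i)) 4 ⊓ centralizer {g} : Subgroup G) :=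
    (Nat.card_congr ((W (fun i => Wd f y (xr i)) 4 ⊓ centralizer {g} : Subgroup G).equivMapOfInjective _
      (MulAut.conj (x * v4)).injective).toEquiv).symm
  have h1 := hab B ?_ ?_
  · have h2 := card_CE k h
    omega
  · rintro _ ⟨z, hz, rfl⟩
    obtain ⟨hz1, hz2⟩ := Subgroup.mem_inf.1 hz
    have hz3 := mem_centralizer_singleton_iff.1 hz2
    show (x * v4) * z * (x * v4)⁻¹ * t = t * ((x * v4) * z * (x * v4)⁻¹)
    -- `t = (x v4) (w' g) (x v4)⁻¹`
    have ht : t = (x * v4) * (w' * g) * (x * v4)⁻¹ := by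
      rw [← e6, hd, mul_inv_rev, i4]
      calc t = x * x⁻¹ * t * (x * x⁻¹) := by group
        _ = x * 1 * (x⁻¹ * t * x) * 1 * x⁻¹ := by group
        _ = x * (v4 * v4) * (x⁻¹ * t * x) * (v4 * v4) * x⁻¹ := by rw [s4]
        _ = _ := by group
    have hzw : z * (w' * g) = (w' * g) * z := by
      rw [← mul_assoc, h.comm4 z hz1 w' hw'', mul_assoc, hz3, mul_assoc]
    rw [ht]
    calc (x * v4) * z * (x * v4)⁻¹ * ((x * v4) * (w' * g) * (x * v4)⁻¹) = (x * v4) * (z * (w' * g)) * (x * v4)⁻¹ := by
          group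
      _ = _ := by rw [hzw]; group
  · rintro _ ⟨z, hz, rfl⟩ _ ⟨z', hz', rfl⟩
    show (x * v4) * z * (x * v4)⁻¹ * ((x * v4) * z' * (x * v4)⁻¹) = (x * v4) * z' * (x * v4)⁻¹ * ((x * v4) * z * (x * v4)⁻¹)
    have hc := h.comm4 z (Subgroup.mem_inf.1 hz).1 z' (Subgroup.mem_inf.1 hz').1
    calc (x * v4) * z * (x * v4)⁻¹ * ((x * v4) * z' * (x * v4)⁻¹) = (x * v4) * (z * z') * (x * v4)⁻¹ := by group
      _ = _ := by rw [hc]; group

/-- the end, with the index condition as a hypothesis -/
theorem exists_hom_of_gra [Finite G] {t : G} {f : A8 →* G} {y g : G} (k : Gra t f y g) (h : Grow t f y)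
    (hab : ∀ B : Subgroup G, (∀ x ∈ B, x * t = t * x) → (∀ x ∈ B, ∀ z ∈ B, x * z = z * x) → Nat.card B ≤ 36)
    (hcard : Nat.card (centralizer ({t} : Set G)) = 2 ^ 8 * 315) : ∃ m : G →* ℤˣ, m t = -1 := by
  let N : Subgroup G := W (fun i => Wd f y (xr i)) 6
  have hN : N = W (fun i => Wd f y (xr i)) 6 := rfl
  have hgN : ∀ n ∈ N, g * n * g ∈ N := fun n hn => k.gN h le_rfl (fun i hi => pii_lt hi) hn
  have htN : ∀ n ∈ N, t * n * t ∈ N := fun n hn => h.dbl.conj_W le_rfl hn
  have hfixN : ∀ n ∈ N, t * n * t = n → ∃ a, f a = n := by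
    intro n hn e
    exact h.W_le_range 6 ((h.dbl.mem_U_iff le_rfl).2 ⟨hn, e⟩)
  have ht1 : t ∉ N := by
    intro h1
    obtain ⟨a, ha⟩ := hfixN t h1 (by rw [h.tt, one_mul])
    exact h.ne a ha
  have hg1 : g ∉ N := by
    intro h1
    obtain ⟨a, ha⟩ := hfixN g h1 (by rw [← k.gt, mul_assoc, h.tt, mul_one])
    exact k.gA a ha.symm
  have htg : t * g * (t * g) = 1 := by
    calc t * g * (t * g) = t * (g * t) * g := by group
      _ = (t * t) * (g * g) := by rw [k.gt]; group
      _ = 1 := by rw [h.tt, k.gg, one_mul]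
  have htgN : ∀ n ∈ N, (t * g) * n * (t * g) ∈ N := by
    intro n hn
    have e : (t * g) * n * (t * g) = t * (g * n * g) * t := by
      calc (t * g) * n * (t * g) = t * g * n * (t * g) := rfl
        _ = t * g * n * (g * t) := by rw [k.gt]
        _ = _ := by group
    rw [e]
    exact htN _ (hgN _ hn)
  let N' : Subgroup G := ext N (t * g) htg htgN
  have htN' : ∀ n ∈ N', t * n * t ∈ N' := by
    rintro n (hn | hn)
    · exact Or.inl (htN n hn)
    · right
      have e : t * g * (t * n * t) = t * (t * g * n) * t := by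
        calc t * g * (t * n * t) = t * (g * t) * n * t := by group
          _ = t * (t * g) * n * t := by rw [k.gt]
          _ = _ := by group
      rw [e]
      exact htN _ hn
  have ht2 : t ∉ N' := by
    rintro (h1 | h1)
    · exact ht1 h1
    · apply hg1
      have e : t * g * t = g := by rw [mul_assoc, k.gt, ← mul_assoc, h.tt, one_mul]
      rwa [e] at h1
  have htH : t ∈ ext N' t h.tt htN' := Or.inr (by rw [h.tt]; exact one_mem _)
  refine Cfsg.Agent.StdSpSix.TR.exists_hom_of_class (sgn N' t h.tt htN' ht2) h.tt htH ((sgn_apply ht2 _).2 ht2) ?_ ?_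
  · intro x hx hs
    rw [sgn_apply] at hs
    have h1 : t * (x⁻¹ * t * x) ∈ N' := hx.resolve_left hs
    rcases h1 with h1 | h1
    · have h2 : t * (t * (x⁻¹ * t * x)) = x⁻¹ * t * x := by rw [← mul_assoc, h.tt, one_mul]
      have h3 : (x⁻¹ * t * x) * (x⁻¹ * t * x) = 1 := by
        calc (x⁻¹ * t * x) * (x⁻¹ * t * x) = x⁻¹ * (t * t) * x := by group
          _ = 1 := by rw [h.tt]; group
      obtain ⟨c, hc, hcc⟩ := h.dbl.exists_conj h1 (by rw [h2]; exact h3)
      rw [h2] at hcc
      exact ⟨c, Or.inl (Or.inl hc), hcc⟩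
    · exfalso
      have e : t * g * (t * (x⁻¹ * t * x)) = g * (x⁻¹ * t * x) := by
        calc t * g * (t * (x⁻¹ * t * x)) = t * (g * t) * (x⁻¹ * t * x) := by group
          _ = (t * t) * g * (x⁻¹ * t * x) := by rw [k.gt]; group
          _ = _ := by rw [h.tt, one_mul]
      rw [e] at h1
      exact no_conj k h hab rfl h1
  · -- the index
    have hKle : (W (fun i => Xd f (xr i)) 6 ⊔ zpowers t) ⊔ zpowers g ≤ ext N' t h.tt htN' := by
      refine sup_le (sup_le ?_ ?_) ?_
      · exact fun w hw => Or.inl (Or.inl (h.dbl.U_le le_rfl hw))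
      · rw [zpowers_le]; exact htH
      · rw [zpowers_le]
        right; right
        rw [← mul_assoc, mul_assoc t g t, k.gt, ← mul_assoc, h.tt, one_mul, k.gg]
        exact one_mem _
    have hUc : ∀ w ∈ W (fun i => Xd f (xr i)) 6, w * t = t * w := by
      intro w hw
      have := h.dbl.U_fix le_rfl hw
      calc w * t = (t * w * t) * t := by rw [this]
        _ = t * w * (t * t) := by group
        _ = t * w := by rw [h.tt, mul_one]
    have hKc : (W (fun i => Xd f (xr i)) 6 ⊔ zpowers t) ⊔ zpowers g ≤ centralizer ({t} : Set G) := by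
      refine sup_le (sup_le ?_ ?_) ?_
      · intro w hw
        rw [mem_centralizer_singleton_iff]
        exact hUc w hw
      · rw [zpowers_le, mem_centralizer_singleton_iff]
      · rw [zpowers_le, mem_centralizer_singleton_iff, k.gt]
    have hcK : Nat.card ((W (fun i => Xd f (xr i)) 6 ⊔ zpowers t) ⊔ zpowers g : Subgroup G) = 2 ^ 8 := by
      have hgS : ∀ w ∈ W (fun i => Xd f (xr i)) 6 ⊔ zpowers t, g * w * g ∈ W (fun i => Xd f (xr i)) 6 ⊔ zpowers t := by
        intro w hw
        have hle : W (fun i => Xd f (xr i)) 6 ⊔ zpowers t ≤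
            (W (fun i => Xd f (xr i)) 6 ⊔ zpowers t).comap (MulAut.conj g).toMonoidHom := by
          refine sup_le ?_ ?_
          · intro w hw
            show g * w * g⁻¹ ∈ W (fun i => Xd f (xr i)) 6 ⊔ zpowers t
            rw [k.g_inv]
            apply Subgroup.mem_sup_left
            have h1 := (h.dbl.mem_U_iff le_rfl).1 hw
            refine (h.dbl.mem_U_iff le_rfl).2 ⟨hgN w h1.1, ?_⟩
            calc t * (g * w * g) * t = (t * g) * w * (g * t) := by group
              _ = (g * t) * w * (t * g) := by rw [k.gt]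
              _ = g * (t * w * t) * g := by group
              _ = g * w * g := by rw [h1.2]
          · rw [zpowers_le]
            show g * t * g⁻¹ ∈ W (fun i => Xd f (xr i)) 6 ⊔ zpowers t
            rw [k.gt, mul_inv_cancel_right]
            exact Subgroup.mem_sup_right (mem_zpowers t)
        have h1 : g * w * g⁻¹ ∈ W (fun i => Xd f (xr i)) 6 ⊔ zpowers t := hle hw
        rwa [k.g_inv] at h1
      have hg2 : orderOf g = 2 := by
        refine orderOf_eq_prime (by rw [pow_two]; exact k.gg) ?_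
        intro e
        exact hg1 (by rw [e]; exact one_mem _)
      rw [card_sup_eq, h.card_UT, Nat.card_zpowers, hg2]
      · norm_num
      · rw [zpowers_le, mem_normalizer_iff]
        intro w
        rw [k.g_inv]
        refine ⟨fun hw => hgS w hw, fun hw => ?_⟩
        have h1 := hgS _ hw
        have e : g * (g * w * g) * g = w := by
          calc g * (g * w * g) * g = (g * g) * w * (g * g) := by group
            _ = w := by rw [k.gg, one_mul, mul_one]
        rwa [e] at h1
      · -- disjoint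
        have hle : W (fun i => Xd f (xr i)) 6 ⊔ zpowers t ≤ ext (W (fun i => Xd f (xr i)) 6) t h.tt (by
            intro w hw
            rw [h.dbl.U_fix le_rfl hw]
            exact hw) := by
          refine sup_le (fun w hw => Or.inl hw) ?_
          rw [zpowers_le]
          right
          rw [h.tt]
          exact one_mem _
        rw [eq_bot_iff]
        rintro z ⟨hz, hzg⟩
        rw [Subgroup.mem_bot]
        obtain ⟨n, rfl⟩ := mem_zpowers_iff.1 hzg
        rcases Int.even_or_odd n with ⟨m, rfl⟩ | ⟨m, rfl⟩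
        · rw [← two_mul, zpow_mul, zpow_ofNat, pow_two, k.gg, one_zpow]
        · exfalso
          have hz' : g ∈ W (fun i => Xd f (xr i)) 6 ⊔ zpowers t := by
            have hz1 : g ^ (2 * m + 1) ∈ W (fun i => Xd f (xr i)) 6 ⊔ zpowers t := hz
            rwa [zpow_add, zpow_mul, zpow_ofNat, pow_two, k.gg, one_zpow, one_mul, zpow_one] at hz1
          rcases hle hz' with h1 | h1
          · obtain ⟨a, ha⟩ := h.W_le_range 6 h1
            exact k.gA a ha.symm
          · obtain ⟨a, ha⟩ := h.W_le_range 6 h1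
            exact k.gtA a ha.symm
    have h1 := card_mul_relIndex' hKc
    rw [hcK, hcard] at h1
    have h2 : ((W (fun i => Xd f (xr i)) 6 ⊔ zpowers t) ⊔ zpowers g).relIndex (centralizer ({t} : Set G)) = 315 := by
      omega
    have h3 : (ext N' t h.tt htN').relIndex (centralizer ({t} : Set G)) ∣ 315 := by
      rw [← h2]
      exact Subgroup.relIndex_dvd_of_le_left _ hKle
    exact Odd.of_dvd_nat (by decide) h3

/-- **Growth, case `C_G(t) = ⟨t⟩ × S₈`.** -/
theorem growS8 [Finite G] {t : G} {ι : (⊤ : Subgroup (Perm (Fin 8))) →* G} {y : G} (h : Spl t ⊤ ι)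
    (s : Swp t ⊤ ι y) : ∃ m : G →* ℤˣ, m t = -1 := by
  have gr := Grow.of h s le_top
  have h45 : g45 * g45 = 1 := by decide +kernel
  have hodd : g45 ∉ A8 := by
    rw [Equiv.Perm.mem_alternatingGroup]
    decide +kernel
  have hinv : g45⁻¹ = g45 := inv_eq_of_mul_eq_one_left h45
  have k : Gra t (ι.comp (Subgroup.inclusion le_top)) y (ι ⟨g45, mem_top _⟩) := by
    refine ⟨?_, (h.comm _).symm, ?_, ?_, ?_, ?_⟩
    · rw [← map_mul]
      have : (⟨g45, mem_top _⟩ : (⊤ : Subgroup (Perm (Fin 8)))) * ⟨g45, mem_top _⟩ = 1 := Subtype.ext h45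
      rw [this, map_one]
    · exact (s.yc ⟨g45, mem_top _⟩ (by show g45 * z0 = z0 * g45; decide +kernel)).symm
    · intro a
      rw [MonoidHom.comp_apply, MonoidHom.comp_apply, ← map_mul, ← map_mul]
      refine congrArg ι (Subtype.ext ?_)
      show g45 * (a : Perm (Fin 8)) * g45 = (phi a : Perm (Fin 8))
      rw [phi_coe, hinv]
    · intro a e
      apply hodd
      have := congrArg Subtype.val (h.inj e)
      rw [show g45 = (a : Perm (Fin 8)) from this]
      exact a.2
    · intro a e
      have e1 : ι (Subgroup.inclusion le_top a) = t * ι ⟨g45, mem_top _⟩ := e.symm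
      exact h.tne _ _ e1
  refine exists_hom_of_gra k gr (fun B h1 h2 => card_abel_cent h B h1 h2) ?_
  rw [card_cent h, Subgroup.card_top, Nat.card_perm, Nat.card_eq_fintype_card (α := Fin 8), Fintype.card_fin]
  decide

end Cfsg.Agent.OddHalf.D5.Eight.Gr

end
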