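import Cfsg.Agent.OddHalf.D5.ElemAlt
import Cfsg.Agent.OddHalf.D5.Defs

-- merged: Cfsg.Agent.OddHalf.D5.ElemT
section

/-!
# ODD D5, [O1]: Lemma T (helper59)

`card_mv_eq`: `F ≤ Alt(α)` elementary abelian of order `4^k`, `|α| = 4k + r`, `r ≤ 1` or `r ≥ 3` and a copy of
`A_r` centralizes `F`: then `F` moves exactly `4k` points.
-/

set_option autoImplicit false

namespace Cfsg.Agent.OddHalf.D5.Elem

open Equiv Subgroup
open scoped commutatorElement

variable {α : Type*} [Finite α]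

/-- `|F|² ≤ 2^|mv F|` for `|F| = 4^k` -/
theorem four_mul_le {F : Subgroup (Perm α)} (h2 : ∀ f ∈ F, f * f = 1) {k : ℕ}
    (hk : Nat.card F = 4 ^ k) : 4 * k ≤ (mv F).ncard := by
  have h := sq_card_le h2
  have h1 : (Nat.card F) ^ 2 = 2 ^ (4 * k) := by
    rw [hk, ← pow_mul, show (4 : ℕ) = 2 ^ 2 by norm_num, ← pow_mul]
    congr 1
    omega
  rw [h1] at h
  exact (Nat.pow_le_pow_iff_right (by norm_num)).1 h

theorem even_mv {F : Subgroup (Perm α)} (h2 : ∀ f ∈ F, f * f = 1) : 2 ∣ (mv F).ncard := by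
  have : Fact (Nat.Prime 2) := ⟨Nat.prime_two⟩
  have h1 := (isPGroup_of_sq h2).card_modEq_card_fixedPoints α
  have h3 : MulAction.fixedPoints F α = (mv F)ᶜ := by
    ext x
    constructor
    · rintro h ⟨f, hf, hx⟩
      exact hx (h ⟨f, hf⟩)
    · intro h f
      by_contra hne
      exact h ⟨f, f.2, hne⟩
  rw [h3, Nat.card_coe_set_eq] at h1
  have h4 := Set.ncard_add_ncard_compl (mv F) (Set.toFinite _) (Set.toFinite _)
  have h5 := h1
  rw [Nat.ModEq, ← h4] at h5
  omega

/-- consequence of `key` -/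
theorem key_ineq {F L : Subgroup (Perm α)} (h2 : ∀ f ∈ F, f * f = 1)
    (hc : ∀ l ∈ L, ∀ f ∈ F, l * f = f * l) {k d : ℕ} (hk : Nat.card F = 4 ^ k)
    (hd : (mv F).ncard = 4 * k + d) {x : α} (hx : x ∈ mv F) :
    ∃ a, 1 ≤ a ∧ (orb F x).ncard = 2 ^ a ∧ (Nx F L hc x).relIndex L * 2 ^ a ≤ 2 * a + d := by
  obtain ⟨a, ha⟩ := exists_pow_orb h2 x
  refine ⟨a, ?_, ha, ?_⟩
  · by_contra h0
    have h0 : a = 0 := by omega
    rw [h0, pow_zero, Set.ncard_eq_one] at ha
    obtain ⟨y, hy⟩ := ha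
    obtain ⟨f, hf, hfx⟩ := hx
    have h1 : f x ∈ orb F x := ⟨f, hf, rfl⟩
    have h3 := self_mem_orb F x
    rw [hy, Set.mem_singleton_iff] at h1 h3
    exact hfx (h1.trans h3.symm)
  · have h1 := key h2 hc hx
    have h3 := card_fx_compl_le h2 hc x
    have h4 := le_card_sat h2 hc x
    rw [ha] at h3 h4
    have h5 : (Nat.card F) ^ 2 = 2 ^ (4 * k) := by
      rw [hk, ← pow_mul, show (4 : ℕ) = 2 ^ 2 by norm_num, ← pow_mul]
      congr 1
      omega
    rw [h5, hd, ← pow_add] at h1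
    have h6 : 2 ^ (4 * k + (sat F L x).ncard) ≤ 2 ^ (2 * a + (4 * k + d)) := by
      refine h1.trans ?_
      rw [pow_add 2 (2 * a)]
      refine Nat.mul_le_mul_right _ ?_
      rw [mul_comm 2 a, pow_mul]
      exact Nat.pow_le_pow_left h3 2
    have h7 := (Nat.pow_le_pow_iff_right (by norm_num)).1 h6
    omega

theorem factorial_lt {r u : ℕ} (h3 : 3 ≤ r) (hu : u < r) : 2 * u.factorial < r.factorial := by
  have h1 : u.factorial ≤ (r - 1).factorial := Nat.factorial_le (by omega)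
  obtain ⟨m, rfl⟩ : ∃ m, r = m + 1 := ⟨r - 1, by omega⟩
  rw [Nat.add_sub_cancel] at h1
  rw [Nat.factorial_succ]
  have : 0 < m.factorial := Nat.factorial_pos m
  nlinarith

/-- subgroups of `A_r` -/
theorem le_index {r : ℕ} (h5 : 5 ≤ r) {X : Type*} [Group X] (e : X ≃* alternatingGroup (Fin r))
    (N : Subgroup X) (hN : N ≠ ⊤) : r ≤ N.index := by
  have h1 : IsSimpleGroup (alternatingGroup (Fin r)) :=
    alternatingGroup.isSimpleGroup (by simpa using h5)
  have : Finite X := Finite.of_equiv _ e.symm.toEquiv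
  have : Nontrivial X := e.toEquiv.nontrivial
  have h2 : IsSimpleGroup X := IsSimpleGroup.isSimpleGroup_of_surjective e.symm.toMonoidHom
    e.symm.surjective
  by_contra hlt
  push Not at hlt
  have hcore : N.normalCore = ⊥ := by
    rcases IsSimpleGroup.eq_bot_or_eq_top_of_normal N.normalCore N.normalCore_normal with h | h
    · exact h
    · exact absurd (top_le_iff.mp (h ▸ N.normalCore_le)) hN
  have hinj : Function.Injective (MulAction.toPermHom X (X ⧸ N)) := by
    rw [← MonoidHom.ker_eq_bot_iff, ← Subgroup.normalCore_eq_ker, hcore]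
  have hle := Nat.card_le_card_of_injective _ hinj
  classical
  have : Fintype (X ⧸ N) := Fintype.ofFinite _
  have hc : Nat.card (Equiv.Perm (X ⧸ N)) = N.index.factorial := by
    rw [Nat.card_eq_fintype_card, Fintype.card_perm, Subgroup.index, Nat.card_eq_fintype_card]
  have : Nontrivial (Fin r) := Fin.nontrivial_iff_two_le.2 (by omega)
  have h3 : 2 * Nat.card X = r.factorial := by
    rw [Nat.card_congr e.toEquiv, two_mul_nat_card_alternatingGroup, Nat.card_perm,
      Nat.card_eq_fintype_card, Fintype.card_fin]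
  rw [hc] at hle
  have := factorial_lt (by omega : 3 ≤ r) hlt
  omega

theorem commutator_top {r : ℕ} (h5 : 5 ≤ r) {X : Type*} [Group X]
    (e : X ≃* alternatingGroup (Fin r)) : commutator X = ⊤ := by
  have h := commutator_alternatingGroup_eq_top (α := Fin r) (by simpa using h5)
  rw [eq_top_iff]
  intro x _
  have h1 : e x ∈ commutator (alternatingGroup (Fin r)) := by rw [h]; trivial
  have h2 : x ∈ (commutator (alternatingGroup (Fin r))).map e.symm.toMonoidHom :=
    ⟨e x, h1, e.symm_apply_apply x⟩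
  have h3 : (commutator (alternatingGroup (Fin r))).map e.symm.toMonoidHom ≤ commutator X := by
    rw [commutator_def, commutator_def, Subgroup.map_commutator]
    exact Subgroup.commutator_mono le_top le_top
  exact h3 h2

theorem mv_le_card (F : Subgroup (Perm α)) : (mv F).ncard ≤ Nat.card α :=
  Set.ncard_le_card _

/-- stabilizer of a point in `L`, as subgroup of `L` -/
def st (L : Subgroup (Perm α)) (x : α) : Subgroup L where
  carrier := {l | (l : Perm α) x = x}
  mul_mem' := by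
    intro a b ha hb
    have ha' : (a : Perm α) x = x := ha
    have hb' : (b : Perm α) x = x := hb
    show (((a * b : L)) : Perm α) x = x
    rw [Subgroup.coe_mul, Perm.mul_apply, hb', ha']
  one_mem' := rfl
  inv_mem' := by
    intro a ha
    have ha' : (a : Perm α) x = x := ha
    show (((a⁻¹ : L)) : Perm α) x = x
    rw [Subgroup.coe_inv, Perm.inv_eq_iff_eq]
    exact ha'.symm

omit [Finite α] in
theorem mem_st {L : Subgroup (Perm α)} {x : α} {l : L} : l ∈ st L x ↔ (l : Perm α) x = x := Iff.rfl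

omit [Finite α] in
theorem index_st (L : Subgroup (Perm α)) (x : α) : (st L x).index = (orb L x).ncard := by
  have h1 : st L x = MulAction.stabilizer L x := by
    ext l
    exact Iff.rfl
  rw [h1, MulAction.index_stabilizer]
  congr 1
  ext y
  constructor
  · rintro ⟨f, rfl⟩
    exact ⟨f, f.2, rfl⟩
  · rintro ⟨f, hf, rfl⟩
    exact ⟨⟨f, hf⟩, rfl⟩

omit [Finite α] in
theorem orb_subset_compl {F L : Subgroup (Perm α)} (hc : ∀ l ∈ L, ∀ f ∈ F, l * f = f * l) {x : α}
    (hx : x ∉ mv F) : orb L x ⊆ (mv F)ᶜ := by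
  rintro _ ⟨l, hl, rfl⟩ ⟨f, hf, h⟩
  apply h
  rw [← Perm.mul_apply, ← hc l hl f hf, Perm.mul_apply]
  congr 1
  by_contra hne
  exact hx ⟨f, hf, hne⟩

theorem card_mv_five {F L : Subgroup (Perm α)} (h2 : ∀ f ∈ F, f * f = 1)
    (hc : ∀ l ∈ L, ∀ f ∈ F, l * f = f * l) {k r : ℕ} (h5 : 5 ≤ r) (hα : Nat.card α = 4 * k + r)
    (hk : Nat.card F = 4 ^ k) (e : L ≃* alternatingGroup (Fin r)) : (mv F).ncard = 4 * k := by
  by_contra hne
  have hge := four_mul_le h2 hk
  have hle := mv_le_card F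
  rw [hα] at hle
  obtain ⟨d, hd⟩ : ∃ d, (mv F).ncard = 4 * k + d := ⟨(mv F).ncard - 4 * k, by omega⟩
  have hcompl := Set.ncard_add_ncard_compl (mv F) (Set.toFinite _) (Set.toFinite _)
  rw [hα] at hcompl
  -- moved points
  have hmv : ∀ x ∈ mv F, ∀ l ∈ L, l x = x := by
    intro x hx
    obtain ⟨a, ha1, -, ha⟩ := key_ineq h2 hc hk hd hx
    have h1 : (Nx F L hc x).subgroupOf L = ⊤ := by
      by_contra h0
      have h3 := le_index h5 e _ h0
      have h4 : (Nx F L hc x).relIndex L * 2 ^ a ≤ 2 * a + r := ha.trans (by omega)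
      have h6 : r ≤ (Nx F L hc x).relIndex L := h3
      have h7 : a + 1 ≤ 2 ^ a := Nat.lt_two_pow_self
      have h8 : r * 2 ^ a ≤ 2 * a + r := (Nat.mul_le_mul_right _ h6).trans h4
      have h9 : r * (a + 1) ≤ 2 * a + r := (Nat.mul_le_mul_left _ h7).trans h8
      nlinarith
    have hab : ∀ l₁ l₂ : L, ((l₁ : Perm α) * l₂) x = ((l₂ : Perm α) * l₁) x := by
      intro l₁ l₂
      obtain ⟨-, f₁, hf₁, e₁⟩ : (l₁ : Perm α) ∈ Nx F L hc x := by
        have : l₁ ∈ (Nx F L hc x).subgroupOf L := by rw [h1]; trivial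
        exact this
      obtain ⟨-, f₂, hf₂, e₂⟩ : (l₂ : Perm α) ∈ Nx F L hc x := by
        have : l₂ ∈ (Nx F L hc x).subgroupOf L := by rw [h1]; trivial
        exact this
      calc ((l₁ : Perm α) * l₂) x = ((l₁ : Perm α) * f₂) x := by
            rw [Perm.mul_apply, e₂, Perm.mul_apply]
        _ = (f₂ * f₁) x := by rw [hc _ l₁.2 _ hf₂, Perm.mul_apply, e₁, Perm.mul_apply]
        _ = (f₁ * f₂) x := by rw [comm_of_sq h2 _ hf₂ _ hf₁]
        _ = ((l₂ : Perm α) * f₁) x := by
            rw [hc _ l₂.2 _ hf₁, Perm.mul_apply, Perm.mul_apply, e₂]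
        _ = ((l₂ : Perm α) * l₁) x := by rw [Perm.mul_apply, ← e₁, Perm.mul_apply]
    have h3 : commutator L ≤ st L x := by
      rw [commutator_def, Subgroup.commutator_le]
      intro l₁ _ l₂ _
      rw [mem_st]
      have e₄ : ((⁅l₁, l₂⁆ : L) : Perm α) =
          (((l₂⁻¹ : L) : Perm α) * ((l₁⁻¹ : L) : Perm α))⁻¹ *
            (((l₁⁻¹ : L) : Perm α) * ((l₂⁻¹ : L) : Perm α)) := by
        rw [commutatorElement_def]
        push_cast
        group
      rw [e₄, Perm.mul_apply, hab, inv_self]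
    rw [commutator_top h5 e] at h3
    intro l hl
    exact h3 (Subgroup.mem_top (⟨l, hl⟩ : L))
  have hfix : ∀ x ∉ mv F, ∀ l ∈ L, l x = x := by
    intro x hx
    have h1 : (orb L x).ncard ≤ ((mv F)ᶜ).ncard :=
      Set.ncard_le_ncard (orb_subset_compl hc hx) (Set.toFinite _)
    have h3 : st L x = ⊤ := by
      by_contra h0
      have h4 := le_index h5 e _ h0
      rw [index_st] at h4
      omega
    intro l hl
    exact h3.ge (Subgroup.mem_top (⟨l, hl⟩ : L))
  have hbot : ∀ l : L, l = 1 := by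
    intro l
    apply Subtype.ext
    refine Perm.ext fun x => ?_
    by_cases hx : x ∈ mv F
    · exact hmv x hx l l.2
    · exact hfix x hx l l.2
  have h6 := le_index h5 e ⊥ (by
    intro h0
    have h7 := Subgroup.card_top (G := L)
    rw [← h0, Subgroup.card_bot] at h7
    have : Nontrivial (Fin r) := Fin.nontrivial_iff_two_le.2 (by omega)
    have h8 : 2 * Nat.card L = r.factorial := by
      rw [Nat.card_congr e.toEquiv, two_mul_nat_card_alternatingGroup, Nat.card_perm,
        Nat.card_eq_fintype_card, Fintype.card_fin]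
    have h9 := factorial_lt (u := 1) (by omega : 3 ≤ r) (by omega)
    rw [Nat.factorial_one] at h9
    omega)
  rw [Subgroup.index_bot] at h6
  have : Subsingleton L := ⟨fun a b => (hbot a).trans (hbot b).symm⟩
  rw [Nat.card_of_subsingleton (1 : L)] at h6
  omega

theorem card_sat_le (F L : Subgroup (Perm α)) (x : α) :
    (sat F L x).ncard ≤ Nat.card L * (orb F x).ncard := by
  rw [← Nat.card_coe_set_eq (orb F x), ← Nat.card_coe_set_eq (sat F L x), ← Nat.card_prod]
  refine Nat.card_le_card_of_surjective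
    (fun p : L × orb F x =>
      (⟨(p.1 : Perm α) p.2.1, by
        obtain ⟨f, hf, h⟩ := p.2.2
        exact ⟨_, p.1.2, f, hf, by rw [h]⟩⟩ : sat F L x)) ?_
  rintro ⟨_, l, hl, f, hf, rfl⟩
  exact ⟨⟨⟨l, hl⟩, ⟨f x, f, hf, rfl⟩⟩, rfl⟩

/-- the sign of an involution moving exactly the points of `B` -/
theorem sign_of_moved {β : Type*} [Fintype β] [DecidableEq β] {f : Perm β} (hf : f * f = 1)
    {B : Set β} (hB : ∀ x, f x ≠ x ↔ x ∈ B) : Perm.sign f = (-1) ^ (B.ncard / 2) := by
  rw [Perm.sign_of_pow_two_eq_one (by rw [pow_two]; exact hf)]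
  congr 2
  have h1 : Function.fixedPoints f = Bᶜ := by
    ext x
    rw [Set.mem_compl_iff, ← hB, not_not]
    exact Iff.rfl
  have h2 := Set.ncard_add_ncard_compl B (Set.toFinite _) (Set.toFinite _)
  rw [Nat.card_eq_fintype_card] at h2
  have h3 : Fintype.card (Function.fixedPoints f) = Bᶜ.ncard := by
    rw [← Nat.card_eq_fintype_card, h1, Nat.card_coe_set_eq]
  omega

theorem card_mv_three {β : Type*} [Fintype β] [DecidableEq β] {F : Subgroup (Perm β)}
    (h2 : ∀ f ∈ F, f * f = 1) (hev : ∀ f ∈ F, Perm.sign f = 1) {ρ : Perm β} (h3 : ρ ^ 3 = 1)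
    (h1 : ρ ≠ 1) (hρ : ∀ f ∈ F, ρ * f = f * ρ) {k r : ℕ} (hr : r = 3 ∨ r = 4)
    (hα : Nat.card β = 4 * k + r) (hk : Nat.card F = 4 ^ k) : (mv F).ncard = 4 * k := by
  by_contra hne
  have hc : ∀ l ∈ zpowers ρ, ∀ f ∈ F, l * f = f * l := by
    rintro _ ⟨i, rfl⟩ f hf
    exact ((show Commute ρ f from hρ f hf).zpow_left i).eq
  have hge := four_mul_le h2 hk
  have hle := mv_le_card F
  rw [hα] at hle
  have heven := even_mv h2
  obtain ⟨d, hd⟩ : ∃ d, (mv F).ncard = 4 * k + d := ⟨(mv F).ncard - 4 * k, by omega⟩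
  have hcompl := Set.ncard_add_ncard_compl (mv F) (Set.toFinite _) (Set.toFinite _)
  rw [hα] at hcompl
  have hcL : Nat.card (zpowers ρ) = 3 := by
    rw [Nat.card_zpowers]
    exact orderOf_eq_prime h3 h1
  have hprime : Nat.Prime 3 := Nat.prime_three
  -- a moved point moved by `ρ`
  obtain ⟨x, hx, hρx⟩ : ∃ x ∈ mv F, ρ x ≠ x := by
    by_contra hno
    push Not at hno
    apply h1
    refine Perm.ext fun x => ?_
    by_cases hx : x ∈ mv F
    · exact hno x hx
    · have h4 : (orb (zpowers ρ) x).ncard ≤ ((mv F)ᶜ).ncard :=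
        Set.ncard_le_ncard (orb_subset_compl hc hx) (Set.toFinite _)
      rw [← index_st] at h4
      have h5 : (st (zpowers ρ) x).index ∣ 3 := by
        rw [← hcL]
        exact Subgroup.index_dvd_card _
      rcases (Nat.dvd_prime hprime).1 h5 with h6 | h6
      · rw [Subgroup.index_eq_one] at h6
        exact h6.ge (Subgroup.mem_top (⟨ρ, mem_zpowers ρ⟩ : zpowers ρ))
      · omega
  obtain ⟨a, ha1, hao, ha⟩ := key_ineq h2 hc hk hd hx
  have hidx : (Nx F (zpowers ρ) hc x).relIndex (zpowers ρ) = 3 := by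
    have h5 : (Nx F (zpowers ρ) hc x).relIndex (zpowers ρ) ∣ 3 := by
      rw [← hcL]
      exact Subgroup.relIndex_dvd_card _ _
    rcases (Nat.dvd_prime hprime).1 h5 with h6 | h6
    · exfalso
      rw [Subgroup.relIndex_eq_one] at h6
      obtain ⟨-, f, hf, e⟩ := h6 (mem_zpowers ρ)
      apply hρx
      have e2 : (ρ * ρ) x = x := by
        calc (ρ * ρ) x = (ρ * f) x := by rw [Perm.mul_apply, e, Perm.mul_apply]
          _ = (f * f) x := by rw [hρ f hf, Perm.mul_apply, e, Perm.mul_apply]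
          _ = x := by rw [h2 f hf, Perm.one_apply]
      calc ρ x = ρ ((ρ * ρ) x) := by rw [e2]
        _ = (ρ ^ 3) x := by rw [pow_succ, pow_two]; rfl
        _ = x := by rw [h3, Perm.one_apply]
    · exact h6
  rw [hidx] at ha
  have h7 : a + 1 ≤ 2 ^ a := Nat.lt_two_pow_self
  have ha' : a = 1 ∧ d = 4 := by
    have : d ≤ 4 := by omega
    omega
  obtain ⟨rfl, rfl⟩ := ha'
  rw [pow_one] at hao
  have hkey := key h2 hc hx
  have hlow := le_card_sat h2 hc x
  have hup := card_sat_le F (zpowers ρ) x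
  rw [hidx, hao] at hlow
  rw [hcL, hao] at hup
  have hsat : (sat F (zpowers ρ) x).ncard = 6 := by omega
  have h5 : (Nat.card F) ^ 2 = 2 ^ (4 * k) := by
    rw [hk, ← pow_mul, show (4 : ℕ) = 2 ^ 2 by norm_num, ← pow_mul]
    congr 1
    omega
  rw [hsat, h5, hd] at hkey
  have h8 : 1 < Nat.card (fx F (sat F (zpowers ρ) x)ᶜ) := by
    by_contra h9
    have h10 : Nat.card (fx F (sat F (zpowers ρ) x)ᶜ) ^ 2 ≤ 1 := by
      rw [show (1 : ℕ) = 1 ^ 2 by norm_num]
      exact Nat.pow_le_pow_left (by omega) 2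
    have h11 : (2 : ℕ) ^ (4 * k) * 2 ^ 6 ≤ 1 * 2 ^ (4 * k + 4) :=
      hkey.trans (Nat.mul_le_mul_right _ h10)
    rw [pow_add, one_mul] at h11
    have : 0 < (2 : ℕ) ^ (4 * k) := by positivity
    omega
  obtain ⟨⟨f, hf⟩, hf1⟩ : ∃ f : fx F (sat F (zpowers ρ) x)ᶜ, f ≠ 1 := by
    have : Nontrivial (fx F (sat F (zpowers ρ) x)ᶜ) := Finite.one_lt_card_iff_nontrivial.1 h8
    exact exists_ne 1
  have hfx : f x ≠ x := by
    intro h9
    apply hf1
    apply Subtype.ext
    refine Perm.ext fun y => ?_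
    by_cases hy : y ∈ sat F (zpowers ρ) x
    · exact (fix_sat h2 hc hy hf.1).2 h9
    · exact hf.2 y hy
  have hmoved : ∀ y, f y ≠ y ↔ y ∈ sat F (zpowers ρ) x := by
    intro y
    constructor
    · intro h9
      by_contra h10
      exact h9 (hf.2 y h10)
    · intro h9 h10
      exact hfx ((fix_sat h2 hc h9 hf.1).1 h10)
  have hs := sign_of_moved (h2 f hf.1) hmoved
  rw [hsat, hev f hf.1] at hs
  exact absurd hs (by decide)

/-- Lemma T -/
theorem card_mv_eq {β : Type*} [Fintype β] [DecidableEq β] {F L : Subgroup (Perm β)}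
    (h2 : ∀ f ∈ F, f * f = 1) (hev : ∀ f ∈ F, Perm.sign f = 1)
    (hc : ∀ l ∈ L, ∀ f ∈ F, l * f = f * l) {k r : ℕ} (hr : r ≠ 2)
    (hα : Nat.card β = 4 * k + r) (hk : Nat.card F = 4 ^ k)
    (e : L ≃* alternatingGroup (Fin r)) : (mv F).ncard = 4 * k := by
  have hge := four_mul_le h2 hk
  have hle := mv_le_card F
  rw [hα] at hle
  have heven := even_mv h2
  rcases Nat.lt_or_ge r 3 with hr3 | hr3
  · omega
  rcases Nat.lt_or_ge r 5 with hr5 | hr5
  · -- an element of order three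
    obtain ⟨σ, hσ3, hσ1⟩ : ∃ σ : alternatingGroup (Fin r), σ ^ 3 = 1 ∧ σ ≠ 1 := by
      have h34 : r = 3 ∨ r = 4 := by omega
      rcases h34 with rfl | rfl
      · exact ⟨⟨swap 0 1 * swap 1 2, Perm.mem_alternatingGroup.2 (by decide)⟩,
          by decide, by decide⟩
      · exact ⟨⟨swap 0 1 * swap 1 2, Perm.mem_alternatingGroup.2 (by decide)⟩,
          by decide, by decide⟩
    refine card_mv_three (ρ := (e.symm σ : L)) h2 hev ?_ ?_
      (fun f hf => hc _ (e.symm σ).2 f hf) (by omega) hα hk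
    · have h : (e.symm σ) ^ 3 = 1 := by rw [← map_pow, hσ3, map_one]
      have h' := congrArg (Subtype.val : L → Perm β) h
      exact h'
    · intro h
      apply hσ1
      have h' : e.symm σ = 1 := Subtype.ext h
      rw [← e.apply_symm_apply σ, h', map_one]
  · exact card_mv_five h2 hc hr5 hα hk e

end Cfsg.Agent.OddHalf.D5.Elem

end

-- merged: Cfsg.Agent.OddHalf.D5.ElemStd
section

/-!
# ODD D5, [O1]: the standard product of `k` four-groups (helper59)

`κ a` : the element of `V₄ ≤ Perm (Fin 4)` mapping `0` to `a`. `Qe e v` : the permutation of `β` acting as `κ (v i)` on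
the block `e (i, ·)`, `e : Fin k × Fin 4 ↪ β`. `IsStd e F` : `F = {Qe e v}`.
`exists_std`: `F` even, elementary abelian of order `4^k` moving `4k` points is standard.
`IsStd.exists_conj`: two standard groups are conjugate by an even permutation.
-/

set_option autoImplicit false

namespace Cfsg.Agent.OddHalf.D5.Elem

open Equiv Subgroup

/-- the four-group -/
def κ : Fin 4 → Perm (Fin 4) := ![1, swap 0 1 * swap 2 3, swap 0 2 * swap 1 3, swap 0 3 * swap 1 2]

theorem κ_zero (a : Fin 4) : κ a 0 = a := by revert a; decide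
theorem κ_mul (a b : Fin 4) : κ a * κ b = κ (κ a b) := by revert a b; decide
theorem κ_apply (a b c : Fin 4) : κ (κ a b) c = κ a (κ b c) := by revert a b c; decide
theorem κ_comm (a b : Fin 4) : κ a b = κ b a := by revert a b; decide
theorem κ_self (a : Fin 4) : κ a a = 0 := by revert a; decide
theorem κ_inj {a b : Fin 4} (h : κ a = κ b) : a = b := by revert a b; decide
theorem κ_zero' : κ 0 = 1 := by decide

section enum

/-- enumeration of an elementary abelian group of order four -/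
theorem klein_enum {G : Type*} [Group G] (K : Subgroup G) (h2 : ∀ f ∈ K, f * f = 1)
    (h4 : Nat.card K = 4) : ∃ c : Fin 4 → G, (∀ a, c a ∈ K) ∧ (∀ a b, c a * c b = c (κ a b)) ∧
      (∀ g ∈ K, ∃ a, g = c a) ∧ Function.Injective c ∧ c 0 = 1 := by
  have hfin : Finite K := Nat.finite_of_card_ne_zero (by rw [h4]; norm_num)
  obtain ⟨p, hp⟩ : ∃ p : K, p ≠ 1 := by
    have : Nontrivial K := Finite.one_lt_card_iff_nontrivial.1 (by omega)
    exact exists_ne 1
  obtain ⟨q, hq1, hqp⟩ : ∃ q : K, q ≠ 1 ∧ q ≠ p := by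
    by_contra hno
    push Not at hno
    have h5 : (Set.univ : Set K) ⊆ {1, p} := by
      intro x _
      by_cases hx : x = 1
      · exact Or.inl hx
      · exact Or.inr (hno x hx)
    have h6 := Set.ncard_le_ncard h5 (Set.toFinite _)
    rw [Set.ncard_univ, h4] at h6
    have h7 := Set.ncard_insert_le (1 : K) {p}
    rw [Set.ncard_singleton] at h7
    omega
  have hpp : (p : G) * p = 1 := h2 _ p.2
  have hqq : (q : G) * q = 1 := h2 _ q.2
  have hpq : (p : G) * q = q * p := comm_of_sq h2 _ p.2 _ q.2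
  have hp' : (p : G) ≠ 1 := fun h => hp (Subtype.ext h)
  have hq' : (q : G) ≠ 1 := fun h => hq1 (Subtype.ext h)
  have hpq' : (p : G) ≠ q := fun h => hqp (Subtype.ext h.symm)
  have hpi : (p : G)⁻¹ = p := inv_eq_of_mul_eq_one_left hpp
  have hqi : (q : G)⁻¹ = q := inv_eq_of_mul_eq_one_left hqq
  have hm : (p : G) * q ≠ 1 := fun h => hpq' (by rw [mul_eq_one_iff_eq_inv.1 h, hqi])
  have hmp : (p : G) * q ≠ p := fun h => hq' (mul_eq_left.1 h)
  have hmq : (p : G) * q ≠ q := fun h => hp' (mul_eq_right.1 h)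
  have hr1 : (p : G) * (p * q) = q := by rw [← mul_assoc, hpp, one_mul]
  have hr2 : (q : G) * (p * q) = p := by rw [hpq, ← mul_assoc, hqq, one_mul]
  have hr3 : (p : G) * q * p = q := by rw [hpq, mul_assoc, hpp, mul_one]
  have hr4 : (p : G) * q * q = p := by rw [mul_assoc, hqq, mul_one]
  have hr5 : (p : G) * q * (p * q) = 1 := by rw [mul_assoc, hr2, hpp]
  have hmem : ∀ a : Fin 4, (![(1 : G), p, q, p * q] : Fin 4 → G) a ∈ K := by
    intro a
    fin_cases a
    · exact one_mem _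
    · exact p.2
    · exact q.2
    · exact mul_mem p.2 q.2
  have hinj : Function.Injective (![(1 : G), p, q, p * q] : Fin 4 → G) := by
    intro a b hab
    fin_cases a <;> fin_cases b
    · rfl
    · exact (hp' hab.symm).elim
    · exact (hq' hab.symm).elim
    · exact (hm hab.symm).elim
    · exact (hp' hab).elim
    · rfl
    · exact (hpq' hab).elim
    · exact (hmp hab.symm).elim
    · exact (hq' hab).elim
    · exact (hpq' hab.symm).elim
    · rfl
    · exact (hmq hab.symm).elim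
    · exact (hm hab).elim
    · exact (hmp hab).elim
    · exact (hmq hab).elim
    · rfl
  refine ⟨![1, p, q, p * q], hmem, ?_, ?_, hinj, rfl⟩
  · intro a b
    have hk : ∀ a b : Fin 4, κ a b = ![![0, 1, 2, 3], ![1, 0, 3, 2], ![2, 3, 0, 1], ![3, 2, 1, 0]] a b := by
      decide
    rw [hk]
    fin_cases a <;> fin_cases b
    · exact one_mul _
    · exact one_mul _
    · exact one_mul _
    · exact one_mul _
    · exact mul_one _
    · exact hpp
    · exact rfl
    · exact hr1
    · exact mul_one _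
    · exact hpq.symm
    · exact hqq
    · exact hr2
    · exact mul_one _
    · exact hr3
    · exact hr4
    · exact hr5
  · intro g hg
    have hbij : Function.Bijective
        (fun a : Fin 4 => (⟨_, hmem a⟩ : K)) := by
      have : Fintype K := Fintype.ofFinite K
      rw [Fintype.bijective_iff_injective_and_card]
      refine ⟨fun a b h => hinj (congrArg Subtype.val h), ?_⟩
      rw [Fintype.card_fin, ← Nat.card_eq_fintype_card, h4]
    obtain ⟨a, ha⟩ := hbij.2 ⟨g, hg⟩
    exact ⟨a, (congrArg Subtype.val ha).symm⟩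

end enum

variable {β : Type*}

/-- the element acting as `κ (v i)` on the block `e (i, ·)` -/
noncomputable def Qe {k : ℕ} (e : Fin k × Fin 4 ↪ β) (v : Fin k → Fin 4) : Perm β :=
  Perm.viaEmbedding (Equiv.prodCongrRight fun i => κ (v i)) e

theorem Qe_apply {k : ℕ} (e : Fin k × Fin 4 ↪ β) (v : Fin k → Fin 4) (i : Fin k) (w : Fin 4) :
    Qe e v (e (i, w)) = e (i, κ (v i) w) :=
  Perm.viaEmbedding_apply _ _ _

theorem Qe_off {k : ℕ} (e : Fin k × Fin 4 ↪ β) (v : Fin k → Fin 4) {x : β}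
    (hx : x ∉ Set.range e) : Qe e v x = x :=
  Perm.viaEmbedding_apply_of_notMem _ _ _ hx

theorem eq_Qe {k : ℕ} {e : Fin k × Fin 4 ↪ β} {v : Fin k → Fin 4} {f : Perm β}
    (h1 : ∀ i w, f (e (i, w)) = e (i, κ (v i) w)) (h2 : ∀ x ∉ Set.range e, f x = x) :
    f = Qe e v := by
  refine Perm.ext fun x => ?_
  by_cases hx : x ∈ Set.range e
  · obtain ⟨⟨i, w⟩, rfl⟩ := hx
    rw [h1, Qe_apply]
  · rw [h2 x hx, Qe_off e v hx]

theorem Qe_mul {k : ℕ} (e : Fin k × Fin 4 ↪ β) (v w : Fin k → Fin 4) :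
    Qe e v * Qe e w = Qe e fun i => κ (v i) (w i) := by
  refine eq_Qe (fun i x => ?_) fun x hx => ?_
  · rw [Perm.mul_apply, Qe_apply, Qe_apply, κ_apply]
  · rw [Perm.mul_apply, Qe_off e w hx, Qe_off e v hx]

theorem Qe_inj {k : ℕ} (e : Fin k × Fin 4 ↪ β) {v w : Fin k → Fin 4} (h : Qe e v = Qe e w) :
    v = w := by
  funext i
  have h1 : Qe e v (e (i, 0)) = Qe e w (e (i, 0)) := by rw [h]
  rw [Qe_apply, Qe_apply, κ_zero, κ_zero] at h1
  exact (Prod.ext_iff.1 (e.injective h1)).2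

theorem Qe_zero {k : ℕ} (e : Fin k × Fin 4 ↪ β) : Qe e (fun _ => 0) = 1 := by
  refine (eq_Qe (fun i w => ?_) fun x _ => ?_).symm
  · rw [κ_zero']
    rfl
  · rfl

theorem Qe_sq {k : ℕ} (e : Fin k × Fin 4 ↪ β) (v : Fin k → Fin 4) : Qe e v * Qe e v = 1 := by
  rw [Qe_mul, ← Qe_zero e]
  congr 1
  funext i
  exact κ_self _

/-- the standard product of `k` four-groups -/
def IsStd {k : ℕ} (e : Fin k × Fin 4 ↪ β) (F : Subgroup (Perm β)) : Prop :=
  ∀ f, f ∈ F ↔ ∃ v, f = Qe e v

theorem IsStd.mem {k : ℕ} {e : Fin k × Fin 4 ↪ β} {F : Subgroup (Perm β)} (h : IsStd e F)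
    (v : Fin k → Fin 4) : Qe e v ∈ F := (h _).2 ⟨v, rfl⟩

theorem IsStd.range_subset {k : ℕ} {e : Fin k × Fin 4 ↪ β} {F : Subgroup (Perm β)}
    (h : IsStd e F) : Set.range e ⊆ mv F := by
  rintro _ ⟨⟨i, w⟩, rfl⟩
  refine ⟨_, h.mem fun _ => 1, fun h1 => ?_⟩
  rw [Qe_apply] at h1
  have h2 := (Prod.ext_iff.1 (e.injective h1)).2
  revert h2
  exact (by decide : ∀ w : Fin 4, κ 1 w = w → False) w

/-- classification -/
theorem exists_std [Fintype β] [DecidableEq β] : ∀ (k : ℕ) (F : Subgroup (Perm β))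
    (_ : ∀ f ∈ F, f * f = 1) (_ : ∀ f ∈ F, Perm.sign f = 1) (_ : Nat.card F = 4 ^ k)
    (_ : (mv F).ncard = 4 * k), ∃ e : Fin k × Fin 4 ↪ β, IsStd e F
  | 0, F, h2, hev, hc, hm => by
    refine ⟨⟨fun p => p.1.elim0, fun p => p.1.elim0⟩, fun f => ?_⟩
    rw [pow_zero, Subgroup.card_eq_one] at hc
    rw [hc, Subgroup.mem_bot]
    constructor
    · rintro rfl
      exact ⟨fun i => i.elim0, (eq_Qe (fun i => i.elim0) fun _ _ => rfl)⟩
    · rintro ⟨v, rfl⟩
      refine Perm.ext fun x => Qe_off _ _ ?_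
      rintro ⟨⟨i, _⟩, _⟩
      exact i.elim0
  | k + 1, F, h2, hev, hc, hm => by
    obtain ⟨x, hx⟩ : (mv F).Nonempty := by
      rw [← Set.ncard_pos (Set.toFinite _), hm]
      omega
    have hcb : ∀ l ∈ (⊥ : Subgroup (Perm β)), ∀ f ∈ F, l * f = f * l := by
      intro l hl f _
      rw [Subgroup.mem_bot.1 hl, one_mul, mul_one]
    have hsat : sat F ⊥ x = orb F x := by
      ext y
      constructor
      · rintro ⟨l, hl, f, hf, rfl⟩
        rw [Subgroup.mem_bot.1 hl]
        exact ⟨f, hf, rfl⟩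
      · rintro ⟨f, hf, rfl⟩
        exact ⟨1, one_mem _, f, hf, rfl⟩
    obtain ⟨a, ha1, hao, ha⟩ := key_ineq (d := 0) h2 hcb hc (by rw [hm, add_zero]) hx
    rw [Subgroup.relIndex_bot_right, one_mul] at ha
    have ha2 : a ≤ 2 := by
      by_contra h0
      obtain ⟨b, rfl⟩ : ∃ b, a = b + 3 := ⟨a - 3, by omega⟩
      have h3 : b + 1 ≤ 2 ^ b := Nat.lt_two_pow_self
      rw [pow_add] at ha
      omega
    have hkey := key h2 hcb hx
    have hup := card_fx_compl_le h2 hcb x
    rw [hsat] at hkey hup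
    rw [hao] at hkey hup
    have h5 : (Nat.card F) ^ 2 = 2 ^ (4 * (k + 1)) := by
      rw [hc, ← pow_mul, show (4 : ℕ) = 2 ^ 2 by norm_num, ← pow_mul]
      congr 1
      omega
    rw [hm, h5, mul_comm] at hkey
    have hlow := Nat.le_of_mul_le_mul_right hkey (by positivity)
    set K := fx F (orb F x)ᶜ with hK
    have hK2 : ∀ f ∈ K, f * f = 1 := fun f hf => h2 f hf.1
    -- `a = 2`
    have ha3 : a = 2 := by
      by_contra h0
      have ha4 : a = 1 := by omega
      subst ha4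
      have h8 : 1 < Nat.card K := by
        by_contra h9
        have h10 : Nat.card K ^ 2 ≤ 1 ^ 2 := Nat.pow_le_pow_left (by omega) 2
        rw [one_pow] at h10
        have h11 : (2 : ℕ) ^ 2 ^ 1 = 4 := by norm_num
        rw [h11] at hlow
        omega
      obtain ⟨⟨f, hf⟩, hf1⟩ : ∃ f : K, f ≠ 1 := by
        have : Nontrivial K := Finite.one_lt_card_iff_nontrivial.1 h8
        exact exists_ne 1
      have hfx : f x ≠ x := by
        intro h9
        apply hf1
        apply Subtype.ext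
        refine Perm.ext fun y => ?_
        by_cases hy : y ∈ orb F x
        · rw [← hsat] at hy
          exact (fix_sat h2 hcb hy hf.1).2 h9
        · exact hf.2 y hy
      have hmoved : ∀ y, f y ≠ y ↔ y ∈ orb F x := by
        intro y
        constructor
        · intro h9
          by_contra h10
          exact h9 (hf.2 y h10)
        · intro h9 h10
          rw [← hsat] at h9
          exact hfx ((fix_sat h2 hcb h9 hf.1).1 h10)
      have hs := sign_of_moved (h2 f hf.1) hmoved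
      rw [hao, hev f hf.1] at hs
      exact absurd hs (by decide)
    subst ha3
    have hK4 : Nat.card K = 4 := by
      have h9 : (4 : ℕ) ^ 2 ≤ Nat.card K ^ 2 := by
        norm_num at hlow ⊢
        exact hlow
      have h10 := (Nat.pow_le_pow_iff_left (by norm_num)).1 h9
      norm_num at hup
      omega
    obtain ⟨c, hcK, hcm, hcs, hci, hc0⟩ := klein_enum K hK2 hK4
    have hKx : ∀ f ∈ K, f x = x → f = 1 := by
      intro f hf h9
      refine Perm.ext fun y => ?_
      by_cases hy : y ∈ orb F x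
      · rw [← hsat] at hy
        exact (fix_sat h2 hcb hy hf.1).2 h9
      · exact hf.2 y hy
    have hcx : Function.Injective fun w => c w x := by
      intro w w' hww
      apply hci
      have h9 : (c w')⁻¹ * c w = 1 := hKx _ (mul_mem (inv_mem (hcK _)) (hcK _)) (by
        have h10 : c w x = c w' x := hww
        rw [Perm.mul_apply, h10, inv_self])
      exact (inv_mul_eq_one.1 h9).symm
    have horb : ∀ y, y ∈ orb F x ↔ ∃ w, c w x = y := by
      have h9 : Set.range (fun w => c w x) = orb F x := by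
        apply Set.eq_of_subset_of_ncard_le
        · rintro _ ⟨w, rfl⟩
          exact ⟨c w, (hcK w).1, rfl⟩
        · rw [hao, ← Set.image_univ, Set.ncard_image_of_injective _ hcx, Set.ncard_univ]
          simp
        · exact Set.toFinite _
      intro y
      rw [← h9]
      exact Iff.rfl
    -- the stabilizer
    have hFx := card_eq F x
    rw [hao, hc, pow_succ, mul_comm] at hFx
    have hFx' : Nat.card (fx F {x}) = 4 ^ k := by
      have := Nat.eq_of_mul_eq_mul_left (by norm_num) (hFx : 4 * 4 ^ k = 4 * Nat.card (fx F {x}))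
      exact this.symm
    have hm1 : (mv (fx F {x})).ncard ≤ (mv F \ orb F x).ncard :=
      Set.ncard_le_ncard (fun y hy => ⟨mv_mono (fx_le F _) hy, fun h => disjoint_mv_fx h2 h hy⟩)
        (Set.toFinite _)
    have hm2 := Set.ncard_sdiff_add_ncard_of_subset (orb_subset_mv h2 hx) (Set.toFinite _)
    have hm3 := four_mul_le (fun f hf => h2 f hf.1 : ∀ f ∈ fx F {x}, f * f = 1) hFx'
    rw [hm, hao] at hm2
    obtain ⟨e', he'⟩ := exists_std k (fx F {x}) (fun f hf => h2 f hf.1) (fun f hf => hev f hf.1)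
      hFx' (by norm_num at hm2; omega)
    have hdis : ∀ i w, e' (i, w) ∉ orb F x := fun i w h =>
      disjoint_mv_fx h2 h (he'.range_subset ⟨(i, w), rfl⟩)
    let g : Fin (k + 1) × Fin 4 → β := fun p => Fin.cases (c p.2 x) (fun i => e' (i, p.2)) p.1
    have hg0 : ∀ w, g (0, w) = c w x := fun _ => rfl
    have hgs : ∀ i w, g (Fin.succ i, w) = e' (i, w) := fun _ _ => rfl
    have hginj : Function.Injective g := by
      rintro ⟨i, w⟩ ⟨j, w'⟩ h
      refine Fin.cases ?_ (fun i => ?_) i h <;> refine Fin.cases ?_ (fun j => ?_) j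
      · intro h
        rw [hg0, hg0] at h
        rw [hcx h]
      · intro h
        rw [hg0, hgs] at h
        exact absurd ((horb _).2 ⟨w, h⟩) (hdis j w')
      · intro h
        rw [hg0, hgs] at h
        exact absurd ((horb _).2 ⟨w', h.symm⟩) (hdis i w)
      · intro h
        rw [hgs, hgs] at h
        have h9 := Prod.ext_iff.1 (e'.injective h)
        have h10 : i = j := h9.1
        have h11 : w = w' := h9.2
        rw [h10, h11]
    have hprod : ∀ (b : Fin 4) (v : Fin k → Fin 4),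
        c b * Qe e' v = Qe ⟨g, hginj⟩ (Fin.cons b v : Fin (k + 1) → Fin 4) := by
      intro b v
      refine eq_Qe (fun i w => ?_) fun y hy => ?_
      · show (c b * Qe e' v) (g (i, w)) = g (i, κ ((Fin.cons b v : Fin (k + 1) → Fin 4) i) w)
        refine Fin.cases ?_ (fun i => ?_) i
        · rw [hg0, hg0, Fin.cons_zero, ← hcm, Perm.mul_apply, Perm.mul_apply, Qe_off]
          rintro ⟨⟨i, w'⟩, h⟩
          exact hdis i w' ((horb _).2 ⟨w, h.symm⟩)
        · rw [hgs, hgs, Fin.cons_succ, Perm.mul_apply, Qe_apply]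
          exact (hcK b).2 _ (hdis _ _)
      · rw [Perm.mul_apply, Qe_off]
        · refine (hcK b).2 y fun h => hy ?_
          obtain ⟨w, hw⟩ := (horb _).1 h
          exact ⟨(0, w), hw⟩
        · rintro ⟨⟨i, w⟩, h⟩
          exact hy ⟨(Fin.succ i, w), h⟩
    refine ⟨⟨g, hginj⟩, fun f => ⟨fun hf => ?_, ?_⟩⟩
    · obtain ⟨b, hb⟩ := (horb (f x)).1 ⟨f, hf, rfl⟩
      have h9 : (c b)⁻¹ * f ∈ fx F {x} := by
        refine ⟨mul_mem (inv_mem (hcK b).1) hf, fun y hy => ?_⟩
        rw [Set.mem_singleton_iff.1 hy, Perm.mul_apply, ← hb, inv_self]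
      obtain ⟨v, hv⟩ := (he' _).1 h9
      exact ⟨(Fin.cons b v : Fin (k + 1) → Fin 4), by rw [← hprod, ← hv, mul_inv_cancel_left]⟩
    · rintro ⟨v, rfl⟩
      have h9 : v = (Fin.cons (v 0) (fun i => v (Fin.succ i)) : Fin (k + 1) → Fin 4) :=
        (Fin.cons_self_tail v).symm
      rw [h9, ← hprod]
      exact mul_mem (hcK _).1 (he'.mem _).1

/-- two embeddings differ by a permutation -/
theorem exists_perm_of_emb {γ : Type*} [Fintype β] [DecidableEq β] [Finite γ] (e e' : γ ↪ β) :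
    ∃ σ : Perm β, ∀ x, σ (e x) = e' x := by
  classical
  have : Fintype γ := Fintype.ofFinite γ
  let E : {x // x ∈ Set.range e} ≃ {x // x ∈ Set.range e'} :=
    (Equiv.ofInjective e e.injective).symm.trans (Equiv.ofInjective e' e'.injective)
  refine ⟨E.extendSubtype, fun x => ?_⟩
  rw [Equiv.extendSubtype_apply_of_mem _ _ ⟨x, rfl⟩]
  show ((Equiv.ofInjective e' e'.injective)
    ((Equiv.ofInjective e e.injective).symm ⟨e x, ⟨x, rfl⟩⟩) : β) = e' x
  rw [Equiv.ofInjective_symm_apply]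
  rfl

theorem Qe_conj {k : ℕ} {e e' : Fin k × Fin 4 ↪ β} {σ : Perm β} (h : ∀ x, σ (e x) = e' x)
    (v : Fin k → Fin 4) : σ * Qe e v * σ⁻¹ = Qe e' v := by
  refine eq_Qe (fun i w => ?_) fun x hx => ?_
  · rw [← h, Perm.mul_apply, inv_self, Perm.mul_apply, Qe_apply, h]
  · rw [Perm.mul_apply, Perm.mul_apply, Qe_off, self_inv]
    rintro ⟨y, hy⟩
    exact hx ⟨y, by rw [← h, hy, self_inv]⟩

theorem IsStd.exists_conj [Fintype β] [DecidableEq β] {k : ℕ} {e e' : Fin (k + 1) × Fin 4 ↪ β}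
    {F F' : Subgroup (Perm β)} (h : IsStd e F) (h' : IsStd e' F') :
    ∃ σ : Perm β, Perm.sign σ = 1 ∧ ∀ f, f ∈ F → σ * f * σ⁻¹ ∈ F' := by
  obtain ⟨σ, hσ⟩ := exists_perm_of_emb e e'
  rcases Int.units_eq_one_or (Perm.sign σ) with hs | hs
  · refine ⟨σ, hs, fun f hf => ?_⟩
    obtain ⟨v, rfl⟩ := (h f).1 hf
    rw [Qe_conj hσ]
    exact h'.mem v
  · -- correct by a transposition inside a block
    have hne : e' (0, 0) ≠ e' (0, 1) := fun h1 => by
      have h2 := (Prod.ext_iff.1 (e'.injective h1)).2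
      exact absurd h2 (by decide : ¬ (0 : Fin 4) = 1)
    set τ : Perm β := swap (e' (0, 0)) (e' (0, 1)) with hτ
    have hτe : ∀ p : Fin (k + 1) × Fin 4, τ (e' p) = e' (swap (0, 0) (0, 1) p) := by
      intro p
      rw [hτ]
      exact (e'.injective.map_swap (f := e') _ _ _).symm
    have hττ : τ * τ = 1 := swap_mul_self _ _
    have hτi : τ⁻¹ = τ := inv_eq_of_mul_eq_one_left hττ
    refine ⟨τ * σ, by rw [Perm.sign_mul, hs, hτ, Perm.sign_swap hne]; decide, fun f hf => ?_⟩
    obtain ⟨v, rfl⟩ := (h f).1 hf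
    have h1 : τ * σ * Qe e v * (τ * σ)⁻¹ = τ * (σ * Qe e v * σ⁻¹) * τ := by
      rw [mul_inv_rev, hτi]
      group
    rw [h1, Qe_conj hσ]
    have hπ : ∀ a : Fin 4, ∃ b : Fin 4, ∀ w, swap 0 1 (κ a (swap 0 1 w)) = κ b w := by decide
    obtain ⟨b, hb⟩ := hπ (v 0)
    have h2 : τ * Qe e' v * τ = Qe e' (Function.update v 0 b) := by
      have hoff : ∀ x, x ∉ Set.range e' → τ x = x := by
        intro x hx
        rw [hτ]
        exact swap_apply_of_ne_of_ne (fun h3 => hx ⟨_, h3.symm⟩) (fun h3 => hx ⟨_, h3.symm⟩)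
      refine eq_Qe (fun i w => ?_) fun x hx => ?_
      · by_cases hi : i = 0
        · subst hi
          have h3 : ∀ w : Fin 4, swap ((0 : Fin (k + 1)), (0 : Fin 4)) (0, 1) (0, w) =
              (0, swap 0 1 w) := by
            intro w
            have := (show Function.Injective (fun w : Fin 4 => ((0 : Fin (k + 1)), w)) from
              fun a b h => (Prod.ext_iff.1 h).2).map_swap 0 1 w
            exact this.symm
          rw [Function.update_self, Perm.mul_apply, Perm.mul_apply, hτe, h3, Qe_apply, hτe, h3, hb]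
        · have h3 : ∀ w : Fin 4, swap ((0 : Fin (k + 1)), (0 : Fin 4)) (0, 1) (i, w) = (i, w) :=
            fun w => swap_apply_of_ne_of_ne (fun h => hi (Prod.ext_iff.1 h).1)
              (fun h => hi (Prod.ext_iff.1 h).1)
          rw [Function.update_of_ne hi, Perm.mul_apply, Perm.mul_apply, hτe, h3, Qe_apply, hτe, h3]
      · rw [Perm.mul_apply, Perm.mul_apply, hoff x hx, Qe_off _ _ hx, hoff x hx]
    rw [h2]
    exact h'.mem _

/-- LEMMA T, final form: an even elementary abelian group of order `4^k` on `4k + r` points, `r ≠ 2`,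
centralized by a copy of `A_r`, is standard. -/
theorem exists_std_of_comm [Fintype β] [DecidableEq β] {F L : Subgroup (Perm β)}
    (h2 : ∀ f ∈ F, f * f = 1) (hev : ∀ f ∈ F, Perm.sign f = 1)
    (hc : ∀ l ∈ L, ∀ f ∈ F, l * f = f * l) {k r : ℕ} (hr : r ≠ 2)
    (hα : Nat.card β = 4 * k + r) (hk : Nat.card F = 4 ^ k)
    (e : L ≃* alternatingGroup (Fin r)) : ∃ e : Fin k × Fin 4 ↪ β, IsStd e F :=
  exists_std k F h2 hev hk (card_mv_eq h2 hev hc hr hα hk e)

end Cfsg.Agent.OddHalf.D5.Elem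

end

-- merged: Cfsg.Agent.OddHalf.D5.ElemNorm
section

/-!
# ODD D5, [O1]: `N_G(E)` moves `t` (helper59)

`EE h e = ⟨t⟩ × ι(V₁ ⋯ V_k)`. `exists_norm`: if `t ι(Qe e v)` is conjugate to `t`, `n - 4k ≠ 2`, then some `g` normalizes `EE h e` and maps `t` to `t ι(Qe e v)`.
-/

set_option autoImplicit false

namespace Cfsg.Agent.OddHalf.D5.Elem

open Equiv Subgroup

section perm

variable {β : Type*} [Fintype β] [DecidableEq β]

theorem sign_via {γ : Type*} [Fintype γ] [DecidableEq γ] (e : γ ↪ β) (σ : Perm γ) :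
    Perm.sign (Perm.viaEmbeddingHom e σ) = Perm.sign σ := by
  rw [Perm.viaEmbeddingHom_apply, Perm.viaEmbedding]
  convert Perm.sign_extendDomain σ (ofInjective e.1 e.2)

theorem sign_Qe {k : ℕ} (e : Fin k × Fin 4 ↪ β) (v : Fin k → Fin 4) :
    Perm.sign (Qe e v) = 1 := by
  have hρ : ∀ a : Fin 4, ∃ s : Perm (Fin 4), s * s = κ a := by decide
  choose ρ hρ using hρ
  have h1 : Qe e v = Perm.viaEmbeddingHom e (Equiv.prodCongrRight fun i => ρ (v i)) *
      Perm.viaEmbeddingHom e (Equiv.prodCongrRight fun i => ρ (v i)) := by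
    rw [← map_mul, Perm.viaEmbeddingHom_apply]
    show Perm.viaEmbedding _ _ = _
    congr 1
    refine Equiv.ext fun p => ?_
    show (p.1, κ (v p.1) p.2) = (p.1, ρ (v p.1) (ρ (v p.1) p.2))
    rw [← hρ, Perm.mul_apply]
  rw [h1, Perm.sign_mul]
  exact Int.units_mul_self _

omit [Fintype β] [DecidableEq β] in
/-- permutations with support in the range and off the range commute -/
theorem comm_of_off {f g : Perm β} {S : Set β} (hf : ∀ x ∉ S, f x = x) (hg : ∀ x ∈ S, g x = x) :
    f * g = g * f := by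
  refine Perm.ext fun x => ?_
  rw [Perm.mul_apply, Perm.mul_apply]
  by_cases hx : x ∈ S
  · rw [hg x hx]
    have h1 : f x ∈ S := by
      by_contra h2
      have h3 := hf _ h2
      exact h2 (by rw [f.injective h3]; exact hx)
    rw [hg _ h1]
  · rw [hf x hx]
    have h1 : g x ∉ S := by
      intro h2
      have h3 := hg _ h2
      exact hx (by rw [← g.injective h3]; exact h2)
    rw [hf _ h1]

end perm

variable {G : Type*} [Group G] {n k : ℕ} {t : G} {ι : An n →* G}

/-- `Qe` as an element of the alternating group -/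
noncomputable def QA (e : Fin k × Fin 4 ↪ Fin n) (v : Fin k → Fin 4) : An n :=
  ⟨Qe e v, Perm.mem_alternatingGroup.2 (sign_Qe e v)⟩

theorem QA_coe (e : Fin k × Fin 4 ↪ Fin n) (v : Fin k → Fin 4) : ((QA e v : An n) : Perm (Fin n)) = Qe e v :=
  rfl

theorem QA_mul (e : Fin k × Fin 4 ↪ Fin n) (v w : Fin k → Fin 4) :
    QA e v * QA e w = QA e fun i => κ (v i) (w i) := Subtype.ext (Qe_mul e v w)

theorem QA_sq (e : Fin k × Fin 4 ↪ Fin n) (v : Fin k → Fin 4) : QA e v * QA e v = 1 :=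
  Subtype.ext (Qe_sq e v)

theorem QA_zero (e : Fin k × Fin 4 ↪ Fin n) : QA e (fun _ => 0) = 1 := Subtype.ext (Qe_zero e)

theorem QA_inj (e : Fin k × Fin 4 ↪ Fin n) {v w : Fin k → Fin 4} (h : QA e v = QA e w) : v = w :=
  Qe_inj e (congrArg Subtype.val h)

theorem QA_comm (e : Fin k × Fin 4 ↪ Fin n) (v w : Fin k → Fin 4) :
    QA e v * QA e w = QA e w * QA e v := by
  rw [QA_mul, QA_mul]
  congr 1
  funext i
  exact κ_comm _ _

/-- `⟨t⟩ × ι(V₁ ⋯ V_k)` -/
def EE (h : Spl t (An n) ι) (e : Fin k × Fin 4 ↪ Fin n) : Subgroup G where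
  carrier := {x | ∃ v, x = ι (QA e v) ∨ x = t * ι (QA e v)}
  one_mem' := ⟨fun _ => 0, Or.inl (by rw [QA_zero, map_one])⟩
  mul_mem' := by
    rintro x y ⟨v, hv⟩ ⟨w, hw⟩
    refine ⟨fun i => κ (v i) (w i), ?_⟩
    rw [← QA_mul, map_mul]
    rcases hv with rfl | rfl <;> rcases hw with rfl | rfl
    · exact Or.inl rfl
    · right
      rw [← mul_assoc, h.comm', mul_assoc]
    · right
      rw [mul_assoc]
    · left
      rw [mul_assoc, ← mul_assoc (ι _) t, h.comm', mul_assoc, ← mul_assoc t t, h.tt, one_mul]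
  inv_mem' := by
    rintro x ⟨v, hv⟩
    refine ⟨v, ?_⟩
    have h1 : (ι (QA e v))⁻¹ = ι (QA e v) := by
      rw [inv_eq_iff_mul_eq_one, ← map_mul, QA_sq, map_one]
    rcases hv with rfl | rfl
    · exact Or.inl h1
    · right
      rw [mul_inv_rev, h1, h.t_inv, h.comm']

theorem mem_EE {h : Spl t (An n) ι} {e : Fin k × Fin 4 ↪ Fin n} {x : G} :
    x ∈ EE h e ↔ ∃ v, x = ι (QA e v) ∨ x = t * ι (QA e v) := Iff.rfl

theorem t_mem_EE (h : Spl t (An n) ι) (e : Fin k × Fin 4 ↪ Fin n) : t ∈ EE h e :=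
  ⟨fun _ => 0, Or.inr (by rw [QA_zero, map_one, mul_one])⟩

theorem iota_mem_EE (h : Spl t (An n) ι) (e : Fin k × Fin 4 ↪ Fin n) (v : Fin k → Fin 4) :
    ι (QA e v) ∈ EE h e := ⟨v, Or.inl rfl⟩

theorem tiota_mem_EE (h : Spl t (An n) ι) (e : Fin k × Fin 4 ↪ Fin n) (v : Fin k → Fin 4) :
    t * ι (QA e v) ∈ EE h e := ⟨v, Or.inr rfl⟩

theorem EE_sq (h : Spl t (An n) ι) (e : Fin k × Fin 4 ↪ Fin n) : ∀ x ∈ EE h e, x * x = 1 := by
  rintro x ⟨v, rfl | rfl⟩
  · rw [← map_mul, QA_sq, map_one]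
  · rw [mul_assoc, ← mul_assoc (ι _) t, h.comm', mul_assoc, ← mul_assoc t t, h.tt, one_mul,
      ← map_mul, QA_sq, map_one]

/-- the embedding of the remaining letters -/
theorem exists_rest (e : Fin k × Fin 4 ↪ Fin n) {r : ℕ} (hn : n = 4 * k + r) :
    ∃ e' : Fin r ↪ Fin n, Set.range e' = (Set.range e)ᶜ := by
  classical
  have h1 : Nat.card ((Set.range e)ᶜ : Set (Fin n)) = r := by
    rw [Nat.card_coe_set_eq]
    have h2 := Set.ncard_add_ncard_compl (Set.range e) (Set.toFinite _) (Set.toFinite _)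
    have h3 : (Set.range e).ncard = k * 4 := by
      rw [← Set.image_univ, Set.ncard_image_of_injective _ e.injective, Set.ncard_univ,
        Nat.card_prod, Nat.card_fin, Nat.card_fin]
    rw [Nat.card_fin] at h2
    omega
  let E : Fin r ≃ ((Set.range e)ᶜ : Set (Fin n)) := by
    rw [← h1]
    exact (Finite.equivFin _).symm
  refine ⟨⟨fun i => (E i : Fin n), fun i j hij => E.injective (Subtype.ext hij)⟩, ?_⟩
  ext x
  constructor
  · rintro ⟨i, rfl⟩
    exact (E i).2
  · intro hx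
    exact ⟨E.symm ⟨x, hx⟩, by
      show ((E (E.symm ⟨x, hx⟩) : ((Set.range e)ᶜ : Set (Fin n))) : Fin n) = x
      rw [Equiv.apply_symm_apply]⟩

/-- the alternating group on the letters `e'` -/
noncomputable def restHom {r : ℕ} (e' : Fin r ↪ Fin n) : alternatingGroup (Fin r) →* An n where
  toFun b := ⟨Perm.viaEmbeddingHom e' b, by
    rw [Perm.mem_alternatingGroup, sign_via]
    exact Perm.mem_alternatingGroup.1 b.2⟩
  map_one' := Subtype.ext (by
    show Perm.viaEmbeddingHom e' 1 = 1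
    rw [map_one])
  map_mul' a b := Subtype.ext (by
    show Perm.viaEmbeddingHom e' (a * b) = Perm.viaEmbeddingHom e' a * Perm.viaEmbeddingHom e' b
    rw [map_mul])

theorem restHom_inj {r : ℕ} (e' : Fin r ↪ Fin n) : Function.Injective (restHom e') := by
  intro a b hab
  exact Subtype.ext (Perm.viaEmbeddingHom_injective e' (congrArg Subtype.val hab))

theorem restHom_comm {r : ℕ} {e' : Fin r ↪ Fin n} {e : Fin k × Fin 4 ↪ Fin n}
    (he : Set.range e' = (Set.range e)ᶜ) (b : alternatingGroup (Fin r)) (v : Fin k → Fin 4) :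
    restHom e' b * QA e v = QA e v * restHom e' b := by
  apply Subtype.ext
  show Perm.viaEmbeddingHom e' b * Qe e v = Qe e v * Perm.viaEmbeddingHom e' b
  refine comm_of_off (S := (Set.range e)ᶜ) ?_ ?_
  · intro x hx
    rw [← he] at hx
    exact Perm.viaEmbedding_apply_of_notMem _ _ _ hx
  · intro x hx
    exact Qe_off e v hx

theorem exists_norm (h : Spl t (An n) ι) (e : Fin (k + 1) × Fin 4 ↪ Fin n) {r : ℕ} (hr : r ≠ 2)
    (hn : n = 4 * (k + 1) + r) {v : Fin (k + 1) → Fin 4}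
    (hd : IsConj t (t * ι (QA e v))) :
    ∃ g : G, g * t * g⁻¹ = t * ι (QA e v) ∧ ∀ x, x ∈ EE h e → g * x * g⁻¹ ∈ EE h e := by
  classical
  obtain ⟨g₀, hg₀⟩ := isConj_iff.1 hd
  set d := t * ι (QA e v) with hdef
  let j : An n →* G := (MulAut.conj g₀).toMonoidHom.comp ι
  have hS : Spl d (An n) j := by rw [← hg₀]; exact h.conj g₀
  have hjinj : Function.Injective j := hS.inj
  have hdE : d ∈ EE h e := tiota_mem_EE h e v
  have hEc : ∀ x ∈ EE h e, x * d = d * x := fun x hx => comm_of_sq (EE_sq h e) x hx d hdE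
  -- `A v`
  have hdj : ∀ a, j a ≠ d := hS.ne
  have hA : ∀ w, ∃ a, j a = ι (QA e w) ∨ j a = d * ι (QA e w) := by
    intro w
    obtain ⟨a, ha | ha⟩ := hS.cases (hEc _ (iota_mem_EE h e w))
    · exact ⟨a, Or.inl ha.symm⟩
    · exact ⟨a, Or.inr (by rw [ha, ← mul_assoc, hS.tt, one_mul])⟩
  choose A hA using hA
  have hAE : ∀ w, j (A w) ∈ EE h e := by
    intro w
    rcases hA w with h1 | h1
    · rw [h1]; exact iota_mem_EE h e w
    · rw [h1]; exact mul_mem hdE (iota_mem_EE h e w)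
  let F : Subgroup (Perm (Fin n)) := ((EE h e).comap j).map (An n).subtype
  have hF : ∀ f, f ∈ F ↔ ∃ a : An n, (a : Perm (Fin n)) = f ∧ j a ∈ EE h e := by
    intro f
    constructor
    · rintro ⟨a, ha, rfl⟩
      exact ⟨a, rfl, ha⟩
    · rintro ⟨a, rfl, ha⟩
      exact ⟨a, ha, rfl⟩
  have hdv : ∀ w, t * ι (QA e w) = d * ι (QA e v * QA e w) := by
    intro w
    rw [hdef, map_mul, mul_assoc, ← mul_assoc (ι (QA e v)), ← map_mul, QA_sq, map_one, one_mul]
  have hsurj : ∀ a : An n, j a ∈ EE h e → ∃ w, A w = a := by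
    intro a ha
    have key : ∀ w, (j a = ι (QA e w) ∨ j a = d * ι (QA e w)) → A w = a := by
      intro w hw
      rcases hA w with h1 | h1 <;> rcases hw with h2 | h2
      · exact hjinj (h1.trans h2.symm)
      · exfalso
        apply hdj (a * (A w)⁻¹)
        rw [map_mul, map_inv, h1, h2, mul_inv_cancel_right]
      · exfalso
        apply hdj ((A w) * a⁻¹)
        rw [map_mul, map_inv, h1, h2, mul_inv_cancel_right]
      · exact hjinj (h1.trans h2.symm)
    obtain ⟨w, hw | hw⟩ := ha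
    · exact ⟨w, key w (Or.inl hw)⟩
    · refine ⟨_, key (fun i => κ (v i) (w i)) (Or.inr ?_)⟩
      rw [hw, hdv, QA_mul]
  have hAinj : Function.Injective A := by
    intro w w' hww
    have h3 : ∀ u u', ι (QA e u) = d * ι (QA e u') → False := by
      intro u u' h4
      rw [hdef, mul_assoc, ← map_mul] at h4
      exact h.tne _ _ h4
    rcases hA w with h1 | h1 <;> rcases hA w' with h2 | h2 <;> rw [hww, h2] at h1
    · exact (QA_inj e (h.inj h1)).symm
    · exact (h3 _ _ h1.symm).elim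
    · exact (h3 _ _ h1).elim
    · exact (QA_inj e (h.inj (mul_left_cancel h1))).symm
  have hFcard : Nat.card F = 4 ^ (k + 1) := by
    have h1 : Function.Bijective (fun w : Fin (k + 1) → Fin 4 =>
        (⟨(A w : Perm (Fin n)), (hF _).2 ⟨A w, rfl, hAE w⟩⟩ : F)) := by
      constructor
      · intro w w' hww
        have h9 : ((A w : An n) : Perm (Fin n)) = A w' :=
          congrArg (Subtype.val : F → Perm (Fin n)) hww
        exact hAinj (Subtype.ext h9)
      · rintro ⟨f, hf⟩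
        obtain ⟨a, rfl, ha⟩ := (hF f).1 hf
        obtain ⟨w, rfl⟩ := hsurj a ha
        exact ⟨w, rfl⟩
    rw [← Nat.card_congr (Equiv.ofBijective _ h1), Nat.card_fun, Nat.card_fin, Nat.card_fin]
  have hF2 : ∀ f ∈ F, f * f = 1 := by
    intro f hf
    obtain ⟨a, rfl, ha⟩ := (hF f).1 hf
    have h1 : a * a = 1 := hjinj (by rw [map_mul, EE_sq h e _ ha, map_one])
    exact congrArg Subtype.val h1
  have hFs : ∀ f ∈ F, Perm.sign f = 1 := by
    intro f hf
    obtain ⟨a, rfl, ha⟩ := (hF f).1 hf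
    exact Perm.mem_alternatingGroup.1 a.2
  -- the letters outside
  obtain ⟨e', he'⟩ := exists_rest e hn
  have hcomm : ∀ b : alternatingGroup (Fin r), ∀ x ∈ EE h e,
      ι (restHom e' b) * x = x * ι (restHom e' b) := by
    rintro b x ⟨w, rfl | rfl⟩
    · rw [← map_mul, restHom_comm he', map_mul]
    · rw [← mul_assoc, h.comm', mul_assoc, ← map_mul, restHom_comm he', map_mul, mul_assoc]
  have hrange : ∀ b : alternatingGroup (Fin r), ι (restHom e' b) ∈ j.range := by
    intro b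
    have h1 : Subgroup.closure {g : alternatingGroup (Fin r) | Equiv.Perm.IsThreeCycle (g : Perm (Fin r))}
        ≤ (j.range).comap (ι.comp (restHom e')) := by
      rw [Subgroup.closure_le]
      intro b hb
      obtain ⟨a, ha | ha⟩ := hS.cases (hcomm b d hdE)
      · exact ⟨a, ha.symm⟩
      · exfalso
        have h3 : b ^ 3 = 1 := by
          apply Subtype.ext
          rw [Subgroup.coe_pow, Subgroup.coe_one, ← (show orderOf (b : Perm (Fin r)) = 3 from
            Perm.IsThreeCycle.orderOf hb)]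
          exact pow_orderOf_eq_one _
        have h4 : ι (restHom e' b) ^ 3 = 1 := by rw [← map_pow, ← map_pow, h3, map_one, map_one]
        have h5 : (d * j a) ^ 3 = d ^ 3 * (j a) ^ 3 :=
          (show Commute d (j a) from hS.comm a).mul_pow 3
        rw [ha, h5, pow_succ, pow_two, hS.tt, one_mul, ← map_pow] at h4
        apply hdj ((a ^ 3)⁻¹)
        rw [map_inv]
        exact (eq_inv_of_mul_eq_one_left h4).symm
    rw [alternatingGroup.closure_isThreeCycles_eq_top] at h1
    exact h1 (Subgroup.mem_top b)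
  let ψ : alternatingGroup (Fin r) →* An n :=
    (MonoidHom.ofInjective hjinj).symm.toMonoidHom.comp
      ((ι.comp (restHom e')).codRestrict j.range hrange)
  have hψ : ∀ b, j (ψ b) = ι (restHom e' b) := by
    intro b
    have h1 := (MonoidHom.ofInjective hjinj).apply_symm_apply
      ⟨ι (restHom e' b), hrange b⟩
    exact congrArg Subtype.val h1
  let ψ' : alternatingGroup (Fin r) →* Perm (Fin n) := (An n).subtype.comp ψ
  have hψinj : Function.Injective ψ' := by
    intro b b' hbb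
    apply restHom_inj e'
    apply h.inj
    rw [← hψ, ← hψ]
    congr 1
    exact Subtype.ext hbb
  obtain ⟨e₁, he₁⟩ := exists_std_of_comm (L := ψ'.range) hF2 hFs (by
    rintro _ ⟨b, rfl⟩ f hf
    obtain ⟨a, rfl, ha⟩ := (hF f).1 hf
    have h1 : ψ b * a = a * ψ b := by
      apply hjinj
      rw [map_mul, map_mul, hψ]
      exact hcomm b _ ha
    exact congrArg Subtype.val h1) hr (by rw [Nat.card_fin]; exact hn) hFcard
    (MonoidHom.ofInjective hψinj).symm
  -- conjugation
  let F₀ : Subgroup (Perm (Fin n)) :=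
    { carrier := {f | ∃ w, f = Qe e w}
      one_mem' := ⟨fun _ => 0, (Qe_zero e).symm⟩
      mul_mem' := by
        rintro _ _ ⟨w, rfl⟩ ⟨w', rfl⟩
        exact ⟨_, Qe_mul e w w'⟩
      inv_mem' := by
        rintro _ ⟨w, rfl⟩
        exact ⟨w, inv_eq_of_mul_eq_one_left (Qe_sq e w)⟩ }
  have hF₀ : IsStd e F₀ := fun f => Iff.rfl
  obtain ⟨σ, hσ1, hσ⟩ := hF₀.exists_conj he₁
  let s : An n := ⟨σ, Perm.mem_alternatingGroup.2 hσ1⟩
  refine ⟨g₀ * ι s, ?_, ?_⟩
  · calc g₀ * ι s * t * (g₀ * ι s)⁻¹ = g₀ * (ι s * t * (ι s)⁻¹) * g₀⁻¹ := by group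
      _ = d := by rw [h.comm', mul_inv_cancel_right, hg₀]
  · have h1 : ∀ w, g₀ * ι s * ι (QA e w) * (g₀ * ι s)⁻¹ ∈ EE h e := by
      intro w
      obtain ⟨a, ha, ha'⟩ := (hF _).1 (hσ _ (hF₀.mem w))
      have h2 : a = s * QA e w * s⁻¹ := Subtype.ext ha
      have h3 : g₀ * ι s * ι (QA e w) * (g₀ * ι s)⁻¹ = j a := by
        rw [h2]
        show _ = g₀ * ι (s * QA e w * s⁻¹) * g₀⁻¹
        rw [map_mul, map_mul, map_inv]
        group
      rw [h3]
      exact ha'
    rintro x ⟨w, rfl | rfl⟩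
    · exact h1 w
    · have h2 : g₀ * ι s * (t * ι (QA e w)) * (g₀ * ι s)⁻¹ =
          d * (g₀ * ι s * ι (QA e w) * (g₀ * ι s)⁻¹) := by
        have h3 : g₀ * ι s * t = d * (g₀ * ι s) := by
          rw [mul_assoc, h.comm', ← mul_assoc, ← hg₀]
          group
        rw [← mul_assoc (g₀ * ι s), h3]
        group
      rw [h2]
      exact mul_mem hdE (h1 w)

end Cfsg.Agent.OddHalf.D5.Elem

end
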