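import Mathlib
import Cfsg.Agent.OddHalf.UQ4
import Cfsg.Agent.StandardComponent.AltAut
import Cfsg.Agent.OddHalf.Iface
import Cfsg.Agent.OddHalf.D5.Defs
import Cfsg.Agent.StdAlt.Lab
import Cfsg.Agent.S1754
import Cfsg.Agent.S0502
import Cfsg.Agent.Lib.PComponents

-- merged: Cfsg.Agent.OddHalf.UQ4Alt
section

/-!
# Centralizers of order at least 4: the alternating groups of degree at least 7
-/

set_option autoImplicit false

namespace Cfsg.Agent.OddHalf.UQ4

open Subgroup Equiv

theorem exists_notMem {n : ℕ} (S : Finset (Fin n)) (h : S.card < n) : ∃ g, g ∉ S := by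
  by_contra hcon
  push Not at hcon
  have : S = Finset.univ := Finset.eq_univ_of_forall hcon
  rw [this, Finset.card_univ, Fintype.card_fin] at h
  exact lt_irrefl _ h

theorem sq_of_three {n : ℕ} {a b c : Fin n} (ab : a ≠ b) (ac : a ≠ c) (bc : b ≠ c) :
    (swap a b * swap a c) * (swap a b * swap a c) * ((swap a b * swap a c) * (swap a b * swap a c)) =
      swap a b * swap a c := by
  have h := (Perm.isThreeCycle_swap_mul_swap_same ab ac bc).orderOf
  have h2 : (swap a b * swap a c) ^ 3 = 1 := by rw [← h]; exact pow_orderOf_eq_one _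
  set τ := swap a b * swap a c
  calc τ * τ * (τ * τ) = τ ^ 3 * τ := by rw [pow_succ, pow_two]; simp only [mul_assoc]
    _ = τ := by rw [h2, one_mul]

theorem semi_swap {n : ℕ} {ρ : Perm (Fin n)} {x y x' y' : Fin n} (hx : ρ x = x') (hy : ρ y = y') :
    SemiconjBy ρ (swap x y) (swap x' y') := by
  show ρ * swap x y = swap x' y' * ρ
  rw [Equiv.mul_swap_eq_swap_mul, hx, hy]

theorem swap_comm' {n : ℕ} {x y z t : Fin n} (h : [x, y, z, t].Nodup) : Commute (swap x y) (swap z t) :=
  (Perm.disjoint_swap_swap h).commute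

theorem alg {M : Type*} [Group M] {α β : M} (h : Commute α β) (h1 : α * α * (α * α) = α)
    (h2 : β * β * (β * β) = β) : (α * α * (β * β)) * (α * α * (β * β)) = α * β := by
  have hc2 : Commute (α * α) (β * β) := (h.mul_right h).mul_left (h.mul_right h)
  calc α * α * (β * β) * (α * α * (β * β)) = α * α * ((β * β) * (α * α)) * (β * β) := by group
    _ = α * α * ((α * α) * (β * β)) * (β * β) := by rw [hc2.eq]
    _ = (α * α * (α * α)) * (β * β * (β * β)) := by group
    _ = α * β := by rw [h1, h2]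

theorem four_cycle {n : ℕ} (hn : 7 ≤ n) (σ : Perm (Fin n)) (h2 : ∃ a, σ (σ a) ≠ a)
    (h4 : ∀ a, σ (σ (σ (σ a))) = a)
    (H : ∀ τ : Perm (Fin n), Perm.sign τ = 1 → τ * (σ * σ) = σ * σ * τ → τ * τ * σ = σ * (τ * τ)) :
    Perm.sign σ = -1 ∧ ∃ τ : Perm (Fin n), Perm.sign τ = 1 ∧ τ * (σ * σ) = σ * σ * τ ∧ τ * σ ≠ σ * τ := by
  classical
  obtain ⟨a, ha⟩ := h2
  obtain ⟨b, hb⟩ : ∃ b, σ a = b := ⟨_, rfl⟩
  obtain ⟨c, hc⟩ : ∃ c, σ b = c := ⟨_, rfl⟩
  obtain ⟨d, hd⟩ : ∃ d, σ c = d := ⟨_, rfl⟩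
  have hda : σ d = a := by rw [← hd, ← hc, ← hb]; exact h4 a
  have hca : c ≠ a := by rw [← hc, ← hb]; exact ha
  have hba : b ≠ a := by
    intro h
    apply hca
    rw [← hc, h, hb, h]
  have hcb : c ≠ b := fun h => hba (σ.injective (by rw [hc, hb, h]))
  have hdc : d ≠ c := fun h => hcb (σ.injective (by rw [hd, hc, h]))
  have hdb : d ≠ b := fun h => hca (σ.injective (by rw [hd, hb, h]))
  have had : a ≠ d := fun h => hdc (σ.injective (by rw [hda, hd, h]))
  have hρa : (σ * σ) a = c := by rw [Perm.mul_apply, hb, hc]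
  have hρb : (σ * σ) b = d := by rw [Perm.mul_apply, hc, hd]
  have hρc : (σ * σ) c = a := by rw [Perm.mul_apply, hd, hda]
  have hρd : (σ * σ) d = b := by rw [Perm.mul_apply, hda, hb]
  -- no second 4-cycle
  have claim2 : ∀ e, e ≠ a → e ≠ b → e ≠ c → e ≠ d → σ (σ e) = e := by
    intro e ea eb ec ed
    by_contra he
    obtain ⟨f, hf⟩ : ∃ f, σ e = f := ⟨_, rfl⟩
    obtain ⟨g, hg⟩ : ∃ g, σ f = g := ⟨_, rfl⟩
    have hge : g ≠ e := by rw [← hg, ← hf]; exact he
    have hfe : f ≠ e := by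
      intro h
      apply hge
      rw [← hg, h, hf, h]
    have hgf : g ≠ f := fun h => hfe (σ.injective (by rw [hg, hf, h]))
    have fa : f ≠ a := fun h => ed (σ.injective (by rw [hf, hda, h]))
    have fb : f ≠ b := fun h => ea (σ.injective (by rw [hf, hb, h]))
    have fc : f ≠ c := fun h => eb (σ.injective (by rw [hf, hc, h]))
    have fd : f ≠ d := fun h => ec (σ.injective (by rw [hf, hd, h]))
    have ga : g ≠ a := fun h => fd (σ.injective (by rw [hg, hda, h]))
    have gb : g ≠ b := fun h => fa (σ.injective (by rw [hg, hb, h]))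
    have gc : g ≠ c := fun h => fb (σ.injective (by rw [hg, hc, h]))
    have gd : g ≠ d := fun h => fc (σ.injective (by rw [hg, hd, h]))
    have hρe : (σ * σ) e = g := by rw [Perm.mul_apply, hf, hg]
    have hρg : (σ * σ) g = e := by rw [Perm.mul_apply, ← hg, ← hf, h4]
    have hcomm : Commute (swap a b * swap a e) (swap c d * swap c g) := by
      have c1 : Commute (swap a b) (swap c d) := swap_comm' (by simp; tauto)
      have c2 : Commute (swap a b) (swap c g) := swap_comm' (by simp; tauto)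
      have c3 : Commute (swap a e) (swap c d) := swap_comm' (by simp; tauto)
      have c4 : Commute (swap a e) (swap c g) := swap_comm' (by simp; tauto)
      exact (c1.mul_right c2).mul_left (c3.mul_right c4)
    have e1 : SemiconjBy (σ * σ) (swap a b * swap a e) (swap c d * swap c g) :=
      SemiconjBy.mul_right (semi_swap hρa hρb) (semi_swap hρa hρe)
    have e2 : SemiconjBy (σ * σ) (swap c d * swap c g) (swap a b * swap a e) :=
      SemiconjBy.mul_right (semi_swap hρc hρd) (semi_swap hρc hρg)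
    have e3 := (e1.mul_right e1).mul_right (e2.mul_right e2)
    have e4 : Commute ((swap a b * swap a e) * (swap a b * swap a e))
        ((swap c d * swap c g) * (swap c d * swap c g)) :=
      (hcomm.mul_right hcomm).mul_left (hcomm.mul_right hcomm)
    have hτ := H ((swap a b * swap a e) * (swap a b * swap a e) *
        ((swap c d * swap c g) * (swap c d * swap c g))) (by
      simp only [Perm.sign_mul, Perm.sign_swap hba.symm, Perm.sign_swap ea.symm, Perm.sign_swap hdc.symm,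
        Perm.sign_swap gc.symm]
      rfl) (by
      rw [e3.eq, e4.eq])
    rw [alg hcomm (sq_of_three hba.symm ea.symm eb.symm) (sq_of_three hdc.symm gc.symm gd.symm)] at hτ
    have h5 := DFunLike.congr_fun hτ f
    have k1 : (swap c d * swap c g) f = f := by
      rw [Perm.mul_apply, swap_apply_of_ne_of_ne fc (Ne.symm hgf), swap_apply_of_ne_of_ne fc fd]
    have k2 : (swap a b * swap a e) f = f := by
      rw [Perm.mul_apply, swap_apply_of_ne_of_ne fa hfe, swap_apply_of_ne_of_ne fa fb]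
    have k3 : (swap c d * swap c g) g = d := by
      rw [Perm.mul_apply, swap_apply_right, swap_apply_left]
    have k4 : (swap a b * swap a e) d = d := by
      rw [Perm.mul_apply, swap_apply_of_ne_of_ne had.symm (Ne.symm ed), swap_apply_of_ne_of_ne had.symm hdb]
    rw [Perm.mul_apply, hg, Perm.mul_apply, k3, k4, Perm.mul_apply, Perm.mul_apply, k1, k2, hg] at h5
    exact gd h5.symm
  -- no transposition
  have claim1 : ∀ e, e ≠ a → e ≠ b → e ≠ c → e ≠ d → σ e = e := by
    intro e ea eb ec ed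
    by_contra he
    obtain ⟨f, hf⟩ : ∃ f, σ e = f := ⟨_, rfl⟩
    have hfe : f ≠ e := fun h => he (by rw [hf, h])
    have hσf : σ f = e := by rw [← hf]; exact claim2 e ea eb ec ed
    have fa : f ≠ a := fun h => ed (σ.injective (by rw [hf, hda, h]))
    have fb : f ≠ b := fun h => ea (σ.injective (by rw [hf, hb, h]))
    have fc : f ≠ c := fun h => eb (σ.injective (by rw [hf, hc, h]))
    have fd : f ≠ d := fun h => ec (σ.injective (by rw [hf, hd, h]))
    obtain ⟨g, hg⟩ := exists_notMem ({a, b, c, d, e, f} : Finset (Fin n)) (lt_of_le_of_lt Finset.card_le_six (by omega))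
    simp only [Finset.mem_insert, Finset.mem_singleton, not_or] at hg
    obtain ⟨ga, gb, gc, gd, ge, gf⟩ := hg
    have hρe : (σ * σ) e = e := by rw [Perm.mul_apply, hf, hσf]
    have hρf : (σ * σ) f = f := by rw [Perm.mul_apply, hσf, hf]
    have hρg : (σ * σ) g = g := by rw [Perm.mul_apply]; exact claim2 g ga gb gc gd
    have e1 : SemiconjBy (σ * σ) (swap e f * swap e g) (swap e f * swap e g) :=
      SemiconjBy.mul_right (semi_swap hρe hρf) (semi_swap hρe hρg)
    have hτ := H ((swap e f * swap e g) * (swap e f * swap e g)) (by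
      simp only [Perm.sign_mul, Perm.sign_swap (Ne.symm hfe), Perm.sign_swap (Ne.symm ge)]
      rfl) (e1.mul_right e1).eq.symm
    rw [sq_of_three hfe.symm (Ne.symm ge) (Ne.symm gf)] at hτ
    have h5 := DFunLike.congr_fun hτ e
    have k1 : (swap e f * swap e g) f = e := by
      rw [Perm.mul_apply, swap_apply_of_ne_of_ne hfe (Ne.symm gf), swap_apply_right]
    have k2 : (swap e f * swap e g) e = g := by
      rw [Perm.mul_apply, swap_apply_left, swap_apply_of_ne_of_ne ge gf]
    rw [Perm.mul_apply, hf, k1, Perm.mul_apply, k2] at h5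
    apply gf
    apply σ.injective
    rw [← h5, hσf]
  constructor
  · -- `σ` is a 4-cycle
    have hσ : σ = swap a b * (swap b c * swap c d) := by
      ext x
      congr 1
      by_cases xa : x = a
      · subst xa
        rw [Perm.mul_apply, Perm.mul_apply, swap_apply_of_ne_of_ne (Ne.symm hca) had,
          swap_apply_of_ne_of_ne hba.symm hca.symm, swap_apply_left, hb]
      by_cases xb : x = b
      · subst xb
        rw [Perm.mul_apply, Perm.mul_apply, swap_apply_of_ne_of_ne (Ne.symm hcb) (Ne.symm hdb),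
          swap_apply_left, swap_apply_of_ne_of_ne hca hcb, hc]
      by_cases xc : x = c
      · subst xc
        rw [Perm.mul_apply, Perm.mul_apply, swap_apply_left, swap_apply_of_ne_of_ne hdb hdc,
          swap_apply_of_ne_of_ne had.symm hdb, hd]
      by_cases xd : x = d
      · subst xd
        rw [Perm.mul_apply, Perm.mul_apply, swap_apply_right, swap_apply_right, swap_apply_right, hda]
      · rw [Perm.mul_apply, Perm.mul_apply, swap_apply_of_ne_of_ne xc xd, swap_apply_of_ne_of_ne xb xc,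
          swap_apply_of_ne_of_ne xa xb, claim1 x xa xb xc xd]
    rw [hσ, Perm.sign_mul, Perm.sign_mul, Perm.sign_swap hba.symm, Perm.sign_swap hcb.symm, Perm.sign_swap hdc.symm]
    rfl
  · obtain ⟨e, he⟩ := exists_notMem ({a, b, c, d} : Finset (Fin n)) (lt_of_le_of_lt Finset.card_le_four (by omega))
    obtain ⟨f, hf⟩ := exists_notMem ({a, b, c, d, e} : Finset (Fin n)) (lt_of_le_of_lt Finset.card_le_five (by omega))
    simp only [Finset.mem_insert, Finset.mem_singleton, not_or] at he hf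
    obtain ⟨ea, eb, ec, ed⟩ := he
    obtain ⟨fa, fb, fc, fd, fe⟩ := hf
    have hρe : (σ * σ) e = e := by rw [Perm.mul_apply, claim1 e ea eb ec ed, claim1 e ea eb ec ed]
    have hρf : (σ * σ) f = f := by rw [Perm.mul_apply, claim1 f fa fb fc fd, claim1 f fa fb fc fd]
    refine ⟨swap a c * swap e f, ?_, ?_, ?_⟩
    · rw [Perm.sign_mul, Perm.sign_swap hca.symm, Perm.sign_swap (Ne.symm fe)]
      rfl
    · have e1 : SemiconjBy (σ * σ) (swap a c * swap e f) (swap c a * swap e f) :=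
        SemiconjBy.mul_right (semi_swap hρa hρc) (semi_swap hρe hρf)
      rw [e1.eq, swap_comm c a]
    · intro h
      have h5 := DFunLike.congr_fun h a
      rw [Perm.mul_apply, Perm.mul_apply, Perm.mul_apply, Perm.mul_apply, hb,
        swap_apply_of_ne_of_ne (Ne.symm eb) (Ne.symm fb), swap_apply_of_ne_of_ne hba (Ne.symm hcb),
        swap_apply_of_ne_of_ne (Ne.symm ea) (Ne.symm fa), swap_apply_left, hd] at h5
      exact hdb h5.symm

/-- The alternating groups of degree at least 7. -/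
theorem kfact_alt {n : ℕ} (hn : 7 ≤ n) : KFact (alternatingGroup (Fin n)) := by
  classical
  intro α h1 h2 h3
  obtain ⟨ψ, hψ⟩ := StandardComponent.AltAut.exists_autHom n hn
  have hmem : ∀ x : Perm (Fin n), x ∈ alternatingGroup (Fin n) ↔ Perm.sign x = 1 := fun x =>
    Perm.mem_alternatingGroup
  -- `α² = conj σ²`
  have hα2 : ∀ x : alternatingGroup (Fin n), ((α (α x) : alternatingGroup (Fin n)) : Perm (Fin n)) =
      (ψ α * ψ α) * x * (ψ α * ψ α)⁻¹ := by
    intro x
    rw [hψ, hψ, mul_inv_rev]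
    simp only [mul_assoc]
  have hψ1 : ∀ β : MulAut (alternatingGroup (Fin n)), (∀ x, β x = x) → ψ β = 1 := by
    intro β hβ
    have : β = 1 := MulEquiv.ext hβ
    rw [this, map_one]
  have h4 : ψ α * ψ α * (ψ α * ψ α) = 1 := by
    rw [← map_mul, ← map_mul]
    exact hψ1 _ h2
  obtain ⟨hs, τ, hτ1, hτ2, hτ3⟩ := four_cycle hn (ψ α) (by
    by_contra hcon
    push Not at hcon
    obtain ⟨x, hx⟩ := h1
    apply hx
    apply Subtype.ext
    have h5 : ψ α * ψ α = 1 := Equiv.ext hcon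
    rw [hα2, h5, one_mul, inv_one, mul_one]) (by
    intro a
    exact DFunLike.congr_fun h4 a) (by
    intro τ hτ1 hτ2
    have h5 := h3 ⟨τ, (hmem τ).2 hτ1⟩ (by
      apply Subtype.ext
      rw [hα2]
      show ψ α * ψ α * τ * (ψ α * ψ α)⁻¹ = τ
      rw [← hτ2]
      group)
    have h6 := congrArg Subtype.val h5
    rw [hψ] at h6
    exact (mul_inv_eq_iff_eq_mul.1 h6).symm)
  refine ⟨⟨⟨ψ α * ψ α, ?_⟩, ?_⟩, ?_, ⟨τ, (hmem τ).2 hτ1⟩, ?_, ?_⟩
  · rw [hmem, Perm.sign_mul, hs]
    rfl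
  · intro h
    apply Subtype.ext
    rw [hα2]
    rfl
  · rintro ⟨y, hy⟩
    have h5 : ψ α = (y : Perm (Fin n)) := by
      obtain ⟨m, rfl⟩ : ∃ m, n = m + 2 := ⟨n - 2, by omega⟩
      apply StandardComponent.AltAut.conj_unique (m := m) (by omega)
      intro x
      have h6 := congrArg Subtype.val (hy x)
      rw [hψ] at h6
      exact h6
    have h7 := (hmem _).1 y.2
    rw [← h5, hs] at h7
    exact absurd h7 (by decide)
  · apply Subtype.ext
    rw [hα2]
    show ψ α * ψ α * τ * (ψ α * ψ α)⁻¹ = τ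
    rw [← hτ2]
    group
  · intro h
    apply hτ3
    have h6 := congrArg Subtype.val h
    rw [hψ] at h6
    exact (mul_inv_eq_iff_eq_mul.1 h6).symm

/-- `Aut(A_n)/A_n` has order at most 2. -/
def OutTwo (X : Type*) [Group X] : Prop := ∀ α β : MulAut X, (¬ ∃ y : X, ∀ h, α h = y * h * y⁻¹) →
  (¬ ∃ y : X, ∀ h, β h = y * h * y⁻¹) → ∃ y : X, ∀ h, (α⁻¹ * β) h = y * h * y⁻¹

theorem OutTwo.congr {X Y : Type*} [Group X] [Group Y] (e : X ≃* Y) (h : OutTwo X) : OutTwo Y := by
  intro α β h1 h2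
  have key : ∀ γ : MulAut Y, (∃ y : X, ∀ h, (MulAut.congr e.symm γ) h = y * h * y⁻¹) ↔
      ∃ y : Y, ∀ h, γ h = y * h * y⁻¹ := by
    intro γ
    have hγ : ∀ x, (MulAut.congr e.symm γ) x = e.symm (γ (e x)) := fun x => rfl
    constructor
    · rintro ⟨y, hy⟩
      refine ⟨e y, fun x => ?_⟩
      have h3 := hy (e.symm x)
      rw [hγ, e.apply_symm_apply] at h3
      rw [← e.apply_symm_apply (γ x), h3, map_mul, map_mul, map_inv, e.apply_symm_apply]
    · rintro ⟨y, hy⟩
      refine ⟨e.symm y, fun x => ?_⟩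
      rw [hγ, hy, map_mul, map_mul, map_inv, e.symm_apply_apply]
  have h3 := h (MulAut.congr e.symm α) (MulAut.congr e.symm β) (fun hh => h1 ((key α).1 hh))
    (fun hh => h2 ((key β).1 hh))
  rw [← map_inv, ← map_mul] at h3
  exact (key _).1 h3

theorem outTwo_alt {n : ℕ} (hn : 7 ≤ n) : OutTwo (alternatingGroup (Fin n)) := by
  classical
  intro α β h1 h2
  obtain ⟨ψ, hψ⟩ := StandardComponent.AltAut.exists_autHom n hn
  have hmem : ∀ x : Perm (Fin n), x ∈ alternatingGroup (Fin n) ↔ Perm.sign x = 1 := fun x =>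
    Perm.mem_alternatingGroup
  have key : ∀ γ : MulAut (alternatingGroup (Fin n)), Perm.sign (ψ γ) = 1 →
      ∃ y : alternatingGroup (Fin n), ∀ h, γ h = y * h * y⁻¹ := by
    intro γ hγ
    exact ⟨⟨ψ γ, (hmem _).2 hγ⟩, fun h => Subtype.ext (hψ γ h)⟩
  have hneg : ∀ γ : MulAut (alternatingGroup (Fin n)),
      (¬ ∃ y : alternatingGroup (Fin n), ∀ h, γ h = y * h * y⁻¹) → Perm.sign (ψ γ) = -1 := by
    intro γ hγ
    rcases Int.units_eq_one_or (Perm.sign (ψ γ)) with h | h
    · exact absurd (key γ h) hγ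
    · exact h
  apply key
  rw [map_mul, map_inv, Perm.sign_mul, Perm.sign_inv, hneg α h1, hneg β h2]
  rfl

variable {G : Type*} [Group G] {t : G} {K : Subgroup G}

theorem Fr.inRK_iff (F : Fr t K) {x : G} (hx : x * t = t * x) :
    InRK t K x ↔ ∃ y : K, ∀ h, F.conjAut x hx h = y * h * y⁻¹ := by
  constructor
  · rintro ⟨k, hk, h⟩
    refine ⟨⟨k, hk⟩, fun z => Subtype.ext ?_⟩
    show x * (z : G) * x⁻¹ = k * z * k⁻¹
    have h1 := (mem_RR.1 h).2 (k * z * k⁻¹) (K.mul_mem (K.mul_mem hk z.2) (K.inv_mem hk))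
    calc x * (z : G) * x⁻¹ = x * k⁻¹ * (k * z * k⁻¹) * (x * k⁻¹)⁻¹ := by group
      _ = k * z * k⁻¹ := by rw [h1]; group
  · rintro ⟨k, hk⟩
    refine ⟨k, k.2, mem_RR.2 ⟨?_, ?_⟩⟩
    · have h1 := F.le _ (K.inv_mem k.2)
      calc x * (k : G)⁻¹ * t = x * (t * (k : G)⁻¹) := by rw [h1]; group
        _ = x * t * (k : G)⁻¹ := by group
        _ = t * (x * (k : G)⁻¹) := by rw [hx]; group
    · intro z hz
      have h0 := congrArg Subtype.val (hk (k⁻¹ * (⟨z, hz⟩ : K) * k))
      have h1 : x * ((k : G)⁻¹ * z * k) * x⁻¹ = z := by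
        refine Eq.trans (b := (k : G) * ((k : G)⁻¹ * z * k) * (k : G)⁻¹) h0 ?_
        group
      calc x * (k : G)⁻¹ * z = x * ((k : G)⁻¹ * z * k) * x⁻¹ * (x * (k : G)⁻¹) := by group
        _ = z * (x * (k : G)⁻¹) := by rw [h1]

theorem Fr.idx (F : Fr t K) (h : OutTwo K) (x y : G) (hx : x * t = t * x) (hy : y * t = t * y)
    (h1 : ¬ InRK t K x) (h2 : ¬ InRK t K y) : InRK t K (x⁻¹ * y) := by
  rw [F.inRK_iff hx] at h1
  rw [F.inRK_iff hy] at h2
  have hx' : x⁻¹ * t = t * x⁻¹ := by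
    calc x⁻¹ * t = x⁻¹ * (t * x) * x⁻¹ := by group
      _ = t * x⁻¹ := by rw [← hx]; group
  have hxy : x⁻¹ * y * t = t * (x⁻¹ * y) := by
    calc x⁻¹ * y * t = x⁻¹ * (y * t) := by group
      _ = x⁻¹ * t * y := by rw [hy]; group
      _ = t * (x⁻¹ * y) := by rw [hx']; group
  rw [F.inRK_iff hxy]
  obtain ⟨z, hz⟩ := h _ _ h1 h2
  refine ⟨z, fun w => ?_⟩
  rw [← hz]
  apply Subtype.ext
  show x⁻¹ * y * (w : G) * (x⁻¹ * y)⁻¹ = x⁻¹ * (y * w * y⁻¹) * x
  group

/-- **`|R| ≥ 4` is impossible** if `R` is cyclic, `|Out K| ≤ 2` and `K` satisfies `KFact`. -/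
theorem Fr.main_out [Finite G] (F : Fr t K)
    (hz : ∃ g : G, g * t * g⁻¹ ≠ t ∧ g * t * g⁻¹ * t = t * (g * t * g⁻¹))
    (hR : IsCyclic ↥(RR t K)) (O : OutTwo K) (P : KFact K) : False := by
  classical
  have hab : ∀ x ∈ RR t K, ∀ y ∈ RR t K, x * y = y * x := by
    intro x hx y hy
    letI := hR.commGroup
    exact congrArg Subtype.val (mul_comm (⟨x, hx⟩ : RR t K) ⟨y, hy⟩)
  refine F.main hz (F.idx O) hab ?_ P
  intro x hx y hy hxx hyy
  have h1 : (x⁻¹ * y) * (x⁻¹ * y) = 1 := by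
    calc (x⁻¹ * y) * (x⁻¹ * y) = x⁻¹ * (y * x⁻¹) * y := by group
      _ = x⁻¹ * (x⁻¹ * y) * y := by rw [hab y hy _ (inv_mem hx)]
      _ = (x * x)⁻¹ * (y * y) := by group
      _ = 1 := by rw [hxx, hyy]; group
  have h2 := mem_RR.1 (mul_mem (inv_mem hx) hy)
  rcases F.uni _ h2.1 h2.2 h1 with h | h
  · left
    calc y = x * (x⁻¹ * y) := by group
      _ = x := by rw [h, mul_one]
  · right
    calc y = x * (x⁻¹ * y) := by group
      _ = x * t := by rw [h]

/-- **`|R| ≥ 4` is impossible** for `K = A_n`, `n ≥ 7`. -/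
theorem Fr.main_alt [Finite G] (F : Fr t K)
    (hz : ∃ g : G, g * t * g⁻¹ ≠ t ∧ g * t * g⁻¹ * t = t * (g * t * g⁻¹))
    (hR : IsCyclic ↥(RR t K)) {n : ℕ} (hn : 7 ≤ n) (e : K ≃* alternatingGroup (Fin n)) : False :=
  F.main_out hz hR ((outTwo_alt hn).congr e.symm) ((kfact_alt hn).congr e.symm)

end Cfsg.Agent.OddHalf.UQ4

end

-- merged: Cfsg.Agent.OddHalf.D5.Setup
section

/-!
# ODD D5: the front end

`front`: the general facts on an involution `t` centralizing the standard subgroup `K ≅ A_n`, `n ≥ 5`, `C(K)` with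
cyclic Sylow 2-subgroups. `front_gen`: for `n ≥ 7` the group `C_G(t) ∩ C_G(K)` is `⟨t⟩` and `Gen t φ K` holds for
some `φ : C_G(t) →* Perm (Fin n)`.
-/

set_option autoImplicit false

namespace Cfsg.Agent.OddHalf.D5

open Subgroup Equiv Cfsg Cfsg.Agent.OddHalf.Iface Cfsg.Agent.OddHalf.UQ4

universe u

/-- the general facts -/
structure Front {G : Type u} [Group G] (t : G) (K : Subgroup G) : Prop where
  t1 : t ≠ 1
  tt : t * t = 1
  tK : t ∉ K
  le : ∀ k ∈ K, t * k = k * t
  norm : ∀ x, x * t = t * x → ∀ k ∈ K, x * k * x⁻¹ ∈ K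
  uni : ∀ x, x * t = t * x → (∀ k ∈ K, x * k = k * x) → x * x = 1 → x = 1 ∨ x = t
  odd : ∀ N : Subgroup G, N ≤ K → (∀ k ∈ K, ∀ n ∈ N, k * n * k⁻¹ ∈ N) → Odd (Nat.card N) → N = ⊥
  /-- Glauberman's theorem -/
  hz : ∃ g : G, g * t * g⁻¹ ≠ t ∧ g * t * g⁻¹ * t = t * (g * t * g⁻¹)
  cyc : IsCyclic ↥(RR t K)
  p2 : IsPGroup 2 ↥(RR t K)

variable {G : Type u} [Group G]

theorem even_card_alt {n : ℕ} (hn : 5 ≤ n) : Even (Nat.card (alternatingGroup (Fin n))) := by
  have hnt : Nontrivial (Fin n) := Fin.nontrivial_iff_two_le.2 (by omega)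
  have h1 : 2 * Nat.card (alternatingGroup (Fin n)) = Nat.card (Perm (Fin n)) :=
    two_mul_nat_card_alternatingGroup
  rw [Nat.card_perm, Nat.card_fin] at h1
  have h2 : 4 ∣ n.factorial := (by decide : 4 ∣ Nat.factorial 4).trans (Nat.factorial_dvd_factorial (by omega))
  rw [even_iff_two_dvd]
  omega

theorem center_eq_bot {n : ℕ} (hn : 5 ≤ n) {K : Subgroup G} (e : ↥K ≃* ↥(alternatingGroup (Fin n))) :
    center ↥K = ⊥ := by
  have hs : IsSimpleGroup (alternatingGroup (Fin n)) := alternatingGroup.isSimpleGroup (by simpa using hn)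
  have hc : center (alternatingGroup (Fin n)) = ⊥ := by
    exact alternatingGroup.center_eq_bot (α := Fin n) (by simp; omega)
  rw [eq_bot_iff]
  intro x hx
  have : e x ∈ center (alternatingGroup (Fin n)) := by
    rw [mem_center_iff] at hx ⊢
    intro g
    obtain ⟨y, rfl⟩ := e.surjective g
    rw [← map_mul, hx y, map_mul]
  rw [hc, mem_bot] at this
  rw [mem_bot]
  exact e.injective (this.trans (map_one e).symm)

theorem isSimple_of {n : ℕ} (hn : 5 ≤ n) {K : Subgroup G} (e : ↥K ≃* ↥(alternatingGroup (Fin n))) :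
    IsSimpleGroup ↥K := by
  have hs : IsSimpleGroup (alternatingGroup (Fin n)) := alternatingGroup.isSimpleGroup (by simpa using hn)
  exact (MulEquiv.isSimpleGroup_congr e).2 hs

/-- the general facts hold for every involution centralizing `K` -/
theorem front_of (C : Ctx G) {K : Subgroup G} (S : IsStandardSubgroup K) (hcyc : Cyc K) {n : ℕ} (hn : 5 ≤ n)
    (e : ↥K ≃* ↥(alternatingGroup (Fin n))) {t : G} (ht : orderOf t = 2)
    (htK : t ∈ centralizer (K : Set G)) : Front t K := by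
  have := C.fin
  have hsG := C.simple
  have : Fact (Nat.Prime 2) := ⟨Nat.prime_two⟩
  have hsK : IsSimpleGroup ↥K := isSimple_of hn e
  have hcK : center ↥K = ⊥ := center_eq_bot hn e
  have ht1 : t ≠ 1 := by rintro rfl; rw [orderOf_one] at ht; norm_num at ht
  have htt : t * t = 1 := by rw [← pow_two, ← ht, pow_orderOf_eq_one]
  have hle : ∀ k ∈ K, t * k = k * t := fun k hk => (mem_centralizer_iff.1 htK k hk).symm
  have hCN := (Cfsg.Agent.S1754.result K S t ht htK).1
  have hnorm : ∀ x, x * t = t * x → ∀ k ∈ K, x * k * x⁻¹ ∈ K := by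
    intro x hx k hk
    exact (mem_normalizer_iff.1 (hCN (mem_centralizer_singleton_iff.2 hx)) k).1 hk
  have htnK : t ∉ K := by
    intro h
    have h1 : (⟨t, h⟩ : K) ∈ center ↥K := by
      rw [mem_center_iff]
      intro k
      exact Subtype.ext (hle k k.2).symm
    rw [hcK, mem_bot] at h1
    exact ht1 (congrArg Subtype.val h1)
  have huni : ∀ x, x * t = t * x → (∀ k ∈ K, x * k = k * x) → x * x = 1 → x = 1 ∨ x = t := by
    intro x hx hxK hxx
    by_contra hne
    push Not at hne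
    have hxC : x ∈ centralizer (K : Set G) := mem_centralizer_iff.2 fun k hk => (hxK k hk).symm
    obtain ⟨W, hW, -⟩ := Cfsg.Agent.S0502.exists_klein (a := (⟨x, hxC⟩ : ↥(centralizer (K : Set G))))
      (b := ⟨t, htK⟩) (Subtype.ext (by rw [← pow_two] at hxx; exact hxx))
      (Subtype.ext (by rw [← pow_two] at htt; exact htt))
      (fun h => hne.1 (congrArg Subtype.val h)) (fun h => ht1 (congrArg Subtype.val h))
      (fun h => hne.2 (congrArg Subtype.val h)) (Subtype.ext hx)
    have hWp : IsPGroup 2 W := IsPGroup.of_card (n := 2) (by rw [hW.card_four]; norm_num)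
    obtain ⟨P, hP⟩ := hWp.exists_le_sylow
    have hPc := hcyc P
    have hWc : IsCyclic W :=
      isCyclic_of_injective (Subgroup.inclusion hP) (Subgroup.inclusion_injective hP)
    exact hW.not_isCyclic hWc
  have hodd : ∀ N : Subgroup G, N ≤ K → (∀ k ∈ K, ∀ n ∈ N, k * n * k⁻¹ ∈ N) → Odd (Nat.card N) → N = ⊥ := by
    intro N hNK hN hNo
    have h1 : (N.subgroupOf K).Normal := ⟨fun x hx k => by
      rw [mem_subgroupOf] at hx ⊢
      exact hN k k.2 _ hx⟩
    rcases hsK.eq_bot_or_eq_top_of_normal _ h1 with h2 | h2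
    · rw [subgroupOf_eq_bot] at h2
      exact (disjoint_iff.1 h2) ▸ (inf_eq_left.2 hNK).symm
    · exfalso
      have h3 : K ≤ N := by rwa [subgroupOf_eq_top] at h2
      have h4 : N = K := le_antisymm hNK h3
      rw [h4, Nat.card_congr e.toEquiv] at hNo
      exact (Nat.not_even_iff_odd.2 hNo) (even_card_alt hn)
  have hz : ∃ g : G, g * t * g⁻¹ ≠ t ∧ g * t * g⁻¹ * t = t * (g * t * g⁻¹) := by
    rcases zstar ht1 htt with h | ⟨N, hN, hNo, hNt⟩
    · exact h
    exfalso
    rcases hsG.eq_bot_or_eq_top_of_normal N hN with h1 | h1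
    · -- `t` is central
      have h2 : ∀ g, t * g = g * t := by
        intro g
        have h3 := hNt g
        rw [h1, mem_bot, mul_inv_eq_one, mul_inv_eq_iff_eq_mul] at h3
        exact h3
      have h3 : t ∈ center G := mem_center_iff.2 fun g => (h2 g).symm
      rcases hsG.eq_bot_or_eq_top_of_normal (center G) inferInstance with h4 | h4
      · rw [h4, mem_bot] at h3
        exact ht1 h3
      · apply C.na
        refine ⟨⟨fun a b => ?_⟩⟩
        have : b ∈ center G := by rw [h4]; trivial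
        exact (mem_center_iff.1 this) a
    · rw [h1, card_top] at hNo
      have h2 : 2 ∣ Nat.card G := by rw [← ht]; exact orderOf_dvd_natCard t
      exact (Nat.not_even_iff_odd.2 hNo) (even_iff_two_dvd.2 h2)
  have hRRn : ((RR t K).subgroupOf (centralizer ({t} : Set G))).Normal := by
    refine ⟨fun x hx g => ?_⟩
    rw [mem_subgroupOf, mem_RR] at hx ⊢
    have hg := mem_centralizer_singleton_iff.1 g.2
    refine ⟨mem_centralizer_singleton_iff.1 (g * x * g⁻¹).2, fun k hk => ?_⟩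
    have hg' : (g : G)⁻¹ * t = t * (g : G)⁻¹ := by
      rw [inv_mul_eq_iff_eq_mul, ← mul_assoc, hg, mul_inv_cancel_right]
    have h1 := hnorm _ hg' k hk
    rw [inv_inv] at h1
    have h2 := hx.2 _ h1
    show (g : G) * x * (g : G)⁻¹ * k = k * (g * x * (g : G)⁻¹)
    calc (g : G) * x * (g : G)⁻¹ * k = g * (x * ((g : G)⁻¹ * k * g)) * (g : G)⁻¹ := by group
      _ = k * (g * x * (g : G)⁻¹) := by rw [h2]; group
  have hcore : pPrimeCore 2 ↥(RR t K) = ⊥ := by
    have h3 := Lib.PComponents.map_pPrimeCore_le_of_isSubnormal (p := 2) hRRn.isSubnormal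
    have h4 : pPrimeCore 2 ↥(centralizer ({t} : Set G)) = ⊥ := by
      have hb := C.bal t ht
      unfold centralizerPPrimeCore at hb
      exact (Subgroup.map_eq_bot_iff_of_injective _ (Subgroup.subtype_injective _)).1 hb
    rw [h4, le_bot_iff, Subgroup.map_eq_bot_iff_of_injective _ (Subgroup.subtype_injective _)] at h3
    have e' : ↥((RR t K).subgroupOf (centralizer ({t} : Set G))) ≃* ↥(RR t K) :=
      Subgroup.subgroupOfEquivOfLe inf_le_left
    have h5 := Lib.Cores.map_equiv_pPrimeCore e' 2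
    rw [h3, Subgroup.map_bot] at h5
    exact h5.symm
  have hmin : (Nat.card ↥(RR t K)).minFac = 2 := by
    rw [Nat.minFac_eq_two_iff]
    have : orderOf (⟨t, mem_RR.2 ⟨rfl, hle⟩⟩ : RR t K) = 2 := by rw [Subgroup.orderOf_mk]; exact ht
    rw [← this]
    exact orderOf_dvd_natCard _
  have hSyl : ∀ P : Sylow 2 ↥(RR t K), IsCyclic P := by
    intro P
    have hle' : RR t K ≤ centralizer (K : Set G) := inf_le_right
    have h1 : IsPGroup 2 ((P : Subgroup (RR t K)).map (Subgroup.inclusion hle')) := P.isPGroup'.map _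
    obtain ⟨Q, hQ⟩ := h1.exists_le_sylow
    have hQc := hcyc Q
    have h2 : IsCyclic ((P : Subgroup (RR t K)).map (Subgroup.inclusion hle')) :=
      isCyclic_of_injective (Subgroup.inclusion hQ) (Subgroup.inclusion_injective hQ)
    exact isCyclic_of_injective
      ((P : Subgroup (RR t K)).equivMapOfInjective _ (Subgroup.inclusion_injective hle')).toMonoidHom
      (MulEquiv.injective _)
  obtain ⟨P⟩ : Nonempty (Sylow 2 ↥(RR t K)) := inferInstance
  have hPc := hSyl P
  have hcomp := IsCyclic.isComplement' hmin (P := P) hPc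
  have hker : (MonoidHom.transferSylow P (hPc.normalizer_le_centralizer hmin)).ker = ⊥ := by
    rw [eq_bot_iff, ← hcore]
    refine Lib.Cores.le_pPrimeCore inferInstance ?_
    have h1 : Nat.card (MonoidHom.transferSylow P (hPc.normalizer_le_centralizer hmin)).ker =
        (P : Subgroup ↥(RR t K)).index := by
      rw [hcomp.index_eq_card]
    rw [h1]
    exact (Nat.Prime.coprime_iff_not_dvd Nat.prime_two).2 P.not_dvd_index |>.symm
  rw [hker] at hcomp
  have hPtop : (P : Subgroup ↥(RR t K)) = ⊤ := isComplement'_bot_left.1 hcomp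
  refine ⟨ht1, htt, htnK, hle, hnorm, huni, hodd, hz, ?_, ?_⟩
  · have h1 : IsCyclic (⊤ : Subgroup ↥(RR t K)) := by rw [← hPtop]; exact hPc
    exact isCyclic_of_injective (Subgroup.topEquiv.symm : ↥(RR t K) ≃* _).toMonoidHom
      (MulEquiv.injective _)
  · have h1 : IsPGroup 2 (⊤ : Subgroup ↥(RR t K)) := by rw [← hPtop]; exact P.isPGroup'
    exact h1.of_injective (Subgroup.topEquiv.symm : ↥(RR t K) ≃* _).toMonoidHom (MulEquiv.injective _)

/-- an involution `t` as in `Front` exists -/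
theorem exists_front (C : Ctx G) {K : Subgroup G} (S : IsStandardSubgroup K)
    (hcomp : ∃ t : G, orderOf t = 2 ∧ CompOf t K) (hcyc : Cyc K) {n : ℕ} (hn : 5 ≤ n)
    (e : ↥K ≃* ↥(alternatingGroup (Fin n))) : ∃ t : G, Front t K := by
  obtain ⟨t, ht, h1, -⟩ := hcomp
  exact ⟨t, front_of C S hcyc hn e ht (mem_centralizer_iff.2 fun k hk =>
    mem_centralizer_singleton_iff.1 (h1 hk))⟩

namespace Front

variable {t : G} {K : Subgroup G}

/-- `t` is not a square in `C(K)`: `C_G(t) ∩ C_G(K) = ⟨t⟩` -/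
theorem eq_of_mem_RR (F : Front t K) (h : ¬ ∃ r, (∀ k ∈ K, r * k = k * r) ∧ r * r = t) {x : G}
    (hx : x ∈ RR t K) : x = 1 ∨ x = t := by
  obtain ⟨hxt, hxK⟩ := mem_RR.1 hx
  obtain ⟨k, hk⟩ := (IsPGroup.iff_orderOf.1 F.p2) ⟨x, hx⟩
  rcases Nat.lt_or_ge k 1 with h0 | h0
  · left
    obtain rfl : k = 0 := by omega
    rw [pow_zero, orderOf_eq_one_iff] at hk
    exact congrArg Subtype.val hk
  · -- the power `x ^ (2 ^ (k - 1))` is the involution `t`
    obtain ⟨m, rfl⟩ : ∃ m, k = m + 1 := ⟨k - 1, by omega⟩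
    rw [Subgroup.orderOf_mk] at hk
    have h1 : x ^ (2 ^ m) * x ^ (2 ^ m) = 1 := by
      rw [← pow_add, ← two_mul, ← pow_succ', ← hk, pow_orderOf_eq_one]
    have hcomm : ∀ j : ℕ, x ^ j * t = t * x ^ j := fun j => ((show Commute x t from hxt).pow_left j).eq
    have hcommK : ∀ j : ℕ, ∀ k ∈ K, x ^ j * k = k * x ^ j := fun j k hk =>
      ((show Commute x k from hxK k hk).pow_left j).eq
    rcases F.uni _ (hcomm _) (hcommK _) h1 with h2 | h2
    · exfalso
      have h3 := orderOf_dvd_of_pow_eq_one h2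
      rw [hk, Nat.pow_dvd_pow_iff_le_right (by norm_num)] at h3
      omega
    · rcases Nat.eq_zero_or_pos m with rfl | hm
      · rw [pow_zero, pow_one] at h2
        exact Or.inr h2
      · exfalso
        obtain ⟨j, rfl⟩ : ∃ j, m = j + 1 := ⟨m - 1, by omega⟩
        apply h
        refine ⟨x ^ (2 ^ j), hcommK _, ?_⟩
        rw [← pow_add, ← two_mul, ← pow_succ']
        exact h2

/-- with `four` -/
theorem fr (F : Front t K) (h : ∃ r, (∀ k ∈ K, r * k = k * r) ∧ r * r = t) : Fr t K :=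
  ⟨F.t1, F.tt, F.tK, F.le, F.norm, F.uni, F.odd, h⟩

/-- `|R| = 2` for `n ≥ 7` -/
theorem not_four [Finite G] (F : Front t K) {n : ℕ} (hn : 7 ≤ n) (e : ↥K ≃* ↥(alternatingGroup (Fin n))) :
    ¬ ∃ r, (∀ k ∈ K, r * k = k * r) ∧ r * r = t :=
  fun h => (F.fr h).main_alt F.hz F.cyc hn e

/-- `Gen t φ K` for `n ≥ 7` -/
theorem gen [Finite G] (F : Front t K) {n : ℕ} (hn : 7 ≤ n) (e : ↥K ≃* ↥(alternatingGroup (Fin n))) :
    ∃ φ : centralizer ({t} : Set G) →* Perm (Fin n), Gen t φ K := by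
  have h4 := F.not_four hn e
  obtain ⟨L, hL⟩ := StdAlt.Lab.exists_lab n hn e
  have hN : ∀ x, x * t = t * x → x ∈ normalizer (K : Set G) := by
    intro x hx
    exact StdAlt.Conj.mem_N_of (F.norm x hx)
  have hN' : ∀ x : centralizer ({t} : Set G), (x : G) ∈ normalizer (K : Set G) := fun x =>
    hN x (mem_centralizer_singleton_iff.1 x.2)
  let φ : centralizer ({t} : Set G) →* Perm (Fin n) :=
    { toFun := fun x => L.φ x
      map_one' := L.one
      map_mul' := fun x y => L.mul _ _ (hN' x) (hN' y) }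
  have hφ : ∀ x : centralizer ({t} : Set G), φ x = L.φ x := fun _ => rfl
  have hker : ∀ g : centralizer ({t} : Set G), φ g = 1 ↔ (g : G) = 1 ∨ (g : G) = t := by
    intro g
    rw [hφ, L.ker _ (hN' g)]
    constructor
    · intro h
      apply F.eq_of_mem_RR h4
      rw [mem_RR]
      exact ⟨mem_centralizer_singleton_iff.1 g.2, StdAlt.Conj.mem_C.1 h⟩
    · rintro (h | h)
      · rw [h]; exact one_mem _
      · rw [h]; exact StdAlt.Conj.mem_C.2 F.le
  have hle : K ≤ centralizer ({t} : Set G) := fun k hk =>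
    mem_centralizer_singleton_iff.2 (F.le k hk).symm
  have hsurj : ∀ a ∈ An n, ∃ g : centralizer ({t} : Set G), (g : G) ∈ K ∧ φ g = a := by
    intro a ha
    obtain ⟨x, hx, hxa⟩ := L.lift a ha
    exact ⟨⟨x, hle hx⟩, hx, hxa⟩
  refine ⟨φ, F.tt, F.t1, hker, hle, F.norm, F.tK, hsurj, fun g hg => L.even _ hg, ?_⟩
  intro g hg
  obtain ⟨x, hx, hxa⟩ := hsurj _ hg
  have h1 : φ (g * x⁻¹) = 1 := by rw [map_mul, map_inv, hxa, mul_inv_cancel]
  rcases (hker _).1 h1 with h2 | h2
  · left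
    have h3 : (g : G) = x := mul_inv_eq_one.1 h2
    rw [h3]; exact hx
  · right
    have h3 : (g : G) * (x : G)⁻¹ = t := h2
    have h5 : (g : G) = t * x := mul_inv_eq_iff_eq_mul.1 h3
    rw [h5, ← mul_assoc, F.tt, one_mul]; exact hx

end Front

/-- **the front end** for `n ≥ 7` -/
theorem front_gen (C : Ctx G) {K : Subgroup G} (S : IsStandardSubgroup K)
    (hcomp : ∃ t : G, orderOf t = 2 ∧ CompOf t K) (hcyc : Cyc K) {n : ℕ} (hn : 7 ≤ n)
    (e : ↥K ≃* ↥(alternatingGroup (Fin n))) :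
    ∃ (t : G) (φ : centralizer ({t} : Set G) →* Perm (Fin n)), Front t K ∧ Gen t φ K := by
  have := C.fin
  obtain ⟨t, F⟩ := exists_front C S hcomp hcyc (by omega) e
  obtain ⟨φ, h⟩ := F.gen hn e
  exact ⟨t, φ, F, h⟩

end Cfsg.Agent.OddHalf.D5

end
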