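import Cfsg.Agent.OddHalf.D5.ElemAlt
import Cfsg.Agent.OddHalf.D5.Defs
import Cfsg.Agent.StdSpSix.TR
import Cfsg.Agent.LargeExtra.TransferPow

-- merged: Cfsg.Agent.OddHalf.D5.ElemEx
section

/-!
# ODD D5: large elementary abelian 2-groups in the centralizer of an involution of `S_n` (helper684)

`exists_elem`: for `α ∈ S_n` with `α² = 1` there is `F ≤ A_n`, elementary abelian, centralizing `α`, with
`2 |F| ≥ 2 ^ (n / 2)`. `exists_elem_four`: `2 ^ n < |F| ^ 4` if `6 ≤ n`.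
-/

set_option autoImplicit false

namespace Cfsg.Agent.OddHalf.D5.ElemEx

open Equiv

variable {n : ℕ}

/-- an involution extends to one with at most one fixed point -/
theorem exists_full (α : Perm (Fin n)) (hα : α * α = 1) :
    ∃ γ : Perm (Fin n), γ * γ = 1 ∧ (∀ x, α x ≠ x → γ x = α x) ∧ ∀ x y, γ x = x → γ y = y → x = y := by
  classical
  obtain ⟨γ, ⟨h1, h2⟩, hmax⟩ := Set.exists_max_image {γ : Perm (Fin n) | γ * γ = 1 ∧ ∀ x, α x ≠ x → γ x = α x}
    (fun γ => γ.support.card) (Set.toFinite _) ⟨α, hα, fun _ _ => rfl⟩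
  refine ⟨γ, h1, h2, fun x y hx hy => ?_⟩
  by_contra hne
  have hinv : ∀ z, γ (γ z) = z := fun z => by
    rw [← Perm.mul_apply, h1, Perm.one_apply]
  have hx' : ∀ z, z ≠ x → γ z ≠ x := by
    intro z hz e
    apply hz
    rw [← hinv z, e, hx]
  have hy' : ∀ z, z ≠ y → γ z ≠ y := by
    intro z hz e
    apply hz
    rw [← hinv z, e, hy]
  have hap : ∀ z, z ≠ x → z ≠ y → (γ * swap x y) z = γ z := by
    intro z hzx hzy
    rw [Perm.mul_apply, swap_apply_of_ne_of_ne hzx hzy]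
  have hapx : (γ * swap x y) x = y := by rw [Perm.mul_apply, swap_apply_left, hy]
  have hapy : (γ * swap x y) y = x := by rw [Perm.mul_apply, swap_apply_right, hx]
  have hmem : (γ * swap x y) * (γ * swap x y) = 1 ∧ ∀ z, α z ≠ z → (γ * swap x y) z = α z := by
    constructor
    · ext z
      congr 1
      rw [Perm.mul_apply, Perm.one_apply]
      by_cases hzx : z = x
      · rw [hzx, hapx, hapy]
      by_cases hzy : z = y
      · rw [hzy, hapy, hapx]
      rw [hap z hzx hzy, hap _ (hx' z hzx) (hy' z hzy), hinv]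
    · intro z hz
      have hzx : z ≠ x := by
        rintro rfl
        apply hz
        rw [← h2 z hz, hx]
      have hzy : z ≠ y := by
        rintro rfl
        apply hz
        rw [← h2 z hz, hy]
      rw [hap z hzx hzy, h2 z hz]
  have h3 := hmax _ hmem
  have h4 : insert x (γ.support) ⊆ (γ * swap x y).support := by
    intro z hz
    rw [Finset.mem_insert, Perm.mem_support] at hz
    rw [Perm.mem_support]
    rcases hz with rfl | hz
    · rw [hapx]; exact fun e => hne e.symm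
    · have hzx : z ≠ x := by rintro rfl; exact hz hx
      have hzy : z ≠ y := by rintro rfl; exact hz hy
      rw [hap z hzx hzy]; exact hz
  have h5 := Finset.card_le_card h4
  rw [Finset.card_insert_of_notMem (by rw [Perm.mem_support]; exact fun h => h hx)] at h5
  have h6 : (γ * swap x y).support.card ≤ γ.support.card := h3
  omega

/-- the elementary abelian group attached to a fixed point free-ish involution -/
def big (γ : Perm (Fin n)) (hγ : γ * γ = 1) : Subgroup (Perm (Fin n)) where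
  carrier := {σ | ∀ x, σ x = x ∨ σ x = γ x}
  one_mem' := fun x => Or.inl rfl
  mul_mem' := by
    intro σ τ hσ hτ x
    have hinv : ∀ z, γ (γ z) = z := fun z => by
      rw [← Perm.mul_apply, hγ, Perm.one_apply]
    rw [Perm.mul_apply]
    rcases hτ x with h | h
    · rw [h]; exact hσ x
    · rw [h]
      rcases hσ (γ x) with h' | h'
      · exact Or.inr h'
      · rw [h', hinv]; exact Or.inl rfl
  inv_mem' := by
    intro σ hσ x
    have hinv : ∀ z, γ (γ z) = z := fun z => by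
      rw [← Perm.mul_apply, hγ, Perm.one_apply]
    have h1 : σ (σ⁻¹ x) = x := σ.apply_symm_apply x
    rcases hσ (σ⁻¹ x) with h | h
    · left; rw [← h, h1]
    · right; rw [← hinv (σ⁻¹ x), ← h, h1]

theorem mem_big {γ : Perm (Fin n)} {hγ : γ * γ = 1} {σ : Perm (Fin n)} :
    σ ∈ big γ hγ ↔ ∀ x, σ x = x ∨ σ x = γ x := Iff.rfl

theorem sq_big {γ : Perm (Fin n)} {hγ : γ * γ = 1} {σ : Perm (Fin n)} (hσ : σ ∈ big γ hγ) : σ * σ = 1 := by
  have hinv : ∀ z, γ (γ z) = z := fun z => by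
    rw [← Perm.mul_apply, hγ, Perm.one_apply]
  ext x
  congr 1
  rw [Perm.mul_apply, Perm.one_apply]
  rcases hσ x with h | h
  · rw [h, h]
  · rw [h]
    rcases hσ (γ x) with h' | h'
    · -- `σ (γ x) = γ x = σ x`
      have : γ x = x := σ.injective (h'.trans h.symm)
      rw [h', this]
    · rw [h', hinv]

theorem card_big (γ : Perm (Fin n)) (hγ : γ * γ = 1) (h : ∀ x y, γ x = x → γ y = y → x = y) :
    2 ^ (n / 2) ≤ Nat.card (big γ hγ) := by
  classical
  have hinv : ∀ z, γ (γ z) = z := fun z => by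
    rw [← Perm.mul_apply, hγ, Perm.one_apply]
  set R : Finset (Fin n) := Finset.univ.filter fun x => x < γ x with hR
  have hcard : n / 2 ≤ R.card := by
    have h1 : (Finset.univ : Finset (Fin n)) = R ∪ (R.image γ) ∪ (Finset.univ.filter fun x => γ x = x) := by
      ext x
      simp only [hR, Finset.mem_univ, Finset.mem_union, Finset.mem_filter, Finset.mem_image, true_and, true_iff]
      rcases lt_trichotomy x (γ x) with h1 | h1 | h1
      · exact Or.inl (Or.inl h1)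
      · exact Or.inr h1.symm
      · exact Or.inl (Or.inr ⟨γ x, by rw [hinv]; exact h1, hinv x⟩)
    have h2 : (Finset.univ.filter fun x => γ x = x).card ≤ 1 := by
      rw [Finset.card_le_one]
      intro a ha b hb
      exact h a b (Finset.mem_filter.1 ha).2 (Finset.mem_filter.1 hb).2
    have h3 : (R.image γ).card ≤ R.card := Finset.card_image_le
    have h4 := Finset.card_union_le (R ∪ R.image γ) (Finset.univ.filter fun x => γ x = x)
    have h5 := Finset.card_union_le R (R.image γ)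
    rw [← h1, Finset.card_univ, Fintype.card_fin] at h4
    omega
  -- the involution attached to a set of representatives
  let f : Finset (Fin n) → Fin n → Fin n := fun S x => if x ∈ S ∨ γ x ∈ S then γ x else x
  have hf : ∀ S, Function.Involutive (f S) := by
    intro S x
    by_cases hx : x ∈ S ∨ γ x ∈ S
    · have h1 : f S x = γ x := if_pos hx
      have h2 : f S (γ x) = x := by
        show (if γ x ∈ S ∨ γ (γ x) ∈ S then γ (γ x) else γ x) = x
        rw [hinv, if_pos (Or.symm hx)]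
      rw [h1, h2]
    · have h1 : f S x = x := if_neg hx
      rw [h1, h1]
  let g : R.powerset → big γ hγ := fun S => ⟨(hf S.1).toPerm (f S.1), fun x => by
    show f S.1 x = x ∨ f S.1 x = γ x
    by_cases hx : x ∈ S.1 ∨ γ x ∈ S.1
    · exact Or.inr (if_pos hx)
    · exact Or.inl (if_neg hx)⟩
  have hg : Function.Injective g := by
    intro S T e
    have e1 : ∀ x, f S.1 x = f T.1 x := fun x => by
      have := congrArg (fun u : big γ hγ => (u : Perm (Fin n)) x) e
      exact this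
    have key : ∀ S : Finset (Fin n), S ∈ R.powerset → ∀ x, x ∈ S ↔ (x ∈ R ∧ f S x ≠ x) := by
      intro S hS x
      have hS' := Finset.mem_powerset.1 hS
      constructor
      · intro hx
        have hxR := hS' hx
        refine ⟨hxR, ?_⟩
        have : f S x = γ x := if_pos (Or.inl hx)
        rw [this]
        exact ne_of_gt (Finset.mem_filter.1 hxR).2
      · rintro ⟨hxR, hx⟩
        have hlt := (Finset.mem_filter.1 hxR).2
        by_contra hxS
        apply hx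
        apply if_neg
        rintro (h1 | h1)
        · exact hxS h1
        · have h2 := (Finset.mem_filter.1 (hS' h1)).2
          rw [hinv] at h2
          exact absurd hlt (not_lt.2 h2.le)
    apply Subtype.ext
    ext x
    rw [key S.1 S.2, key T.1 T.2, e1]
  have h1 := Nat.card_le_card_of_injective g hg
  rw [Nat.card_eq_fintype_card, Fintype.card_coe, Finset.card_powerset] at h1
  exact (Nat.pow_le_pow_right (by norm_num) hcard).trans h1

/-- the even part has index at most two -/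
theorem card_even (F : Subgroup (Perm (Fin n))) :
    Nat.card F ≤ 2 * Nat.card (F ⊓ alternatingGroup (Fin n) : Subgroup (Perm (Fin n))) := by
  classical
  set s : F →* ℤˣ := Perm.sign.comp F.subtype with hs
  have h1 := s.ker.card_mul_index
  have h2 : s.ker.index ≤ 2 := by
    rw [Subgroup.index_ker]
    calc Nat.card s.range ≤ Nat.card ℤˣ := Subgroup.card_le_card_group _
      _ = 2 := by rw [Nat.card_eq_fintype_card]; rfl
  have h3 : Nat.card s.ker = Nat.card (F ⊓ alternatingGroup (Fin n) : Subgroup (Perm (Fin n))) := by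
    apply Nat.card_congr
    refine ⟨fun x => ⟨x.1.1, x.1.2, x.2⟩, fun y => ⟨⟨y.1, y.2.1⟩, y.2.2⟩, fun _ => rfl, fun _ => rfl⟩
  rw [← h1, h3, mul_comm]
  exact Nat.mul_le_mul_right _ h2

/-- large elementary abelian subgroup of `A_n` centralizing `α` -/
theorem exists_elem (α : Perm (Fin n)) (hα : α * α = 1) :
    ∃ F : Subgroup (Perm (Fin n)), (∀ f ∈ F, f * f = 1) ∧ (∀ f ∈ F, f ∈ alternatingGroup (Fin n)) ∧
      (∀ f ∈ F, f * α = α * f) ∧ 2 ^ (n / 2) ≤ 2 * Nat.card F := by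
  obtain ⟨γ, h1, h2, h3⟩ := exists_full α hα
  have hα' : α ∈ big γ h1 := by
    intro x
    by_cases hx : α x = x
    · exact Or.inl hx
    · exact Or.inr (h2 x hx).symm
  refine ⟨big γ h1 ⊓ alternatingGroup (Fin n), fun f hf => sq_big hf.1, fun f hf => hf.2, fun f hf => ?_,
    (card_big γ h1 h3).trans (card_even _)⟩
  exact Elem.comm_of_sq (fun f hf => sq_big hf) f hf.1 α hα'

theorem exists_elem_four (hn : 6 ≤ n) (α : Perm (Fin n)) (hα : α * α = 1) :
    ∃ F : Subgroup (Perm (Fin n)), (∀ f ∈ F, f * f = 1) ∧ (∀ f ∈ F, f ∈ alternatingGroup (Fin n)) ∧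
      (∀ f ∈ F, f * α = α * f) ∧ 2 ^ n < (Nat.card F) ^ 4 := by
  obtain ⟨F, h1, h2, h3, h4⟩ := exists_elem α hα
  refine ⟨F, h1, h2, h3, ?_⟩
  obtain ⟨k, hk⟩ : ∃ k, n / 2 = k + 1 := ⟨n / 2 - 1, by omega⟩
  rw [hk, pow_succ, mul_comm] at h4
  have h5 : 2 ^ k ≤ Nat.card F := Nat.le_of_mul_le_mul_left h4 (by norm_num)
  calc 2 ^ n < 2 ^ (k * 4) := Nat.pow_lt_pow_right (by norm_num) (by omega)
    _ = (2 ^ k) ^ 4 := pow_mul _ _ _
    _ ≤ (Nat.card F) ^ 4 := Nat.pow_le_pow_left h5 4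

end Cfsg.Agent.OddHalf.D5.ElemEx

end

-- merged: Cfsg.Agent.OddHalf.D5.SymEnd
section

/-!
# ODD D5: the end of the product pattern (helper684)

`C_G(t) = ⟨t⟩ × ι(A)`, `A_n ≤ A ≤ S_n`. `Two t ι K₁`: `K₁` commutes with `K₁^t`, `x x^t ∈ ι(A_n)` for `x ∈ K₁`, every
element of `ι(A_n)` is of this form, and `ι(A)` normalizes `K₁`.

`Two.false`: then `G` has a subgroup of index two. (Transfer with `H = K₁ K₁^t C_G(t)` and the character which is
trivial on `K₁ K₁^t` and on the elements `t ^ (sign σ) ι(σ)`; `t^G` meets `K₁ K₁^t ι(σ)`, `σ` odd, trivially by the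
2-rank.)
-/

set_option autoImplicit false

namespace Cfsg.Agent.OddHalf.D5.SymEnd

open Subgroup Equiv

variable {G : Type*} [Group G] {n : ℕ} {t : G} {A : Subgroup (Perm (Fin n))} {ι : A →* G} {K₁ : Subgroup G}

/-- The product pattern. -/
structure Two (t : G) (ι : A →* G) (K₁ : Subgroup G) : Prop where
  comm : ∀ x ∈ K₁, ∀ y ∈ K₁, x * (t * y * t) = t * y * t * x
  map : ∀ x ∈ K₁, ∃ a : A, (a : Perm (Fin n)) ∈ An n ∧ x * (t * x * t) = ι a
  onto : ∀ a : A, (a : Perm (Fin n)) ∈ An n → ∃ x ∈ K₁, x * (t * x * t) = ι a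
  norm : ∀ σ : A, ∀ x ∈ K₁, ι σ * x * (ι σ)⁻¹ ∈ K₁

/-! ### Permutations -/

theorem cent_alt (hn : 4 ≤ n) {c : Perm (Fin n)} (hc : ∀ a ∈ An n, c * a = a * c) : c = 1 := by
  ext x
  rw [Perm.one_apply]
  -- choose y, z, w different from x
  by_contra hne
  have hcx : c x ≠ x := fun e => hne (by rw [e])
  -- a 3-cycle fixing `x` and moving `c x`
  obtain ⟨y, hy1, hy2⟩ : ∃ y, y ≠ x ∧ y ≠ c x := by
    have : ({x, c x} : Finset (Fin n)).card < (Finset.univ : Finset (Fin n)).card := by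
      rw [Finset.card_univ, Fintype.card_fin]
      exact lt_of_le_of_lt (Finset.card_le_two) (by omega)
    obtain ⟨y, -, hy⟩ := Finset.exists_mem_notMem_of_card_lt_card this
    exact ⟨y, fun e => hy (by simp [e]), fun e => hy (by simp [e])⟩
  obtain ⟨z, hz1, hz2, hz3⟩ : ∃ z, z ≠ x ∧ z ≠ c x ∧ z ≠ y := by
    have : ({x, c x, y} : Finset (Fin n)).card < (Finset.univ : Finset (Fin n)).card := by
      rw [Finset.card_univ, Fintype.card_fin]
      exact lt_of_le_of_lt (Finset.card_le_three) (by omega)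
    obtain ⟨z, -, hz⟩ := Finset.exists_mem_notMem_of_card_lt_card this
    exact ⟨z, fun e => hz (by simp [e]), fun e => hz (by simp [e]), fun e => hz (by simp [e])⟩
  have h1 := hc (swap (c x) y * swap (c x) z) (by
    show swap (c x) y * swap (c x) z ∈ alternatingGroup (Fin n)
    rw [Perm.mem_alternatingGroup, Perm.sign_mul, Perm.sign_swap hy2.symm, Perm.sign_swap hz2.symm]
    decide)
  have h2 := congrArg (fun f : Perm (Fin n) => f x) h1
  simp only [Perm.mul_apply] at h2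
  rw [swap_apply_of_ne_of_ne hcx.symm hz1.symm, swap_apply_of_ne_of_ne hcx.symm hy1.symm, swap_apply_left,
    swap_apply_of_ne_of_ne hz2 hz3] at h2
  exact hz2 h2.symm

/-- `A_n` is not abelian -/
theorem exists_noncomm (hn : 4 ≤ n) : ∃ a ∈ An n, ∃ b ∈ An n, a * b ≠ b * a := by
  by_contra hne
  push Not at hne
  have h1 : ∀ a ∈ An n, a = 1 := fun a ha => cent_alt hn fun b hb => hne a ha b hb
  have h2 : Nat.card (An n) = 1 := by
    have : Subsingleton (An n) := ⟨fun a b => Subtype.ext ((h1 a a.2).trans (h1 b b.2).symm)⟩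
    exact Nat.card_unique
  have h3 : Nontrivial (Fin n) := Fin.nontrivial_iff_two_le.2 (by omega)
  have h4 := two_mul_nat_card_alternatingGroup (α := Fin n)
  rw [h2, Nat.card_eq_fintype_card, Fintype.card_perm, Fintype.card_fin] at h4
  have h5 : 4 ≤ n.factorial := by
    calc 4 ≤ (4).factorial := by decide
      _ ≤ n.factorial := Nat.factorial_le hn
  omega

namespace Two

section basic

variable (h : Spl t A ι) (H : Two t ι K₁)
include h

theorem tinv : t⁻¹ = t := inv_eq_of_mul_eq_one_left h.tt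

theorem ttx (x : G) : t * (t * x) = x := by rw [← mul_assoc, h.tt, one_mul]

theorem txt_mul (x y : G) : t * x * t * (t * y * t) = t * (x * y) * t := by
  calc t * x * t * (t * y * t) = t * x * (t * t) * y * t := by group
    _ = t * (x * y) * t := by rw [h.tt]; group

theorem txt_inv (x : G) : (t * x * t)⁻¹ = t * x⁻¹ * t := by
  rw [mul_inv_rev, mul_inv_rev, tinv h, mul_assoc]

theorem txt_txt (x : G) : t * (t * x * t) * t = x := by
  calc t * (t * x * t) * t = (t * t) * x * (t * t) := by group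
    _ = x := by rw [h.tt]; group

end basic

/-- `U = K₁ K₁^t` -/
def U (h : Spl t A ι) (H : Two t ι K₁) : Subgroup G where
  carrier := {g | ∃ x ∈ K₁, ∃ y ∈ K₁, g = x * (t * y * t)}
  one_mem' := ⟨1, one_mem _, 1, one_mem _, by rw [mul_one, one_mul, h.tt]⟩
  mul_mem' := by
    rintro _ _ ⟨x, hx, y, hy, rfl⟩ ⟨x', hx', y', hy', rfl⟩
    refine ⟨x * x', mul_mem hx hx', y * y', mul_mem hy hy', ?_⟩
    calc x * (t * y * t) * (x' * (t * y' * t)) = x * (t * y * t * x') * (t * y' * t) := by group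
      _ = x * (x' * (t * y * t)) * (t * y' * t) := by rw [H.comm x' hx' y hy]
      _ = x * x' * (t * y * t * (t * y' * t)) := by group
      _ = x * x' * (t * (y * y') * t) := by rw [txt_mul h]
  inv_mem' := by
    rintro _ ⟨x, hx, y, hy, rfl⟩
    refine ⟨x⁻¹, inv_mem hx, y⁻¹, inv_mem hy, ?_⟩
    rw [H.comm x hx y hy, mul_inv_rev, txt_inv h]

variable (h : Spl t A ι) (H : Two t ι K₁)
include h H

theorem mem_U {g : G} : g ∈ U h H ↔ ∃ x ∈ K₁, ∃ y ∈ K₁, g = x * (t * y * t) := Iff.rfl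

theorem K_le : K₁ ≤ U h H := fun x hx => ⟨x, hx, 1, one_mem _, by rw [mul_one, h.tt, mul_one]⟩

theorem Kt_mem {x : G} (hx : x ∈ K₁) : t * x * t ∈ U h H := ⟨1, one_mem _, x, hx, by rw [one_mul]⟩

theorem iota_mem {a : A} (ha : (a : Perm (Fin n)) ∈ An n) : ι a ∈ U h H := by
  obtain ⟨x, hx, e⟩ := H.onto a ha
  exact ⟨x, hx, x, hx, e.symm⟩

theorem t_conj {g : G} (hg : g ∈ U h H) : t * g * t ∈ U h H := by
  obtain ⟨x, hx, y, hy, rfl⟩ := hg
  refine ⟨y, hy, x, hx, ?_⟩
  calc t * (x * (t * y * t)) * t = t * x * t * (t * (t * y * t) * t) := by rw [txt_mul h]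
    _ = t * x * t * y := by rw [txt_txt h]
    _ = y * (t * x * t) := (H.comm y hy x hx).symm

theorem iota_conj (σ : A) {g : G} (hg : g ∈ U h H) : ι σ * g * (ι σ)⁻¹ ∈ U h H := by
  obtain ⟨x, hx, y, hy, rfl⟩ := hg
  refine ⟨_, H.norm σ x hx, _, H.norm σ y hy, ?_⟩
  have e1 : (ι σ)⁻¹ * t = t * (ι σ)⁻¹ := by
    rw [inv_mul_eq_iff_eq_mul, ← mul_assoc, ← h.comm σ, mul_assoc, mul_inv_cancel, mul_one]
  calc ι σ * (x * (t * y * t)) * (ι σ)⁻¹ = ι σ * x * (t * y * t) * (ι σ)⁻¹ := by group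
    _ = ι σ * x * ((ι σ)⁻¹ * ι σ) * (t * y * (t * (ι σ)⁻¹)) := by group
    _ = ι σ * x * (ι σ)⁻¹ * (ι σ * t * y * (t * (ι σ)⁻¹)) := by group
    _ = ι σ * x * (ι σ)⁻¹ * (t * ι σ * y * ((ι σ)⁻¹ * t)) := by rw [h.comm, e1]
    _ = ι σ * x * (ι σ)⁻¹ * (t * (ι σ * y * (ι σ)⁻¹) * t) := by group

/-- `C(t)` normalizes `U` -/
theorem cent_conj {c : G} (hc : c * t = t * c) {g : G} (hg : g ∈ U h H) : c * g * c⁻¹ ∈ U h H := by
  rcases h.cent c hc with ⟨a, rfl⟩ | ⟨a, rfl⟩
  · exact iota_conj h H a hg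
  · have := t_conj h H (iota_conj h H a hg)
    have e : t * ι a * g * (t * ι a)⁻¹ = t * (ι a * g * (ι a)⁻¹) * t := by
      rw [mul_inv_rev, tinv h]; group
    rw [e]; exact this

/-- the multiplicative map `x ↦ x x^t` -/
theorem pr_mul {x y : G} (hx : x ∈ K₁) (hy : y ∈ K₁) :
    x * y * (t * (x * y) * t) = x * (t * x * t) * (y * (t * y * t)) := by
  calc x * y * (t * (x * y) * t) = x * y * (t * x * t * (t * y * t)) := by rw [txt_mul h]
    _ = x * (y * (t * x * t)) * (t * y * t) := by group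
    _ = x * (t * x * t * y) * (t * y * t) := by rw [H.comm y hy x hx]
    _ = x * (t * x * t) * (y * (t * y * t)) := by group

/-- elements of `K₁ ∩ K₁^t` commute with `U` -/
theorem central {z : G} (hz : z ∈ K₁) (hz' : t * z * t ∈ K₁) {g : G} (hg : g ∈ U h H) : z * g = g * z := by
  obtain ⟨x, hx, y, hy, rfl⟩ := hg
  have e1 : z * x = x * z := by
    have := H.comm x hx _ hz'
    rw [txt_txt h] at this
    exact this.symm
  calc z * (x * (t * y * t)) = z * x * (t * y * t) := by group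
    _ = x * (z * (t * y * t)) := by rw [e1]; group
    _ = x * (t * y * t * z) := by rw [H.comm z hz y hy]
    _ = x * (t * y * t) * z := by group

theorem t_not_mem (hn : 4 ≤ n) (hA : An n ≤ A) : t ∉ K₁ := by
  intro ht
  have hab : ∀ x ∈ K₁, ∀ y ∈ K₁, x * y = y * x := by
    intro x hx y hy
    have := H.comm x hx (t * y * t) (mul_mem (mul_mem ht hy) ht)
    rwa [txt_txt h] at this
  obtain ⟨a, ha, b, hb, hne⟩ := exists_noncomm hn
  apply hne
  obtain ⟨x, hx, ex⟩ := H.onto ⟨a, hA ha⟩ ha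
  obtain ⟨y, hy, ey⟩ := H.onto ⟨b, hA hb⟩ hb
  have h1 : ι (⟨a, hA ha⟩ * ⟨b, hA hb⟩) = ι (⟨b, hA hb⟩ * ⟨a, hA ha⟩) := by
    rw [map_mul, map_mul, ← ex, ← ey, ← pr_mul h H hx hy, ← pr_mul h H hy hx, hab x hx y hy]
  exact congrArg Subtype.val (h.inj h1)

/-- `t` has no fixed points on `K₁ ∩ K₁^t` -/
theorem fix_eq_one (hn : 4 ≤ n) (hA : An n ≤ A) {z : G} (hz : z ∈ K₁) (e : t * z * t = z) : z = 1 := by
  have hz' : t * z * t ∈ K₁ := by rw [e]; exact hz
  have hzt : z * t = t * z := by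
    calc z * t = t * z * t * t := by rw [e]
      _ = t * z * (t * t) := by group
      _ = t * z := by rw [h.tt, mul_one]
  have key : ∀ c : A, (∀ a : A, (a : Perm (Fin n)) ∈ An n → ι c * ι a = ι a * ι c) → c = 1 := by
    intro c hc
    apply Subtype.ext
    apply cent_alt hn
    intro a ha
    have := hc ⟨a, hA ha⟩ ha
    rw [← map_mul, ← map_mul] at this
    exact congrArg Subtype.val (h.inj this)
  have hcen : ∀ a : A, (a : Perm (Fin n)) ∈ An n → z * ι a = ι a * z := fun a ha =>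
    central h H hz hz' (iota_mem h H ha)
  rcases h.cent z hzt with ⟨c, rfl⟩ | ⟨c, rfl⟩
  · rw [key c hcen, map_one]
  · have hc1 : c = 1 := by
      apply key
      intro a ha
      have h1 := hcen a ha
      have h2 : t * (ι c * ι a) = t * (ι a * ι c) := by
        calc t * (ι c * ι a) = t * ι c * ι a := by group
          _ = ι a * (t * ι c) := h1
          _ = (ι a * t) * ι c := by group
          _ = t * (ι a * ι c) := by rw [← h.comm a]; group
      exact mul_left_cancel h2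
    rw [hc1, map_one, mul_one] at hz
    exact absurd hz (t_not_mem h H hn hA)

/-- elements of `K₁` inverted by `t` are squares of such -/
theorem exists_sqrt [Finite G] (hn : 4 ≤ n) (hA : An n ≤ A) {z : G} (hz : z ∈ K₁) (e : t * z * t = z⁻¹) :
    ∃ v ∈ K₁, t * v * t = v⁻¹ ∧ v * v = z := by
  have hpow : ∀ k : ℕ, t * z ^ k * t = (z ^ k)⁻¹ := by
    intro k
    induction k with
    | zero => simp [h.tt]
    | succ k ih =>
      rw [pow_succ, ← txt_mul h, ih, e, ← mul_inv_rev, ← pow_succ', ← pow_succ]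
  rcases Nat.even_or_odd' (orderOf z) with ⟨k, hk | hk⟩
  · -- even order
    exfalso
    have hpos := orderOf_pos z
    have h1 : z ^ k * z ^ k = 1 := by rw [← pow_add, ← two_mul, ← hk, pow_orderOf_eq_one]
    have h2 : (z ^ k)⁻¹ = z ^ k := inv_eq_of_mul_eq_one_left h1
    have h3 : z ^ k = 1 := fix_eq_one h H hn hA (pow_mem hz k) (by rw [hpow, h2])
    have h4 := orderOf_dvd_of_pow_eq_one h3
    have h5 : orderOf z ≤ k := Nat.le_of_dvd (by omega) h4
    omega
  · refine ⟨z ^ (k + 1), pow_mem hz _, hpow _, ?_⟩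
    rw [← pow_add, show k + 1 + (k + 1) = orderOf z + 1 by omega, pow_succ, pow_orderOf_eq_one, one_mul]

/-- no involutions in `K₁ ∩ K₁^t` -/
theorem eq_one_of_sq (hn : 4 ≤ n) (hA : An n ≤ A) {z : G} (hz : z ∈ K₁) (hz' : t * z * t ∈ K₁)
    (e : z * z = 1) : z = 1 := by
  have hc : z * (t * z * t) = t * z * t * z := H.comm z hz z hz
  have h1 : z * (t * z * t) ∈ K₁ := mul_mem hz hz'
  have h2 : z * (t * z * t) = 1 := by
    apply fix_eq_one h H hn hA h1
    rw [← txt_mul h, txt_txt h, hc]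
  -- `z^t = z⁻¹ = z`
  have h3 : z⁻¹ = z := inv_eq_of_mul_eq_one_left e
  have h4 : t * z * t = z := by
    rw [← h3]
    have := eq_inv_of_mul_eq_one_right h2
    rw [h3] at this ⊢
    exact this
  exact fix_eq_one h H hn hA hz h4

/-- `C_U(t) = ι(A_n)` -/
theorem mem_of_comm (hn : 4 ≤ n) (hA : An n ≤ A) {g : G} (hg : g ∈ U h H) (hgt : g * t = t * g) :
    ∃ a : A, (a : Perm (Fin n)) ∈ An n ∧ g = ι a := by
  obtain ⟨x, hx, y, hy, rfl⟩ := hg
  -- `x y^t = x^t y`, so `z := x⁻¹ y ∈ K₁ ∩ K₁^t`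
  have e1 : t * (x * (t * y * t)) * t = x * (t * y * t) := by
    rw [← hgt, mul_assoc, h.tt, mul_one]
  rw [← txt_mul h, txt_txt h] at e1
  -- `x^t y = x y^t`
  have e2 : t * (x⁻¹ * y) * t = x⁻¹ * y := by
    have e3 : t * x * t * y = y * (t * x * t) := (H.comm y hy x hx).symm
    have e4 : x⁻¹ * (y * (t * x * t)) * (t * x⁻¹ * t) = x⁻¹ * (x * (t * y * t)) * (t * x⁻¹ * t) := by
      rw [← e3, e1]
    have e5 : x⁻¹ * (y * (t * x * t)) * (t * x⁻¹ * t) = x⁻¹ * y := by
      rw [← txt_inv h]; group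
    have e6 : x⁻¹ * (x * (t * y * t)) * (t * x⁻¹ * t) = t * (y * x⁻¹) * t := by
      rw [← txt_mul h]; group
    rw [e5, e6] at e4
    -- `x⁻¹ y = (y x⁻¹)^t`; so `w = y x⁻¹ ∈ K₁`, `w^t = x⁻¹ y ∈ K₁`
    have hw : y * x⁻¹ ∈ K₁ := mul_mem hy (inv_mem hx)
    have hw' : t * (y * x⁻¹) * t ∈ K₁ := by rw [← e4]; exact mul_mem (inv_mem hx) hy
    have h7 := central h H hw hw' (K_le h H hx)
    have h8 : y * x⁻¹ = x⁻¹ * y := by
      have : y = x * (y * x⁻¹) := by rw [← h7]; group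
      calc y * x⁻¹ = x⁻¹ * (x * (y * x⁻¹)) := by group
        _ = x⁻¹ * y := by rw [← this]
    rw [← h8, ← e4, h8]
  have h1 : x⁻¹ * y = 1 := fix_eq_one h H hn hA (mul_mem (inv_mem hx) hy) e2
  have h2 : y = x := (inv_mul_eq_one.1 h1).symm
  rw [h2]
  obtain ⟨a, ha, e⟩ := H.map x hx
  exact ⟨a, ha, e⟩

/-- an involution of `tU` is `U`-conjugate to `t` -/
theorem conj_of_sq [Finite G] (hn : 4 ≤ n) (hA : An n ≤ A) {g : G} (hg : g ∈ U h H)
    (e : t * g * (t * g) = 1) : ∃ v ∈ U h H, t * g = v * t * v⁻¹ := by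
  obtain ⟨x, hx, y, hy, rfl⟩ := hg
  -- `z = y x`
  have e1 : y * x * (t * (x * y) * t) = 1 := by
    have e2 : t * (x * (t * y * t)) * (t * (x * (t * y * t))) =
        t * (x * (t * y * t)) * t * (x * (t * y * t)) := by group
    rw [e2, ← txt_mul h, txt_txt h] at e
    calc y * x * (t * (x * y) * t) = y * x * (t * x * t * (t * y * t)) := by rw [txt_mul h]
      _ = y * (x * (t * x * t)) * (t * y * t) := by group
      _ = y * (t * x * t * x) * (t * y * t) := by rw [H.comm x hx x hx]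
      _ = (y * (t * x * t)) * (x * (t * y * t)) := by group
      _ = t * x * t * y * (x * (t * y * t)) := by rw [H.comm y hy x hx]
      _ = 1 := e
  have hz : y * x ∈ K₁ := mul_mem hy hx
  have e3 : t * (x * y) * t = (y * x)⁻¹ := eq_inv_of_mul_eq_one_right e1
  -- `x y ∈ K₁`, `(x y)^t ∈ K₁`
  have hw : x * y ∈ K₁ := mul_mem hx hy
  have hw' : t * (x * y) * t ∈ K₁ := by rw [e3]; exact inv_mem hz
  have h4 := central h H hw hw' (K_le h H hx)
  have h5 : x * y = y * x := by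
    have : x * (x * y) = x * (y * x) := by rw [← h4]; group
    exact mul_left_cancel this
  obtain ⟨v, hv, hvt, hvv⟩ := exists_sqrt h H hn hA hz (by rw [← h5, e3, h5])
  -- `v` is central too
  have hv' : t * v * t ∈ K₁ := by rw [hvt]; exact inv_mem hv
  have hvx := central h H hv hv' (K_le h H hx)
  refine ⟨x⁻¹ * v, mul_mem (inv_mem (K_le h H hx)) (K_le h H hv), ?_⟩
  have hy' : y = v * v * x⁻¹ := by rw [hvv]; group
  have e6 : v * t = t * v⁻¹ := by
    rw [← hvt, ← mul_assoc, ← mul_assoc, h.tt, one_mul]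
  have hvx' : v * x⁻¹ = x⁻¹ * v := by
    calc v * x⁻¹ = x⁻¹ * (x * v) * x⁻¹ := by group
      _ = x⁻¹ * (v * x) * x⁻¹ := by rw [hvx]
      _ = x⁻¹ * v := by group
  have e7 : t * y * t = v⁻¹ * v⁻¹ * (t * x⁻¹ * t) := by
    rw [hy', ← txt_mul h, ← txt_mul h, hvt]
  have e8 : x * (t * x⁻¹ * t) = t * x⁻¹ * t * x := H.comm x hx _ (inv_mem hx)
  have e9 : t * v⁻¹ = v * t := e6.symm
  have hvx'' : v⁻¹ * x = x * v⁻¹ := by
    calc v⁻¹ * x = v⁻¹ * (x * v) * v⁻¹ := by group
      _ = v⁻¹ * (v * x) * v⁻¹ := by rw [hvx]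
      _ = x * v⁻¹ := by group
  calc t * (x * (t * y * t)) = t * (x * (v⁻¹ * v⁻¹ * (t * x⁻¹ * t))) := by rw [e7]
    _ = t * ((x * v⁻¹) * v⁻¹ * (t * x⁻¹ * t)) := by group
    _ = t * (v⁻¹ * x * v⁻¹ * (t * x⁻¹ * t)) := by rw [hvx'']
    _ = t * (v⁻¹ * (x * v⁻¹) * (t * x⁻¹ * t)) := by group
    _ = t * (v⁻¹ * (v⁻¹ * x) * (t * x⁻¹ * t)) := by rw [hvx'']
    _ = (t * v⁻¹) * v⁻¹ * (x * (t * x⁻¹ * t)) := by group
    _ = v * t * v⁻¹ * (t * x⁻¹ * t * x) := by rw [e9, e8]
    _ = v * (t * v⁻¹) * (t * x⁻¹ * t * x) := by group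
    _ = v * (v * t) * (t * x⁻¹ * t * x) := by rw [e9]
    _ = v * v * (t * t) * x⁻¹ * t * x := by group
    _ = v * (v * x⁻¹) * t * x := by rw [h.tt]; group
    _ = v * (x⁻¹ * v) * t * x := by rw [hvx']
    _ = (v * x⁻¹) * v * t * x := by group
    _ = (x⁻¹ * v) * v * t * x := by rw [hvx']
    _ = x⁻¹ * v * (v * t) * x := by group
    _ = x⁻¹ * v * (t * v⁻¹) * x := by rw [e6]
    _ = x⁻¹ * v * t * (v⁻¹ * x) := by group
    _ = x⁻¹ * v * t * (x⁻¹ * v)⁻¹ := by rw [mul_inv_rev, inv_inv]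

/-! ### Lifting involutions of `A_n` to `K₁` -/

omit h H in
/-- elements of `K₁` with `x x^t = 1` -/
theorem inverted {z : G} (e : z * (t * z * t) = 1) : t * z * t = z⁻¹ := eq_inv_of_mul_eq_one_right e

theorem pr_inv {x : G} (hx : x ∈ K₁) : x⁻¹ * (t * x⁻¹ * t) = (x * (t * x * t))⁻¹ := by
  rw [mul_inv_rev, txt_inv h, H.comm x⁻¹ (inv_mem hx) x⁻¹ (inv_mem hx)]

theorem pr_conj {x : G} (hx : x ∈ K₁) {a : A} (ha : x * (t * x * t) = ι a) (σ : A) {y : G} (hy : y ∈ K₁) :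
    x * (ι σ * y * (ι σ)⁻¹) * x⁻¹ * (t * (x * (ι σ * y * (ι σ)⁻¹) * x⁻¹) * t) =
      ι (a * σ) * (y * (t * y * t)) * (ι (a * σ))⁻¹ := by
  have hy' := H.norm σ y hy
  rw [pr_mul h H (mul_mem hx hy') (inv_mem hx), pr_mul h H hx hy', pr_inv h H hx, ha]
  have e1 : (ι σ)⁻¹ * t = t * (ι σ)⁻¹ := by
    rw [inv_mul_eq_iff_eq_mul, ← mul_assoc, ← h.comm σ, mul_assoc, mul_inv_cancel, mul_one]
  have e2 : ι σ * y * (ι σ)⁻¹ * (t * (ι σ * y * (ι σ)⁻¹) * t) = ι σ * (y * (t * y * t)) * (ι σ)⁻¹ := by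
    calc ι σ * y * (ι σ)⁻¹ * (t * (ι σ * y * (ι σ)⁻¹) * t) =
        ι σ * y * (ι σ)⁻¹ * (t * ι σ * y * ((ι σ)⁻¹ * t)) := by group
      _ = ι σ * y * (ι σ)⁻¹ * (ι σ * t * y * (t * (ι σ)⁻¹)) := by rw [h.comm, e1]
      _ = ι σ * (y * (t * y * t)) * (ι σ)⁻¹ := by group
  rw [e2, map_mul]
  group

theorem exists_lift [Finite G] (hn : 4 ≤ n) (hA : An n ≤ A) {f : A} (hf : (f : Perm (Fin n)) ∈ An n)
    (e : f * f = 1) : ∃ x ∈ K₁, x * x = 1 ∧ x * (t * x * t) = ι f := by
  obtain ⟨x, hx, ex⟩ := H.onto f hf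
  have e1 : x * x * (t * (x * x) * t) = 1 := by
    rw [pr_mul h H hx hx, ex, ← map_mul, e, map_one]
  obtain ⟨v, hv, hvt, hvv⟩ := exists_sqrt h H hn hA (mul_mem hx hx) (inverted e1)
  have hv' : t * v * t ∈ K₁ := by rw [hvt]; exact inv_mem hv
  have hvx := central h H hv hv' (K_le h H hx)
  refine ⟨x * v⁻¹, mul_mem hx (inv_mem hv), ?_, ?_⟩
  · have hvx'' : v⁻¹ * x = x * v⁻¹ := by
      calc v⁻¹ * x = v⁻¹ * (x * v) * v⁻¹ := by group
        _ = v⁻¹ * (v * x) * v⁻¹ := by rw [hvx]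
        _ = x * v⁻¹ := by group
    calc x * v⁻¹ * (x * v⁻¹) = x * (v⁻¹ * x) * v⁻¹ := by group
      _ = x * x * (v * v)⁻¹ := by rw [hvx'']; group
      _ = 1 := by rw [hvv, mul_inv_cancel]
  · rw [pr_mul h H hx (inv_mem hv), ex, pr_inv h H hv, hvt, mul_inv_cancel, inv_one, mul_one]

theorem lift_unique (hn : 4 ≤ n) (hA : An n ≤ A) {x y : G} (hx : x ∈ K₁) (hy : y ∈ K₁) (ex : x * x = 1)
    (ey : y * y = 1) (e : x * (t * x * t) = y * (t * y * t)) : x = y := by
  have h1 : x * y * (t * (x * y) * t) = 1 := by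
    rw [pr_mul h H hx hy, e, ← pr_mul h H hy hy, ey, mul_one, one_mul, h.tt]
  have h2 := inverted h1
  have hz : x * y ∈ K₁ := mul_mem hx hy
  have hz' : t * (x * y) * t ∈ K₁ := by rw [h2]; exact inv_mem hz
  have h3 := central h H hz hz' (K_le h H hy)
  -- `x = z y`, `1 = x x = z y z y = z z`
  have h4 : x * y * (x * y) = 1 := by
    have e1 : x * y * y = x := by rw [mul_assoc, ey, mul_one]
    calc x * y * (x * y) = x * y * (x * y) * (y * y) := by rw [ey, mul_one]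
      _ = x * y * (x * y * y) * y := by group
      _ = x * y * (y * (x * y)) * y := by rw [h3]
      _ = (x * y * y) * (x * y * y) := by group
      _ = 1 := by rw [e1, ex]
  have h5 := eq_one_of_sq h H hn hA hz hz' h4
  calc x = x * (y * y) := by rw [ey, mul_one]
    _ = x * y * y := by group
    _ = y := by rw [h5, one_mul]

theorem lift_mul (hn : 4 ≤ n) (hA : An n ≤ A) {f g : A} {x y : G} (hx : x ∈ K₁) (hy : y ∈ K₁) (ex : x * x = 1)
    (ey : y * y = 1) (hf : x * (t * x * t) = ι f) (hg : y * (t * y * t) = ι g) (hfg : (f * g) * (f * g) = 1) :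
    x * y * (x * y) = 1 := by
  have hxy := mul_mem hx hy
  have h1 : x * y * (x * y) * (t * (x * y * (x * y)) * t) = 1 := by
    rw [pr_mul h H hxy hxy, pr_mul h H hx hy, hf, hg, ← map_mul, ← map_mul, hfg, map_one]
  have h2 := inverted h1
  have hz : x * y * (x * y) ∈ K₁ := mul_mem hxy hxy
  have hz' : t * (x * y * (x * y)) * t ∈ K₁ := by rw [h2]; exact inv_mem hz
  have h3 := central h H hz hz' (K_le h H hx)
  apply eq_one_of_sq h H hn hA hz hz'
  calc x * y * (x * y) * (x * y * (x * y)) = (x * y * (x * y) * x) * (y * x * y) := by group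
    _ = x * (x * y * (x * y)) * (y * x * y) := by rw [h3]
    _ = (x * x) * (y * x) * (y * y) * x * y := by group
    _ = y * x * x * y := by rw [ex, ey, one_mul, mul_one]
    _ = y * (x * x) * y := by group
    _ = 1 := by rw [ex, mul_one, ey]

/-- the lift of an elementary abelian subgroup -/
theorem exists_hom [Finite G] (hn : 4 ≤ n) (hA : An n ≤ A) (F : Subgroup (Perm (Fin n)))
    (h2 : ∀ f ∈ F, f * f = 1) (hF : ∀ f ∈ F, f ∈ An n) :
    ∃ l : F →* G, ∀ f : F, l f ∈ K₁ ∧ l f * l f = 1 ∧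
      l f * (t * l f * t) = ι ⟨f, hA (hF f f.2)⟩ := by
  have hex : ∀ f : F, ∃ x ∈ K₁, x * x = 1 ∧ x * (t * x * t) = ι ⟨f, hA (hF f f.2)⟩ := fun f =>
    exists_lift h H hn hA (f := ⟨f, hA (hF f f.2)⟩) (hF f f.2) (Subtype.ext (h2 f f.2))
  choose l hl1 hl2 hl3 using hex
  have hmul : ∀ f g : F, l (f * g) = l f * l g := by
    intro f g
    have e0 : ι ⟨(f * g : F), hA (hF _ (f * g).2)⟩ = ι (⟨f, hA (hF f f.2)⟩ * ⟨g, hA (hF g g.2)⟩) := rfl
    apply lift_unique h H hn hA (hl1 _) (mul_mem (hl1 f) (hl1 g)) (hl2 _)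
    · exact lift_mul h H hn hA (hl1 f) (hl1 g) (hl2 f) (hl2 g) (hl3 f) (hl3 g)
        (Subtype.ext (h2 _ (f * g).2))
    · rw [hl3, pr_mul h H (hl1 f) (hl1 g), hl3, hl3, e0, map_mul]
  exact ⟨MonoidHom.mk' l hmul, fun f => ⟨hl1 f, hl2 f, hl3 f⟩⟩

omit H in
/-- the `A`-part of the elements of `C(t)` -/
theorem exists_part : ∃ Q : centralizer ({t} : Set G) →* A, ∀ c : centralizer ({t} : Set G),
    Q c = 1 → (c : G) = 1 ∨ (c : G) = t := by
  have hex : ∀ c : centralizer ({t} : Set G), ∃ a : A, (c : G) = ι a ∨ (c : G) = t * ι a := fun c =>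
    h.cases (mem_centralizer_singleton_iff.1 c.2)
  choose q hq using hex
  have huniq : ∀ {a b : A} {g : G}, (g = ι a ∨ g = t * ι a) → (g = ι b ∨ g = t * ι b) → a = b := by
    intro a b g h1 h2
    rcases h1 with h1 | h1 <;> rcases h2 with h2 | h2
    · exact h.inj (h1.symm.trans h2)
    · exact absurd (h1.symm.trans h2) (h.tne a b)
    · exact absurd (h2.symm.trans h1) (h.tne b a)
    · exact h.inj (mul_left_cancel (h1.symm.trans h2))
  refine ⟨MonoidHom.mk' q fun c d => ?_, fun c hc => ?_⟩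
  · apply huniq (hq (c * d))
    rcases hq c with h1 | h1 <;> rcases hq d with h2 | h2
    · left; rw [Subgroup.coe_mul, h1, h2, map_mul]
    · right
      rw [Subgroup.coe_mul, h1, h2, map_mul, ← mul_assoc, ← h.comm, mul_assoc]
    · right; rw [Subgroup.coe_mul, h1, h2, map_mul, mul_assoc]
    · left
      rw [Subgroup.coe_mul, h1, h2, map_mul]
      calc t * ι (q c) * (t * ι (q d)) = (t * ι (q c)) * t * ι (q d) := by group
        _ = (ι (q c) * t) * t * ι (q d) := by rw [h.comm]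
        _ = ι (q c) * (t * t) * ι (q d) := by group
        _ = ι (q c) * ι (q d) := by rw [h.tt, mul_one]
  · have hc' : q c = 1 := hc
    rcases hq c with h1 | h1
    · left; rw [h1, hc', map_one]
    · right; rw [h1, hc', map_one, mul_one]

/-- `t^G` does not meet `K₁ K₁^t ι(σ)`, `σ` odd. -/
theorem no_odd [Finite G] (hn : 6 ≤ n) (hA : An n ≤ A) {g : G} (hg : g ∈ U h H) {σ : A}
    (hσ : (σ : Perm (Fin n)) ∉ An n) (hc : IsConj t (g * ι σ)) : False := by
  have hn4 : 4 ≤ n := by omega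
  obtain ⟨k, hk⟩ := isConj_iff.1 hc
  obtain ⟨x, hx, y, hy, rfl⟩ := hg
  obtain ⟨a, ha, ea⟩ := H.map x hx
  obtain ⟨b, hb, eb⟩ := H.map y hy
  set w := x * (t * y * t) * ι σ with hw
  have hww : w * w = 1 := by
    rw [← hk]
    calc k * t * k⁻¹ * (k * t * k⁻¹) = k * (t * t) * k⁻¹ := by group
      _ = 1 := by rw [h.tt]; group
  have e1 : (ι σ)⁻¹ * t = t * (ι σ)⁻¹ := by
    rw [inv_mul_eq_iff_eq_mul, ← mul_assoc, ← h.comm σ, mul_assoc, mul_inv_cancel, mul_one]
  -- the action of `w` on `K₁` and on `K₁^t`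
  have act1 : ∀ z ∈ K₁, w * z * w⁻¹ = x * (ι σ * z * (ι σ)⁻¹) * x⁻¹ := by
    intro z hz
    have h1 := H.comm _ (H.norm σ z hz) y hy
    calc w * z * w⁻¹ = x * ((t * y * t) * (ι σ * z * (ι σ)⁻¹)) * (t * y * t)⁻¹ * x⁻¹ := by
          rw [hw]; group
      _ = x * (ι σ * z * (ι σ)⁻¹ * (t * y * t)) * (t * y * t)⁻¹ * x⁻¹ := by rw [h1]
      _ = x * (ι σ * z * (ι σ)⁻¹) * x⁻¹ := by group
  have act2 : ∀ z ∈ K₁, w * (t * z * t) * w⁻¹ = t * (y * (ι σ * z * (ι σ)⁻¹) * y⁻¹) * t := by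
    intro z hz
    have h1 := H.norm σ z hz
    have h2 : t * (y * (ι σ * z * (ι σ)⁻¹) * y⁻¹) * t ∈ U h H :=
      Kt_mem h H (mul_mem (mul_mem hy h1) (inv_mem hy))
    have h3 := H.comm x hx _ (mul_mem (mul_mem hy h1) (inv_mem hy))
    calc w * (t * z * t) * w⁻¹ = x * (t * y * (t * ι σ * t) * z * (t * (ι σ)⁻¹) * (t * y * t)⁻¹) * x⁻¹ := by
          rw [hw]; group
      _ = x * (t * y * (ι σ * (t * t)) * z * ((ι σ)⁻¹ * t) * (t * y⁻¹ * t)) * x⁻¹ := by
          rw [h.comm, ← e1, txt_inv h]; group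
      _ = x * (t * y * ι σ * (t * t) * z * (ι σ)⁻¹ * (t * t) * y⁻¹ * t) * x⁻¹ := by group
      _ = x * (t * (y * (ι σ * z * (ι σ)⁻¹) * y⁻¹) * t) * x⁻¹ := by rw [h.tt]; group
      _ = t * (y * (ι σ * z * (ι σ)⁻¹) * y⁻¹) * t := by rw [h3]; group
  -- both actions are involutions of `S_n`
  have sq : ∀ (x' : G) (_ : x' ∈ K₁) (a' : A) (_ : x' * (t * x' * t) = ι a')
      (_ : ∀ z ∈ K₁, x' * (ι σ * (x' * (ι σ * z * (ι σ)⁻¹) * x'⁻¹) * (ι σ)⁻¹) * x'⁻¹ = z),
      (a' * σ) * (a' * σ) = 1 := by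
    intro x' hx' a' ea' hz'
    apply Subtype.ext
    apply cent_alt hn4
    intro f hf
    obtain ⟨z, hz, ez⟩ := H.onto ⟨f, hA hf⟩ hf
    have hz1 := mul_mem (mul_mem hx' (H.norm σ z hz)) (inv_mem hx')
    have h1 := pr_conj h H hx' ea' σ hz1
    rw [hz' z hz, pr_conj h H hx' ea' σ hz, ez] at h1
    have h2 : ι ⟨f, hA hf⟩ = ι (a' * σ * (a' * σ) * ⟨f, hA hf⟩ * (a' * σ * (a' * σ))⁻¹) := by
      rw [h1]; simp only [map_mul, map_inv]; group
    have h3 := h.inj h2
    have h4 : (a' * σ * (a' * σ)) * ⟨f, hA hf⟩ = ⟨f, hA hf⟩ * (a' * σ * (a' * σ)) := by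
      exact (eq_mul_inv_iff_mul_eq.1 h3).symm
    exact congrArg Subtype.val h4
  have hα : (a * σ) * (a * σ) = 1 := by
    apply sq x hx a ea
    intro z hz
    have h1 := mul_mem (mul_mem hx (H.norm σ z hz)) (inv_mem hx)
    rw [← act1 _ h1, ← act1 z hz]
    calc w * (w * z * w⁻¹) * w⁻¹ = (w * w) * z * (w * w)⁻¹ := by group
      _ = z := by rw [hww]; group
  have hβ : (b * σ) * (b * σ) = 1 := by
    apply sq y hy b eb
    intro z hz
    have h1 := mul_mem (mul_mem hy (H.norm σ z hz)) (inv_mem hy)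
    have h2 : t * (y * (ι σ * (y * (ι σ * z * (ι σ)⁻¹) * y⁻¹) * (ι σ)⁻¹) * y⁻¹) * t = t * z * t := by
      rw [← act2 _ h1, ← act2 z hz]
      calc w * (w * (t * z * t) * w⁻¹) * w⁻¹ = (w * w) * (t * z * t) * (w * w)⁻¹ := by group
        _ = t * z * t := by rw [hww]; group
    exact mul_left_cancel (mul_right_cancel h2)
  -- elementary abelian subgroups
  obtain ⟨F₁, p1, p2, p3, p4⟩ := ElemEx.exists_elem_four hn _ (congrArg Subtype.val hα)
  obtain ⟨F₂, q1, q2, q3, q4⟩ := ElemEx.exists_elem_four hn _ (congrArg Subtype.val hβ)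
  obtain ⟨l, hl⟩ := exists_hom h H hn4 hA F₁ p1 p2
  obtain ⟨m, hm⟩ := exists_hom h H hn4 hA F₂ q1 q2
  have fixl : ∀ f, w * l f = l f * w := by
    intro f
    have h1 : w * l f * w⁻¹ = l f := by
      rw [act1 _ (hl f).1]
      apply lift_unique h H hn4 hA (mul_mem (mul_mem hx (H.norm σ _ (hl f).1)) (inv_mem hx)) (hl f).1 ?_ (hl f).2.1
      · rw [pr_conj h H hx ea σ (hl f).1, (hl f).2.2, ← map_mul, ← map_inv, ← map_mul]
        congr 1
        rw [mul_inv_eq_iff_eq_mul]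
        exact Subtype.ext (p3 f f.2).symm
      · rw [← act1 _ (hl f).1]
        calc w * l f * w⁻¹ * (w * l f * w⁻¹) = w * (l f * l f) * w⁻¹ := by group
          _ = 1 := by rw [(hl f).2.1]; group
    rwa [mul_inv_eq_iff_eq_mul] at h1
  have fixm : ∀ f, w * (t * m f * t) = t * m f * t * w := by
    intro f
    have h1 : w * (t * m f * t) * w⁻¹ = t * m f * t := by
      rw [act2 _ (hm f).1]
      congr 2
      apply lift_unique h H hn4 hA (mul_mem (mul_mem hy (H.norm σ _ (hm f).1)) (inv_mem hy)) (hm f).1 ?_ (hm f).2.1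
      · rw [pr_conj h H hy eb σ (hm f).1, (hm f).2.2, ← map_mul, ← map_inv, ← map_mul]
        congr 1
        rw [mul_inv_eq_iff_eq_mul]
        exact Subtype.ext (q3 f f.2).symm
      · have h2 : t * (y * (ι σ * m f * (ι σ)⁻¹) * y⁻¹ * (y * (ι σ * m f * (ι σ)⁻¹) * y⁻¹)) * t = 1 := by
          rw [← txt_mul h, ← act2 _ (hm f).1]
          calc w * (t * m f * t) * w⁻¹ * (w * (t * m f * t) * w⁻¹) = w * (t * m f * t * (t * m f * t)) * w⁻¹ := by
                group
            _ = 1 := by rw [txt_mul h, (hm f).2.1, mul_one, h.tt]; group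
        have h3 : t * (y * (ι σ * m f * (ι σ)⁻¹) * y⁻¹ * (y * (ι σ * m f * (ι σ)⁻¹) * y⁻¹)) * t = t * 1 * t := by
          rw [h2, mul_one, h.tt]
        exact mul_left_cancel (mul_right_cancel h3)
    rwa [mul_inv_eq_iff_eq_mul] at h1
  have hlm : ∀ (f : F₁) (f' : F₂), l f * (t * m f' * t) = t * m f' * t * l f := fun f f' =>
    H.comm _ (hl f).1 _ (hm f').1
  -- transport to `C(t)`
  have hcen : ∀ p : F₁ × F₂, k⁻¹ * (l p.1 * (t * m p.2 * t)) * k ∈ centralizer ({t} : Set G) := by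
    intro p
    rw [mem_centralizer_singleton_iff]
    have h1 : l p.1 * (t * m p.2 * t) * w = w * (l p.1 * (t * m p.2 * t)) := by
      calc l p.1 * (t * m p.2 * t) * w = l p.1 * (w * (t * m p.2 * t)) := by rw [fixm]; group
        _ = (w * l p.1) * (t * m p.2 * t) := by rw [fixl]; group
        _ = w * (l p.1 * (t * m p.2 * t)) := by group
    have h2 : t = k⁻¹ * w * k := by rw [← hk]; group
    calc k⁻¹ * (l p.1 * (t * m p.2 * t)) * k * t = k⁻¹ * (l p.1 * (t * m p.2 * t)) * k * (k⁻¹ * w * k) := by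
          rw [← h2]
      _ = k⁻¹ * (l p.1 * (t * m p.2 * t) * w) * k := by group
      _ = k⁻¹ * (w * (l p.1 * (t * m p.2 * t))) * k := by rw [h1]
      _ = (k⁻¹ * w * k) * (k⁻¹ * (l p.1 * (t * m p.2 * t)) * k) := by group
      _ = t * (k⁻¹ * (l p.1 * (t * m p.2 * t)) * k) := by rw [← h2]
  have hmul : ∀ p q : F₁ × F₂, (⟨_, hcen (p * q)⟩ : centralizer ({t} : Set G)) = ⟨_, hcen p⟩ * ⟨_, hcen q⟩ := by
    intro p q
    apply Subtype.ext
    show k⁻¹ * (l (p * q).1 * (t * m (p * q).2 * t)) * k =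
      k⁻¹ * (l p.1 * (t * m p.2 * t)) * k * (k⁻¹ * (l q.1 * (t * m q.2 * t)) * k)
    rw [Prod.fst_mul, Prod.snd_mul, map_mul, map_mul, ← txt_mul h]
    calc k⁻¹ * (l p.1 * l q.1 * (t * m p.2 * t * (t * m q.2 * t))) * k =
        k⁻¹ * (l p.1 * (l q.1 * (t * m p.2 * t)) * (t * m q.2 * t)) * k := by group
      _ = k⁻¹ * (l p.1 * (t * m p.2 * t * l q.1) * (t * m q.2 * t)) * k := by rw [hlm]
      _ = k⁻¹ * (l p.1 * (t * m p.2 * t)) * k * (k⁻¹ * (l q.1 * (t * m q.2 * t)) * k) := by group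
  obtain ⟨Q, hQ⟩ := exists_part h
  let Θ : F₁ × F₂ →* Perm (Fin n) := A.subtype.comp (Q.comp (MonoidHom.mk' (fun p => ⟨_, hcen p⟩) hmul))
  have hinj : Function.Injective Θ := by
    rw [injective_iff_map_eq_one]
    intro p hp
    have h1 : Q ⟨_, hcen p⟩ = 1 := Subtype.ext hp
    have h2 : l p.1 * (t * m p.2 * t) = 1 := by
      rcases hQ _ h1 with h2 | h2
      · have h3 : k⁻¹ * (l p.1 * (t * m p.2 * t)) * k = 1 := h2
        calc l p.1 * (t * m p.2 * t) = k * (k⁻¹ * (l p.1 * (t * m p.2 * t)) * k) * k⁻¹ := by group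
          _ = 1 := by rw [h3]; group
      · exfalso
        have h3 : k⁻¹ * (l p.1 * (t * m p.2 * t)) * k = t := h2
        have h4 : l p.1 * (t * m p.2 * t) = w := by
          calc l p.1 * (t * m p.2 * t) = k * (k⁻¹ * (l p.1 * (t * m p.2 * t)) * k) * k⁻¹ := by group
            _ = w := by rw [h3, hk]
        have h5 : w ∈ U h H := by
          rw [← h4]; exact ⟨_, (hl p.1).1, _, (hm p.2).1, rfl⟩
        have h6 : ι σ ∈ U h H := by
          have h7 : ι σ = (x * (t * y * t))⁻¹ * w := by rw [hw]; group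
          rw [h7]
          exact mul_mem (inv_mem ⟨x, hx, y, hy, rfl⟩) h5
        obtain ⟨c, hc1, hc2⟩ := mem_of_comm h H hn4 hA h6 (h.comm' σ)
        apply hσ
        rw [h.inj hc2]; exact hc1
    have h3 : l p.1 = t * m p.2 * t := by
      have h4 := eq_inv_of_mul_eq_one_left h2
      rw [h4, txt_inv h]
      congr 2
      exact inv_eq_of_mul_eq_one_left (hm p.2).2.1
    have h4 : l p.1 = 1 := by
      apply eq_one_of_sq h H hn4 hA (hl p.1).1 _ (hl p.1).2.1
      rw [h3, txt_txt h]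
      exact (hm p.2).1
    have h5 : m p.2 = 1 := by
      have h6 : t * m p.2 * t = t * 1 * t := by rw [← h3, h4, mul_one, h.tt]
      exact mul_left_cancel (mul_right_cancel h6)
    have h6 : p.1 = 1 := by
      have h7 := (hl p.1).2.2
      rw [h4, one_mul, mul_one, h.tt] at h7
      have h9 : ((p.1 : F₁) : Perm (Fin n)) = 1 := congrArg (fun u : A => (u : Perm (Fin n))) (h.iota_eq_one h7.symm)
      exact Subtype.ext h9
    have h7 : p.2 = 1 := by
      have h8 := (hm p.2).2.2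
      rw [h5, one_mul, mul_one, h.tt] at h8
      have h9 : ((p.2 : F₂) : Perm (Fin n)) = 1 := congrArg (fun u : A => (u : Perm (Fin n))) (h.iota_eq_one h8.symm)
      exact Subtype.ext h9
    exact Prod.ext h6 h7
  have hR : ∀ f ∈ Θ.range, f * f = 1 := by
    rintro _ ⟨p, rfl⟩
    rw [← map_mul]
    have : p * p = 1 := Prod.ext (Subtype.ext (p1 _ p.1.2)) (Subtype.ext (q1 _ p.2.2))
    rw [this, map_one]
  have h1 := Elem.sq_card_le hR
  have h2 : Nat.card Θ.range = Nat.card F₁ * Nat.card F₂ := by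
    rw [← Nat.card_prod]
    exact (Nat.card_congr (MonoidHom.ofInjective hinj).toEquiv).symm
  have h3 : (Elem.mv Θ.range).ncard ≤ n := by
    calc (Elem.mv Θ.range).ncard ≤ Nat.card (Fin n) := Set.ncard_le_card _
      _ = n := Nat.card_fin n
  rw [h2] at h1
  have h4 : (Nat.card F₁ * Nat.card F₂) ^ 2 ≤ 2 ^ n := h1.trans (Nat.pow_le_pow_right (by norm_num) h3)
  have h5 : (2 ^ n) * (2 ^ n) < (Nat.card F₁) ^ 4 * (Nat.card F₂) ^ 4 :=
    Nat.mul_lt_mul_of_lt_of_lt p4 q4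
  have h6 : (Nat.card F₁) ^ 4 * (Nat.card F₂) ^ 4 = ((Nat.card F₁ * Nat.card F₂) ^ 2) * ((Nat.card F₁ * Nat.card F₂) ^ 2) := by
    ring
  rw [h6] at h5
  exact absurd (Nat.mul_le_mul h4 h4) (not_le.2 h5)

/-! ### The transfer -/

/-- `U S` for a subgroup `S` of `C(t)` -/
def US (h : Spl t A ι) (H : Two t ι K₁) (S : Subgroup G) (hS : ∀ c ∈ S, c * t = t * c) : Subgroup G where
  carrier := {g | ∃ u ∈ U h H, ∃ c ∈ S, g = u * c}
  one_mem' := ⟨1, one_mem _, 1, one_mem _, (one_mul 1).symm⟩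
  mul_mem' := by
    rintro _ _ ⟨u, hu, c, hc, rfl⟩ ⟨v, hv, d, hd, rfl⟩
    exact ⟨u * (c * v * c⁻¹), mul_mem hu (cent_conj h H (hS c hc) hv), c * d, mul_mem hc hd, by group⟩
  inv_mem' := by
    rintro _ ⟨u, hu, c, hc, rfl⟩
    refine ⟨c⁻¹ * u⁻¹ * c, ?_, c⁻¹, inv_mem hc, by group⟩
    have := cent_conj h H (hS c⁻¹ (inv_mem hc)) (inv_mem hu)
    rwa [inv_inv] at this

omit [Group G] h H in
theorem sign_of_not_mem {σ : Perm (Fin n)} (hσ : σ ∉ An n) : Perm.sign σ = -1 := by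
  rcases Int.units_eq_one_or (Perm.sign σ) with h1 | h1
  · exact absurd (Perm.mem_alternatingGroup.2 h1) hσ
  · exact h1

omit H in
/-- the twisted complement `t ^ (sign σ) ι(σ)` -/
theorem exists_tw : ∃ S : Subgroup G, (∀ c ∈ S, c * t = t * c) ∧
    (∀ c ∈ S, ∃ σ : A, ((σ : Perm (Fin n)) ∈ An n ∧ c = ι σ) ∨ ((σ : Perm (Fin n)) ∉ An n ∧ c = t * ι σ)) ∧
    ∀ σ : A, ((σ : Perm (Fin n)) ∈ An n → ι σ ∈ S) ∧ ((σ : Perm (Fin n)) ∉ An n → t * ι σ ∈ S) := by
  have key : ∀ σ τ : A, (σ : Perm (Fin n)) ∉ An n → (τ : Perm (Fin n)) ∉ An n →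
      ((σ * τ : A) : Perm (Fin n)) ∈ An n := by
    intro σ τ hσ hτ
    show (σ : Perm (Fin n)) * τ ∈ alternatingGroup (Fin n)
    rw [Perm.mem_alternatingGroup, Perm.sign_mul, sign_of_not_mem hσ, sign_of_not_mem hτ]
    decide
  refine ⟨{ carrier := {c | ∃ σ : A, ((σ : Perm (Fin n)) ∈ An n ∧ c = ι σ) ∨
              ((σ : Perm (Fin n)) ∉ An n ∧ c = t * ι σ)}
            one_mem' := ⟨1, Or.inl ⟨one_mem _, (map_one ι).symm⟩⟩
            mul_mem' := ?_
            inv_mem' := ?_ }, ?_, fun c hc => hc, fun σ => ⟨fun hσ => ⟨σ, Or.inl ⟨hσ, rfl⟩⟩,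
              fun hσ => ⟨σ, Or.inr ⟨hσ, rfl⟩⟩⟩⟩
  · rintro _ _ ⟨σ, ⟨hσ, rfl⟩ | ⟨hσ, rfl⟩⟩ ⟨τ, ⟨hτ, rfl⟩ | ⟨hτ, rfl⟩⟩
    · exact ⟨σ * τ, Or.inl ⟨mul_mem hσ hτ, (map_mul ι σ τ).symm⟩⟩
    · refine ⟨σ * τ, Or.inr ⟨fun h1 => hτ ?_, ?_⟩⟩
      · have := (An n).mul_mem ((An n).inv_mem hσ) h1
        rwa [Subgroup.coe_mul, inv_mul_cancel_left] at this
      · rw [map_mul, ← mul_assoc, ← mul_assoc, h.comm]
    · refine ⟨σ * τ, Or.inr ⟨fun h1 => hσ ?_, by rw [map_mul, mul_assoc]⟩⟩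
      have := (An n).mul_mem h1 ((An n).inv_mem hτ)
      rwa [Subgroup.coe_mul, mul_inv_cancel_right] at this
    · refine ⟨σ * τ, Or.inl ⟨key σ τ hσ hτ, ?_⟩⟩
      calc t * ι σ * (t * ι τ) = (t * ι σ) * t * ι τ := by group
        _ = ι σ * t * t * ι τ := by rw [h.comm]
        _ = ι σ * (t * t) * ι τ := by group
        _ = ι (σ * τ) := by rw [h.tt, mul_one, map_mul]
  · rintro _ ⟨σ, ⟨hσ, rfl⟩ | ⟨hσ, rfl⟩⟩
    · exact ⟨σ⁻¹, Or.inl ⟨inv_mem hσ, (map_inv ι σ).symm⟩⟩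
    · refine ⟨σ⁻¹, Or.inr ⟨fun h1 => hσ ?_, ?_⟩⟩
      · have := (An n).inv_mem h1
        rwa [Subgroup.coe_inv, inv_inv] at this
      · rw [mul_inv_rev, tinv h, map_inv, ← map_inv, h.comm]
  · rintro _ ⟨σ, ⟨hσ, rfl⟩ | ⟨hσ, rfl⟩⟩
    · exact h.comm' σ
    · rw [mul_assoc, h.comm' σ]

/-- **The end**: `t` is not in the commutator subgroup. -/
theorem exists_sgn [Finite G] (hn : 6 ≤ n) (hA : An n ≤ A) : ∃ m : G →* ℤˣ, m t = -1 := by
  have hn4 : 4 ≤ n := by omega
  obtain ⟨S, hS1, hS2, hS3⟩ := exists_tw h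
  set V := US h H (centralizer ({t} : Set G)) (fun c hc => mem_centralizer_singleton_iff.1 hc) with hV
  set V₀ := US h H S hS1 with hV₀
  have hUV : U h H ≤ V := fun u hu => ⟨u, hu, 1, one_mem _, (mul_one u).symm⟩
  have hcV : ∀ c, c * t = t * c → c ∈ V := fun c hc =>
    ⟨1, one_mem _, c, mem_centralizer_singleton_iff.2 hc, (one_mul c).symm⟩
  have hle : V₀ ≤ V := by
    rintro _ ⟨u, hu, c, hc, rfl⟩
    exact ⟨u, hu, c, mem_centralizer_singleton_iff.2 (hS1 c hc), rfl⟩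
  have htV₀ : t ∉ V₀ := by
    rintro ⟨u, hu, c, hc, e⟩
    have hct := hS1 c hc
    have hut : u * t = t * u := by
      have h1 : u = t * c⁻¹ := by rw [e]; group
      rw [h1, mul_assoc]
      congr 1
      rw [inv_mul_eq_iff_eq_mul, ← mul_assoc, hct, mul_assoc, mul_inv_cancel, mul_one]
    obtain ⟨a, ha, ea⟩ := mem_of_comm h H hn4 hA hu hut
    obtain ⟨σ, ⟨hσ, rfl⟩ | ⟨hσ, rfl⟩⟩ := hS2 c hc
    · apply h.ne (a * σ)
      rw [map_mul, ← ea, ← e]
    · have h1 : ι (a * σ) = 1 := by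
        have h2 : t * ι (a * σ) = t * 1 := by
          rw [map_mul, ← mul_assoc, h.comm a, ← ea, mul_assoc, ← e, mul_one]
        exact mul_left_cancel h2
      have h3 := congrArg Subtype.val (h.iota_eq_one h1)
      apply hσ
      have h4 : (σ : Perm (Fin n)) = (a : Perm (Fin n))⁻¹ := by
        rw [Subgroup.coe_mul] at h3
        exact (eq_inv_of_mul_eq_one_right h3)
      rw [h4]
      exact inv_mem ha
  have h2 : V₀.relIndex V = 2 := by
    rw [relIndex_eq_two_iff_exists_notMem_and]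
    refine ⟨t, hcV t rfl, htV₀, ?_⟩
    rintro _ ⟨u, hu, c, hc, rfl⟩
    rcases h.cent c (mem_centralizer_singleton_iff.1 hc) with ⟨σ, rfl⟩ | ⟨σ, rfl⟩
    · by_cases hσ : (σ : Perm (Fin n)) ∈ An n
      · exact Or.inr ⟨u, hu, ι σ, (hS3 σ).1 hσ, rfl⟩
      · left
        refine ⟨u, hu, t * ι σ, (hS3 σ).2 hσ, ?_⟩
        rw [mul_assoc, h.comm]
    · by_cases hσ : (σ : Perm (Fin n)) ∈ An n
      · left
        refine ⟨u, hu, ι σ, (hS3 σ).1 hσ, ?_⟩
        calc u * (t * ι σ) * t = u * (t * (ι σ * t)) := by group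
          _ = u * (t * (t * ι σ)) := by rw [h.comm' σ]
          _ = u * ι σ := by rw [ttx h]
      · exact Or.inr ⟨u, hu, t * ι σ, (hS3 σ).2 hσ, rfl⟩
  -- the conjugates of `t` in `V ∖ V₀`
  have key : ∀ g, g ∈ V → g ∉ V₀ → IsConj t g → ∃ v ∈ V, g = v * t * v⁻¹ := by
    rintro _ ⟨u, hu, c, hc, rfl⟩ hg0 hconj
    rcases h.cent c (mem_centralizer_singleton_iff.1 hc) with ⟨σ, rfl⟩ | ⟨σ, rfl⟩
    · by_cases hσ : (σ : Perm (Fin n)) ∈ An n
      · exact absurd ⟨u, hu, ι σ, (hS3 σ).1 hσ, rfl⟩ hg0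
      · exact (no_odd h H hn hA hu hσ hconj).elim
    · by_cases hσ : (σ : Perm (Fin n)) ∈ An n
      · -- in `tU`
        have h1 : u * (t * ι σ) = t * (t * u * t * ι σ) := by
          calc u * (t * ι σ) = (t * t) * u * t * ι σ := by rw [h.tt]; group
            _ = t * (t * u * t * ι σ) := by group
        have h3 : t * u * t * ι σ ∈ U h H := mul_mem (t_conj h H hu) (iota_mem h H hσ)
        obtain ⟨k, hk⟩ := isConj_iff.1 hconj
        have h4 : u * (t * ι σ) * (u * (t * ι σ)) = 1 := by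
          rw [← hk]
          calc k * t * k⁻¹ * (k * t * k⁻¹) = k * (t * t) * k⁻¹ := by group
            _ = 1 := by rw [h.tt]; group
        rw [h1] at h4 ⊢
        obtain ⟨v, hv, ev⟩ := conj_of_sq h H hn4 hA h3 h4
        exact ⟨v, hUV hv, ev⟩
      · exact absurd ⟨u, hu, t * ι σ, (hS3 σ).2 hσ, rfl⟩ hg0
  -- transfer
  refine StdSpSix.TR.exists_hom_of_class (LargeExtra.TransferPow.sgn h2) h.tt (hcV t rfl) ?_ ?_ ?_
  · refine (Int.units_eq_one_or _).resolve_left fun h3 => htV₀ ?_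
    exact (LargeExtra.TransferPow.sgn_eq_one_iff h2 _).1 h3
  · intro g hg h3
    apply key _ hg
    · intro h4
      have h5 := (LargeExtra.TransferPow.sgn_eq_one_iff h2 ⟨g⁻¹ * t * g, hg⟩).2 h4
      rw [h5] at h3
      exact absurd h3 (by decide)
    · exact isConj_iff.2 ⟨g⁻¹, by group⟩
  · rw [relIndex_eq_one.2 (fun c hc => hcV c (mem_centralizer_singleton_iff.1 hc))]
    exact odd_one

/-- **The end**: `G` has a subgroup of index two. -/
theorem false [Finite G] (hn : 6 ≤ n) (hA : An n ≤ A) (hG : ∀ H : Subgroup G, H.index ≠ 2) : False := by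
  obtain ⟨m, hm⟩ := exists_sgn h H hn hA
  apply hG m.ker
  have h2 : m.range = ⊤ := by
    rw [eq_top_iff]
    rintro x -
    rcases Int.units_eq_one_or x with rfl | rfl
    · exact m.range.one_mem
    · exact ⟨t, hm⟩
  rw [Subgroup.index_ker, h2, Nat.card_congr Subgroup.topEquiv.toEquiv, Nat.card_eq_fintype_card,
    Fintype.card_units_int]

omit h H in
/-- From a generating set: `R` is stable under `ι(A)`, commutes with `R^t`, `r r^t ∈ ι(A_n)`, and all 3-cycles are of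
this form. -/
theorem mk_of (h : Spl t A ι) (hA : An n ≤ A) (R : Set G)
    (comm : ∀ r ∈ R, ∀ s ∈ R, r * (t * s * t) = t * s * t * r)
    (map : ∀ r ∈ R, ∃ a : A, (a : Perm (Fin n)) ∈ An n ∧ r * (t * r * t) = ι a)
    (three : ∀ a : A, (a : Perm (Fin n)).IsThreeCycle → ∃ r ∈ closure R, r * (t * r * t) = ι a)
    (norm : ∀ σ : A, ∀ r ∈ R, ι σ * r * (ι σ)⁻¹ ∈ closure R) : Two t ι (closure R) := by
  have comm' : ∀ x ∈ closure R, ∀ y ∈ closure R, x * (t * y * t) = t * y * t * x := by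
    intro x hx y hy
    induction hx using closure_induction with
    | mem r hr =>
      induction hy using closure_induction with
      | mem s hs => exact comm r hr s hs
      | one => rw [mul_one, h.tt, mul_one, one_mul]
      | mul y y' _ _ e e' =>
        rw [← txt_mul h]
        calc r * (t * y * t * (t * y' * t)) = r * (t * y * t) * (t * y' * t) := by group
          _ = t * y * t * (r * (t * y' * t)) := by rw [e]; group
          _ = t * y * t * (t * y' * t) * r := by rw [e']; group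
      | inv y _ e =>
        rw [← txt_inv h]
        exact (Commute.inv_right (show Commute r (t * y * t) from e)).eq
    | one => rw [one_mul, mul_one]
    | mul x x' _ _ e e' =>
      calc x * x' * (t * y * t) = x * (x' * (t * y * t)) := by group
        _ = x * (t * y * t) * x' := by rw [e']; group
        _ = t * y * t * (x * x') := by rw [e]; group
    | inv x _ e => exact (Commute.inv_left (show Commute x (t * y * t) from e)).eq
  have hmul : ∀ x ∈ closure R, ∀ y ∈ closure R, x * y * (t * (x * y) * t) = x * (t * x * t) * (y * (t * y * t)) := by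
    intro x hx y hy
    calc x * y * (t * (x * y) * t) = x * y * (t * x * t * (t * y * t)) := by rw [txt_mul h]
      _ = x * (y * (t * x * t)) * (t * y * t) := by group
      _ = x * (t * x * t * y) * (t * y * t) := by rw [comm' y hy x hx]
      _ = x * (t * x * t) * (y * (t * y * t)) := by group
  have hinv : ∀ x ∈ closure R, x⁻¹ * (t * x⁻¹ * t) = (x * (t * x * t))⁻¹ := by
    intro x hx
    rw [comm' x hx x hx, mul_inv_rev, txt_inv h]
  have hone : (1 : G) * (t * 1 * t) = 1 := by rw [mul_one, h.tt, mul_one]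
  refine ⟨comm', ?_, ?_, ?_⟩
  · intro x hx
    induction hx using closure_induction with
    | mem r hr => exact map r hr
    | one => exact ⟨1, one_mem _, by rw [map_one, hone]⟩
    | mul x y hx hy e e' =>
      obtain ⟨a, ha, ea⟩ := e
      obtain ⟨b, hb, eb⟩ := e'
      exact ⟨a * b, mul_mem ha hb, by rw [hmul x hx y hy, ea, eb, map_mul]⟩
    | inv x hx e =>
      obtain ⟨a, ha, ea⟩ := e
      exact ⟨a⁻¹, inv_mem ha, by rw [hinv x hx, ea, map_inv]⟩
  · intro a ha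
    let W : Subgroup (Perm (Fin n)) :=
      { carrier := {p | ∃ hp : p ∈ A, ∃ x ∈ closure R, x * (t * x * t) = ι ⟨p, hp⟩}
        one_mem' := ⟨one_mem _, 1, one_mem _, by rw [hone]; exact (map_one ι).symm⟩
        mul_mem' := by
          rintro p q ⟨hp, x, hx, e⟩ ⟨hq, y, hy, e'⟩
          exact ⟨mul_mem hp hq, x * y, mul_mem hx hy, by rw [hmul x hx y hy, e, e', ← map_mul]; rfl⟩
        inv_mem' := by
          rintro p ⟨hp, x, hx, e⟩
          exact ⟨inv_mem hp, x⁻¹, inv_mem hx, by rw [hinv x hx, e, ← map_inv]; rfl⟩ }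
    have hW : An n ≤ W := by
      show alternatingGroup (Fin n) ≤ W
      rw [← Perm.closure_three_cycles_eq_alternating, closure_le]
      intro p hp
      have hpA : p ∈ A := hA (Perm.IsThreeCycle.mem_alternatingGroup hp)
      obtain ⟨x, hx, e⟩ := three ⟨p, hpA⟩ hp
      exact ⟨hpA, x, hx, e⟩
    obtain ⟨_, x, hx, e⟩ := hW ha
    exact ⟨x, hx, e⟩
  · intro σ x hx
    induction hx using closure_induction with
    | mem r hr => exact norm σ r hr
    | one => rw [mul_one, mul_inv_cancel]; exact one_mem _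
    | mul x y _ _ e e' =>
      have : ι σ * (x * y) * (ι σ)⁻¹ = ι σ * x * (ι σ)⁻¹ * (ι σ * y * (ι σ)⁻¹) := by group
      rw [this]; exact mul_mem e e'
    | inv x _ e =>
      have : ι σ * x⁻¹ * (ι σ)⁻¹ = (ι σ * x * (ι σ)⁻¹)⁻¹ := by group
      rw [this]; exact inv_mem e

end Two

end Cfsg.Agent.OddHalf.D5.SymEnd

end
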